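import Mathlib
import Cfsg.Prelude.Def_SporadicB
import Cfsg.Agent.SporadicStructure.FischerSpace
import Cfsg.Agent.Fischer920.RackIso
import Cfsg.Agent.S0440
import Cfsg.Agent.S0752
import Cfsg.Agent.LieClassical.SympCenter

set_option autoImplicit false

/-!
# Recognition of `Sp(2n, 2)` from a class of 3-transpositions with singular lines of size three
-/

namespace Cfsg.Agent.Fischer3.SpCase

open Cfsg Cfsg.Agent.SporadicStructure.FischerSpace
open Cfsg.Agent.ClassicalGeometry.SympBasic

variable {G : Type*} [Group G] {D : Set G}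

/-- the singular line of two commuting members -/
def Line (D : Set G) (x y : G) : Set G :=
  {z | z ∈ D ∧ ∀ d ∈ D, Commute d x → Commute d y → Commute d z}

/-- the hypotheses: a polar space with lines of size three and hyperbolic lines of size three -/
structure Hyps (D : Set G) : Prop where
  fd : FData D
  center : ∀ g : G, (∀ d ∈ D, Commute g d) → g = 1
  noTwins : ∀ x ∈ D, ∀ y ∈ D, (∀ d ∈ D, Commute d x ↔ Commute d y) → x = y
  card : ∀ x ∈ D, ∀ y ∈ D, x ≠ y → Commute x y → (Line D x y).ncard = 3
  one : ∀ x ∈ D, ∀ y ∈ D, x ≠ y → Commute x y → ∀ d ∈ D, ∃ z ∈ Line D x y, Commute d z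
  hyp : ∀ x ∈ D, ∀ y ∈ D, ¬ Commute x y → ∀ z ∈ D,
    (∀ d ∈ D, Commute d x → Commute d y → Commute d z) → z = x ∨ z = y ∨ z = x * y * x

theorem left_mem_line {x : G} (hx : x ∈ D) (y : G) : x ∈ Line D x y := ⟨hx, fun _ _ h _ => h⟩

theorem right_mem_line (x : G) {y : G} (hy : y ∈ D) : y ∈ Line D x y := ⟨hy, fun _ _ _ h => h⟩

namespace Hyps

/-- the third point of a singular line -/
theorem exists_third (h : Hyps D) {x y : G} (hx : x ∈ D) (hy : y ∈ D) (hxy : x ≠ y)
    (hc : Commute x y) :
    ∃ z, z ≠ x ∧ z ≠ y ∧ Line D x y = {x, y, z} := by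
  have hcard := h.card x hx y hy hxy hc
  have hxl : x ∈ Line D x y := left_mem_line hx y
  have hyl : y ∈ Line D x y := right_mem_line x hy
  rw [Set.ncard_eq_three] at hcard
  obtain ⟨a, b, c, hab, hac, hbc, hL⟩ := hcard
  rw [hL] at hxl hyl ⊢
  simp only [Set.mem_insert_iff, Set.mem_singleton_iff] at hxl hyl
  rcases hxl with rfl | rfl | rfl <;> rcases hyl with rfl | rfl | rfl
  · exact absurd rfl hxy
  · exact ⟨c, hac.symm, hbc.symm, rfl⟩
  · exact ⟨b, hab.symm, hbc, by ext t; simp; tauto⟩
  · exact ⟨c, hbc.symm, hac.symm, by ext t; simp; tauto⟩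
  · exact absurd rfl hxy
  · exact ⟨a, hab, hac, by ext t; simp; tauto⟩
  · exact ⟨b, hbc, hab.symm, by ext t; simp; tauto⟩
  · exact ⟨a, hac, hab, by ext t; simp; tauto⟩
  · exact absurd rfl hxy

theorem line_eq (h : Hyps D) {x y z : G} (hx : x ∈ D) (hy : y ∈ D) (hxy : x ≠ y)
    (hc : Commute x y) (hz : z ∈ Line D x y) (hzx : z ≠ x) : Line D x z = Line D x y := by
  have hcz : Commute x z := hz.2 x hx (Commute.refl x) hc
  have hsub : Line D x z ⊆ Line D x y := fun w hw =>
    ⟨hw.1, fun d hd hdx hdy => hw.2 d hd hdx (hz.2 d hd hdx hdy)⟩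
  have hfin : (Line D x y).Finite := by
    apply Set.finite_of_ncard_ne_zero
    rw [h.card x hx y hy hxy hc]
    omega
  apply Set.eq_of_subset_of_ncard_le hsub _ hfin
  rw [h.card x hx y hy hxy hc, h.card x hx z hz.1 (Ne.symm hzx) hcz]

open Classical in
/-- 0 if commuting, 1 otherwise -/
noncomputable def c (x y : G) : ZMod 2 := if Commute x y then 0 else 1

theorem c_comm (x y : G) : c x y = c y x := by
  unfold c
  by_cases hxy : Commute x y
  · rw [if_pos hxy, if_pos hxy.symm]
  · rw [if_neg hxy, if_neg (fun h => hxy h.symm)]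

theorem c_eq_zero {x y : G} : c x y = 0 ↔ Commute x y := by
  unfold c
  by_cases hxy : Commute x y
  · simp [hxy]
  · simp [hxy]

theorem c_eq_one {x y : G} : c x y = 1 ↔ ¬ Commute x y := by
  unfold c
  by_cases hxy : Commute x y
  · simp [hxy]
  · simp [hxy]

/-- singular lines add up to zero -/
theorem sum_line (h : Hyps D) {x y z d : G} (hx : x ∈ D) (hy : y ∈ D) (hd : d ∈ D) (hxy : x ≠ y)
    (hc : Commute x y) (hzx : z ≠ x) (hzy : z ≠ y) (hL : Line D x y = {x, y, z}) :
    c d x + c d y = c d z := by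
  have hz : z ∈ Line D x y := by rw [hL]; simp
  have h1 : Commute d x → Commute d y → Commute d z := hz.2 d hd
  have hyx : y ∈ Line D x z := by
    rw [h.line_eq hx hy hxy hc hz hzx]
    exact right_mem_line x hy
  have h2 : Commute d x → Commute d z → Commute d y := hyx.2 d hd
  have hLc : Line D y x = Line D x y := by
    ext t
    constructor
    · rintro ⟨ht, h'⟩
      exact ⟨ht, fun d hd a b => h' d hd b a⟩
    · rintro ⟨ht, h'⟩
      exact ⟨ht, fun d hd a b => h' d hd b a⟩
  have hxy' : x ∈ Line D y z := by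
    rw [h.line_eq hy hx hxy.symm hc.symm (by rw [hLc]; exact hz) hzy]
    exact right_mem_line y hx
  have h3 : Commute d y → Commute d z → Commute d x := hxy'.2 d hd
  obtain ⟨w, hw, hdw⟩ := h.one x hx y hy hxy hc d hd
  rw [hL] at hw
  simp only [Set.mem_insert_iff, Set.mem_singleton_iff] at hw
  by_cases a1 : Commute d x
  · by_cases a2 : Commute d y
    · rw [c_eq_zero.2 a1, c_eq_zero.2 a2, c_eq_zero.2 (h1 a1 a2), add_zero]
    · rw [c_eq_zero.2 a1, c_eq_one.2 a2, c_eq_one.2 (fun a3 => a2 (h2 a1 a3)), zero_add]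
  · by_cases a2 : Commute d y
    · rw [c_eq_one.2 a1, c_eq_zero.2 a2, c_eq_one.2 (fun a3 => a1 (h3 a2 a3)), add_zero]
    · have a3 : Commute d z := by
        rcases hw with rfl | rfl | rfl
        · exact absurd hdw a1
        · exact absurd hdw a2
        · exact hdw
      rw [c_eq_one.2 a1, c_eq_one.2 a2, c_eq_zero.2 a3]
      decide

/-- hyperbolic lines: every member commutes with one point of the line -/
theorem hyp_one (h : Hyps D) {x a d : G} (hx : x ∈ D) (ha : a ∈ D) (hd : d ∈ D)
    (hxa : ¬ Commute x a) (hdx : ¬ Commute d x) (hda : ¬ Commute d a) :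
    Commute d (x * a * x) := by
  by_contra hde
  have he : x * a * x ∈ D := h.fd.conj' hx ha
  have hkey : ∀ w ∈ D, Commute w x → Commute w a → Commute w d := by
    intro w hw hwx hwa
    have hxw : x ≠ w := by
      rintro rfl
      exact hxa hwa
    -- the line through `x` and `w`
    obtain ⟨z, hzx, hzw, hL⟩ := h.exists_third hx hw hxw hwx.symm
    have hzL : z ∈ Line D x w := by rw [hL]; simp
    by_contra hwd
    -- `d` commutes with `z`
    have hdz : Commute d z := by
      obtain ⟨t, ht, hdt⟩ := h.one x hx w hw hxw hwx.symm d hd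
      rw [hL] at ht
      simp only [Set.mem_insert_iff, Set.mem_singleton_iff] at ht
      rcases ht with rfl | rfl | rfl
      · exact absurd hdt hdx
      · exact absurd hdt.symm hwd
      · exact hdt
    -- the point `g = d * a * d`
    have hg : d * a * d ∈ D := h.fd.conj' hd ha
    have hgx : ¬ Commute (d * a * d) x := by
      intro hh
      -- x commutes with d a d = a d a ; conjugating by a : d commutes with a x a = x a x
      apply hde
      have e1 : d * a * d = a * d * a := h.fd.braid d hd a ha hda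
      have e2 : x * a * x = a * x * a := h.fd.braid x hx a ha hxa
      rw [e1] at hh
      rw [e2]
      have := (h.fd.commute_conj_iff ha (a * d * a) x).2 hh
      rw [h.fd.conj_conj ha] at this
      exact this
    obtain ⟨t, ht, hgt⟩ := h.one x hx w hw hxw hwx.symm _ hg
    rw [hL] at ht
    simp only [Set.mem_insert_iff, Set.mem_singleton_iff] at ht
    have hbr : d * a * d = a * d * a := h.fd.braid d hd a ha hda
    rcases ht with rfl | rfl | rfl
    · exact hgx hgt
    · -- `w` commutes with `a` and `a d a`, so with `d`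
      apply hwd
      rw [hbr] at hgt
      have h1 : Commute t (a * (a * d * a) * a) := (hwa.mul_right hgt.symm).mul_right hwa
      rwa [h.fd.conj_conj ha] at h1
    · -- `z` commutes with `d` and `d a d`, so with `a`, and then ...
      have h1 : Commute t (d * (d * a * d) * d) := (hdz.symm.mul_right hgt.symm).mul_right hdz.symm
      rw [h.fd.conj_conj hd] at h1
      -- `a` commutes with `w` and `z`, so with `x`
      have hLc : Line D w x = Line D x w := by
        ext s
        constructor
        · rintro ⟨hs, h'⟩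
          exact ⟨hs, fun d hd a b => h' d hd b a⟩
        · rintro ⟨hs, h'⟩
          exact ⟨hs, fun d hd a b => h' d hd b a⟩
      have h2 : x ∈ Line D w t := by
        rw [h.line_eq hw hx hxw.symm hwx (by rw [hLc]; exact hzL) hzw]
        exact right_mem_line w hx
      exact hxa ((h2.2 a ha hwa.symm h1.symm).symm)
  rcases h.hyp x hx a ha hxa d hd (fun w hw h1 h2 => hkey w hw h1 h2) with rfl | rfl | rfl
  · exact hdx (Commute.refl _)
  · exact hda (Commute.refl _)
  · exact hde (Commute.refl _)

/-- hyperbolic lines add up to zero -/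
theorem sum_hyp (h : Hyps D) {x a d : G} (hx : x ∈ D) (ha : a ∈ D) (hd : d ∈ D)
    (hxa : ¬ Commute x a) : c d x + c d a = c d (x * a * x) := by
  by_cases a1 : Commute d x
  · by_cases a2 : Commute d a
    · rw [c_eq_zero.2 a1, c_eq_zero.2 a2, c_eq_zero.2 ((a1.mul_right a2).mul_right a1), add_zero]
    · rw [c_eq_zero.2 a1, c_eq_one.2 a2, c_eq_one.2, zero_add]
      intro a3
      apply a2
      have := (a1.mul_right a3).mul_right a1
      rwa [h.fd.conj_conj hx] at this
  · by_cases a2 : Commute d a
    · rw [c_eq_one.2 a1, c_eq_zero.2 a2, c_eq_one.2, add_zero]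
      intro a3
      apply a1
      rw [h.fd.braid x hx a ha hxa] at a3
      have := (a2.mul_right a3).mul_right a2
      rwa [h.fd.conj_conj ha] at this
    · rw [c_eq_one.2 a1, c_eq_one.2 a2, c_eq_zero.2 (h.hyp_one hx ha hd hxa a1 a2)]
      decide

/-! ### The symplectic space -/

/-- the row of the noncommuting matrix -/
noncomputable def phi (x : ↥D) : ↥D → ZMod 2 := fun d => c (d : G) x

theorem phi_ne_zero (h : Hyps D) (x : ↥D) : phi x ≠ 0 := by
  intro h0
  have h1 : (x : G) = 1 := by
    apply h.center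
    intro d hd
    have := congrFun h0 ⟨d, hd⟩
    exact (c_eq_zero.1 this).symm
  exact h.fd.ne_one x x.2 h1

theorem phi_injective (h : Hyps D) : Function.Injective (phi (D := D)) := by
  intro x y hxy
  apply Subtype.ext
  apply h.noTwins x x.2 y y.2
  intro d hd
  have := congrFun hxy ⟨d, hd⟩
  have h2 : c d (x : G) = c d (y : G) := this
  rw [← c_eq_zero, ← c_eq_zero, h2]

theorem zmod_cases (a : ZMod 2) : a = 0 ∨ a = 1 := by
  revert a
  decide

/-- the space spanned by the members -/
def V (h : Hyps D) : Submodule (ZMod 2) (↥D → ZMod 2) where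
  carrier := {v | v = 0 ∨ ∃ x : ↥D, v = phi x}
  zero_mem' := Or.inl rfl
  add_mem' := by
    rintro v w (rfl | ⟨x, rfl⟩) (rfl | ⟨y, rfl⟩)
    · left; simp
    · right; exact ⟨y, by simp⟩
    · right; exact ⟨x, by simp⟩
    · by_cases hxy : x = y
      · subst hxy
        left
        funext d
        show phi x d + phi x d = 0
        rcases zmod_cases (phi x d) with h1 | h1 <;> rw [h1] <;> decide
      · right
        by_cases hc : Commute (x : G) y
        · obtain ⟨z, hzx, hzy, hL⟩ := h.exists_third x.2 y.2 (fun h => hxy (Subtype.ext h)) hc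
          have hz : z ∈ Line D (x : G) y := by rw [hL]; simp
          refine ⟨⟨z, hz.1⟩, ?_⟩
          funext d
          exact h.sum_line x.2 y.2 d.2 (fun h => hxy (Subtype.ext h)) hc hzx hzy hL
        · refine ⟨⟨(x : G) * y * x, h.fd.conj' x.2 y.2⟩, ?_⟩
          funext d
          exact h.sum_hyp x.2 y.2 d.2 hc
  smul_mem' := by
    rintro a v hv
    rcases zmod_cases a with rfl | rfl
    · left; simp
    · rw [one_smul]; exact hv

/-- the members as vectors -/
noncomputable def vec (h : Hyps D) (x : ↥D) : V h := ⟨phi x, Or.inr ⟨x, rfl⟩⟩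

theorem vec_injective (h : Hyps D) : Function.Injective h.vec := fun x y hxy =>
  h.phi_injective (congrArg Subtype.val hxy)

theorem vec_ne_zero (h : Hyps D) (x : ↥D) : h.vec x ≠ 0 := fun h0 =>
  h.phi_ne_zero x (congrArg Subtype.val h0)

theorem eq_vec (h : Hyps D) (v : V h) : v = 0 ∨ ∃ x : ↥D, v = h.vec x := by
  rcases v.2 with h1 | ⟨x, h1⟩
  · left; exact Subtype.ext h1
  · right; exact ⟨x, Subtype.ext h1⟩

open Classical in
/-- the form, as a function -/
noncomputable def form (h : Hyps D) (v w : V h) : ZMod 2 :=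
  if hw : ∃ y : ↥D, w = h.vec y then v.1 (Classical.choose hw) else 0

theorem form_vec (h : Hyps D) (v : V h) (y : ↥D) : h.form v (h.vec y) = v.1 y := by
  have hw : ∃ y' : ↥D, h.vec y = h.vec y' := ⟨y, rfl⟩
  unfold form
  rw [dif_pos hw]
  have := Classical.choose_spec hw
  rw [← h.vec_injective this]

theorem form_zero (h : Hyps D) (v : V h) : h.form v 0 = 0 := by
  unfold form
  rw [dif_neg]
  rintro ⟨y, hy⟩
  exact h.vec_ne_zero y hy.symm

theorem vec_form (h : Hyps D) (x : ↥D) (w : V h) : h.form (h.vec x) w = w.1 x := by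
  rcases h.eq_vec w with rfl | ⟨y, rfl⟩
  · rw [form_zero]; rfl
  · rw [form_vec]
    exact c_comm _ _

theorem zero_form (h : Hyps D) (w : V h) : h.form 0 w = 0 := by
  rcases h.eq_vec w with rfl | ⟨y, rfl⟩
  · rw [form_zero]
  · rw [form_vec]; rfl

/-- the symplectic form -/
noncomputable def B (h : Hyps D) : LinearMap.BilinForm (ZMod 2) (V h) :=
  LinearMap.mk₂ (ZMod 2) h.form
    (by
      intro v v' w
      rcases h.eq_vec w with rfl | ⟨y, rfl⟩
      · rw [form_zero, form_zero, form_zero, add_zero]
      · rw [form_vec, form_vec, form_vec]; rfl)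
    (by
      intro a v w
      rcases h.eq_vec w with rfl | ⟨y, rfl⟩
      · rw [form_zero, form_zero, smul_zero]
      · rw [form_vec, form_vec]; rfl)
    (by
      intro v w w'
      rcases h.eq_vec v with rfl | ⟨x, rfl⟩
      · rw [zero_form, zero_form, zero_form, add_zero]
      · rw [vec_form, vec_form, vec_form]; rfl)
    (by
      intro a v w
      rcases h.eq_vec v with rfl | ⟨x, rfl⟩
      · rw [zero_form, zero_form, smul_zero]
      · rw [vec_form, vec_form]; rfl)

theorem B_apply (h : Hyps D) (v w : V h) : h.B v w = h.form v w := rfl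

theorem B_vec_vec (h : Hyps D) (x y : ↥D) : h.B (h.vec x) (h.vec y) = c (x : G) y := by
  rw [B_apply, vec_form]
  rfl

theorem B_isAlt (h : Hyps D) : h.B.IsAlt := by
  intro v
  rcases h.eq_vec v with rfl | ⟨x, rfl⟩
  · rw [B_apply, form_zero]
  · rw [B_vec_vec]
    exact c_eq_zero.2 (Commute.refl _)

theorem eq_zero_of_B (h : Hyps D) (v : V h) (hv : ∀ w, h.B v w = 0) : v = 0 := by
  apply Subtype.ext
  funext d
  have := hv (h.vec d)
  rw [B_apply, form_vec] at this
  exact this

/-- a symplectic coordinate system -/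
theorem exists_coord [Finite G] (h : Hyps D) : ∃ (m : ℕ) (e : V h ≃ₗ[ZMod 2] (Fin m ⊕ Fin m → ZMod 2)),
    ∀ v w, sympForm m (ZMod 2) (e v) (e w) = h.B v w := by
  haveI : Finite ↥D := inferInstance
  haveI : Module.Finite (ZMod 2) (V h) := inferInstance
  obtain ⟨m, k, b, h1, h2, h3, h4⟩ := Cfsg.Agent.S0752.result h.B h.B_isAlt
  haveI : IsEmpty (Fin k) := by
    constructor
    intro j
    exact b.ne_zero (Sum.inr j) (h.eq_zero_of_B _ (h4 j))
  let b' : Module.Basis (Fin m ⊕ Fin m) (ZMod 2) (V h) := b.reindex (Equiv.sumEmpty _ _)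
  have hb' : ∀ i, b' i = b (Sum.inl i) := by
    intro i
    simp [b']
  refine ⟨m, b'.equivFun, ?_⟩
  have key : (sympBilin m (ZMod 2)).compl₁₂ (b'.equivFun : V h →ₗ[ZMod 2] _)
      (b'.equivFun : V h →ₗ[ZMod 2] _) = h.B := by
    apply b'.ext
    intro i
    apply b'.ext
    intro j
    have hs : ∀ i, b'.equivFun (b' i) = Pi.single i 1 := by
      intro i
      funext t
      rw [Module.Basis.equivFun_self, Pi.single_apply]
      by_cases hti : i = t
      · simp [hti]
      · simp [hti, Ne.symm hti]
    have hval : ((sympBilin m (ZMod 2)).compl₁₂ (b'.equivFun : V h →ₗ[ZMod 2] _)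
      (b'.equivFun : V h →ₗ[ZMod 2] _)) (b' i) (b' j) =
        sympForm m (ZMod 2) (Pi.single i 1) (Pi.single j 1) := by
      show sympForm m (ZMod 2) (b'.equivFun (b' i)) (b'.equivFun (b' j)) = _
      rw [hs, hs]
    rw [hval, hb', hb']
    have hneg : ∀ v w, h.B v w = h.B w v := by
      intro v w
      have := h.B_isAlt.neg_eq v w
      rw [← this]
      rcases zmod_cases (h.B v w) with h1 | h1 <;> rw [h1] <;> decide
    rcases i with i | i <;> rcases j with j | j
    · rw [h2, sympForm_single_inl_left]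
      simp
    · rw [h1, sympForm_single_inl_left]
      by_cases hij : i = j
      · subst hij; simp
      · simp [hij, Ne.symm hij]
    · rw [hneg, h1, sympForm_single_inr_left]
      by_cases hij : i = j
      · subst hij; simp
      · simp [hij, Ne.symm hij]
    · rw [h3, sympForm_single_inr_left]
      simp
  intro v w
  have := congrArg (fun f => f v w) key
  exact this

end Hyps

theorem transv_commute_iff {m : ℕ} {u v : Fin m ⊕ Fin m → ZMod 2} (hu : u ≠ 0) :
    Commute (transv u (1 : ZMod 2)) (transv v 1) ↔ sympForm m (ZMod 2) u v = 0 := by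
  have h1 := S0440.conj_transv' (n := m) u v
  constructor
  · intro hc
    rcases Hyps.zmod_cases (sympForm m (ZMod 2) u v) with h0 | h0
    · exact h0
    · exfalso
      rw [hc.eq, mul_assoc, S0440.transv_mul_self, mul_one, sympForm_swap, h0] at h1
      have h2 : transv v (1 : ZMod 2) = transv (v + u) 1 := by
        rw [h1]
        congr 1
        simp
      -- evaluate at a vector
      have h3 : ∀ x, x + (sympForm m (ZMod 2) x v) • v
          = x + (sympForm m (ZMod 2) x (v + u)) • (v + u) := by
        intro x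
        rw [← S0440.transv_mulVec, ← S0440.transv_mulVec, h2]
      have hvu : ∀ x, (sympForm m (ZMod 2) x v) • v
          = (sympForm m (ZMod 2) x (v + u)) • (v + u) := fun x => add_left_cancel (h3 x)
      by_cases hv : v = 0
      · subst hv
        have h00 : sympForm m (ZMod 2) u 0 = 0 := by
          have := sympForm_smul_right (0 : ZMod 2) u (0 : Fin m ⊕ Fin m → ZMod 2)
          rwa [zero_smul, zero_mul] at this
        rw [h00] at h0
        exact zero_ne_one h0
      · obtain ⟨y, hy⟩ := S0440.exists_form_one hv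
        have h4 := hvu y
        rw [hy, one_smul] at h4
        rcases Hyps.zmod_cases (sympForm m (ZMod 2) y (v + u)) with h5 | h5
        · rw [h5, zero_smul] at h4
          exact hv h4
        · rw [h5, one_smul] at h4
          exact hu (by simpa using h4.symm)
  · intro h0
    have h0' : sympForm m (ZMod 2) v u = 0 := by rw [sympForm_swap, h0, neg_zero]
    rw [h0', zero_smul, add_zero] at h1
    show transv u 1 * transv v (1 : ZMod 2) = transv v 1 * transv u 1
    calc transv u 1 * transv v (1 : ZMod 2)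
        = (transv u 1 * transv v 1 * transv u 1) * transv u (1 : ZMod 2) := by
          rw [mul_assoc (transv u 1 * transv v 1), S0440.transv_mul_self, mul_one]
      _ = transv v 1 * transv u 1 := by rw [h1]

/-- **Recognition of `Sp(2m, 2)`** -/
theorem exists_equiv_sp [Finite G] (h : Hyps D) :
    ∃ (m : ℕ) (e : G ≃* Matrix.symplecticGroup (Fin m) (ZMod 2)), 1 ≤ m ∧
      ∀ g : G, g ∈ D ↔
        ((e g : Matrix (Fin m ⊕ Fin m) (Fin m ⊕ Fin m) (ZMod 2)) - 1).rank = 1 := by
  obtain ⟨m, E, hE⟩ := h.exists_coord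
  obtain ⟨x0, hx0⟩ := h.fd.nonempty
  have hm : 1 ≤ m := by
    by_contra hlt
    have hm0 : m = 0 := by omega
    subst hm0
    apply h.vec_ne_zero ⟨x0, hx0⟩
    apply E.injective
    funext i
    rcases i with i | i <;> exact i.elim0
  have hcls := Cfsg.Agent.S0440.result m hm
  set D₂ : Set (Matrix.symplecticGroup (Fin m) (ZMod 2)) :=
    {g | ((g : Matrix (Fin m ⊕ Fin m) (Fin m ⊕ Fin m) (ZMod 2)) - 1).rank = 1} with hD₂
  have hD₂' : ∀ g, g ∈ D₂ ↔ ∃ v : Fin m ⊕ Fin m → ZMod 2, v ≠ 0 ∧ g = transv v 1 :=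
    fun g => S0440.rank_one_iff g
  have hne : ∀ x : ↥D, E (h.vec x) ≠ 0 := by
    intro x hx
    exact h.vec_ne_zero x (E.injective (by rw [hx, map_zero]))
  have htinj : ∀ u v : Fin m ⊕ Fin m → ZMod 2, u ≠ 0 → v ≠ 0 →
      transv u (1 : ZMod 2) = transv v 1 → u = v := by
    intro u v hu hv huv
    obtain ⟨y, hy⟩ := S0440.exists_form_one hu
    have h1 := S0440.transv_mulVec u y
    rw [huv, S0440.transv_mulVec, hy, one_smul] at h1
    have h2 := add_left_cancel h1
    rcases Hyps.zmod_cases (sympForm m (ZMod 2) y v) with h3 | h3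
    · rw [h3, zero_smul] at h2
      exact absurd h2.symm hu
    · rw [h3, one_smul] at h2
      exact h2.symm
  let f : ↥D → ↥D₂ := fun x => ⟨transv (E (h.vec x)) 1, (hD₂' _).2 ⟨_, hne x, rfl⟩⟩
  have hfb : Function.Bijective f := by
    constructor
    · intro x y hxy
      have h1 : transv (E (h.vec x)) (1 : ZMod 2) = transv (E (h.vec y)) 1 :=
        congrArg Subtype.val hxy
      exact h.vec_injective (E.injective (htinj _ _ (hne x) (hne y) h1))
    · rintro ⟨g, hg⟩
      obtain ⟨v, hv, rfl⟩ := (hD₂' g).1 hg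
      rcases h.eq_vec (E.symm v) with h1 | ⟨x, h1⟩
      · exfalso
        apply hv
        rw [← E.apply_symm_apply v, h1, map_zero]
      · refine ⟨x, Subtype.ext ?_⟩
        show transv (E (h.vec x)) 1 = transv v 1
        rw [← h1, E.apply_symm_apply]
  let φ : ↥D ≃ ↥D₂ := Equiv.ofBijective f hfb
  have hφ : ∀ x : ↥D, ((φ x : ↥D₂) : Matrix.symplecticGroup (Fin m) (ZMod 2)) =
      transv (E (h.vec x)) 1 := fun x => rfl
  have hz : Subgroup.center G = ⊥ := by
    rw [eq_bot_iff]
    intro g hg
    rw [Subgroup.mem_center_iff] at hg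
    rw [Subgroup.mem_bot]
    exact h.center g (fun d _ => (hg d).symm)
  obtain ⟨e, he⟩ := Cfsg.Agent.Fischer920.RackIso.exists_equiv h.fd (fdata_of_class hcls) hz h.hyp φ
    (by
      intro a b
      rw [hφ, hφ, transv_commute_iff (hne a), hE, h.B_vec_vec, Hyps.c_eq_zero])
  have hz₂ : Subgroup.center (Matrix.symplecticGroup (Fin m) (ZMod 2)) = ⊥ := by
    rw [eq_bot_iff]
    intro A hA
    obtain ⟨a, ha⟩ := (Cfsg.Agent.LieClassical.SympCenter.mem_center_iff m A).1 hA
    rw [Subgroup.mem_bot]
    rcases Hyps.zmod_cases a with rfl | rfl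
    · exfalso
      have h1 : (A : Matrix (Fin m ⊕ Fin m) (Fin m ⊕ Fin m) (ZMod 2)) = 0 := by
        rw [ha, zero_smul]
      have h2 : ((A * A⁻¹ : Matrix.symplecticGroup (Fin m) (ZMod 2)) :
          Matrix (Fin m ⊕ Fin m) (Fin m ⊕ Fin m) (ZMod 2)) = 0 := by
        rw [Submonoid.coe_mul, h1, zero_mul]
      rw [mul_inv_cancel, OneMemClass.coe_one] at h2
      have h3 := congrFun (congrFun h2 (Sum.inl ⟨0, hm⟩)) (Sum.inl ⟨0, hm⟩)
      rw [Matrix.one_apply_eq] at h3
      exact one_ne_zero h3
    · apply Subtype.ext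
      rw [ha, one_smul]
      rfl
  let q : Matrix.symplecticGroup (Fin m) (ZMod 2) ⧸ Subgroup.center
      (Matrix.symplecticGroup (Fin m) (ZMod 2)) ≃* Matrix.symplecticGroup (Fin m) (ZMod 2) :=
    (QuotientGroup.quotientMulEquivOfEq hz₂).trans QuotientGroup.quotientBot
  have hq : ∀ A : Matrix.symplecticGroup (Fin m) (ZMod 2), q (QuotientGroup.mk A) = A :=
    fun A => rfl
  refine ⟨m, e.trans q, hm, ?_⟩
  intro g
  have hval : ∀ a : ↥D, (e.trans q) (a : G) = (φ a : Matrix.symplecticGroup (Fin m) (ZMod 2)) := by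
    intro a
    show q (e a) = _
    rw [he, hq]
  constructor
  · intro hg
    rw [hval ⟨g, hg⟩]
    exact (φ ⟨g, hg⟩).2
  · intro hg
    obtain ⟨a, ha⟩ := φ.surjective ⟨(e.trans q) g, hg⟩
    have h1 := hval a
    rw [ha] at h1
    have h2 : (a : G) = g := (e.trans q).injective h1
    rw [← h2]
    exact a.2

end Cfsg.Agent.Fischer3.SpCase
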