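import Mathlib

set_option autoImplicit false
set_option linter.unusedSimpArgs false
set_option linter.unusedSectionVars false

/-!
# Symmetric bilinear forms over the field with three elements

Norm one vectors, isotropic vectors, reflections, and the existence lemmas needed for the
recognition of the orthogonal 3-transposition groups over `ZMod 3`.
-/

namespace Cfsg.Agent.Fischer3.Orth3Basic

open LinearMap (BilinForm)

theorem three : (3 : ZMod 3) = 0 := rfl

theorem cases3 (a : ZMod 3) : a = 0 ∨ a = 1 ∨ a = -1 := by revert a; decide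

theorem mul_self_of_ne {a : ZMod 3} (h : a ≠ 0) : a * a = 1 := by revert a; decide

theorem pm_of_ne {a : ZMod 3} (h : a ≠ 0) : a = 1 ∨ a = -1 := by
  rcases cases3 a with h1 | h1 | h1
  · exact absurd h1 h
  · exact Or.inl h1
  · exact Or.inr h1

variable {V : Type*} [AddCommGroup V] [Module (ZMod 3) V]

theorem three_smul' (v : V) : (3 : ZMod 3) • v = 0 := by rw [three, zero_smul]

theorem neg_eq_add (v : V) : -v = v + v := by
  linear_combination (norm := module) -three_smul' v

/-- a nondegenerate symmetric form -/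
structure Form (B : BilinForm (ZMod 3) V) : Prop where
  symm : ∀ v w, B v w = B w v
  nondeg : ∀ v, (∀ w, B v w = 0) → v = 0

/-- the reflection in a norm one vector -/
def rfn (B : BilinForm (ZMod 3) V) (v w : V) : V := w + B v w • v

section

variable {B : BilinForm (ZMod 3) V}

theorem refl_def (v w : V) : rfn B v w = w + B v w • v := rfl

theorem refl_neg_left (v w : V) : rfn B (-v) w = rfn B v w := by
  simp [rfn]

theorem refl_neg_right (v w : V) : rfn B v (-w) = - rfn B v w := by
  simp [rfn]; abel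

theorem refl_self {v : V} (hv : B v v = 1) : rfn B v v = -v := by
  rw [rfn, hv, one_smul, neg_eq_add]

theorem refl_of_perp {v w : V} (h : B v w = 0) : rfn B v w = w := by
  rw [rfn, h, zero_smul, add_zero]

theorem refl_refl {v : V} (hv : B v v = 1) (w : V) : rfn B v (rfn B v w) = w := by
  simp only [rfn, map_add, map_smul, hv, smul_eq_mul]
  linear_combination (norm := module) (B v w) • three_smul' v

end

namespace Form

variable {B : BilinForm (ZMod 3) V} (F : Form B)

include F

theorem refl_refl_apply {v : V} (hv : B v v = 1) (w w' : V) :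
    B (rfn B v w) (rfn B v w') = B w w' := by
  simp only [rfn, map_add, map_smul, LinearMap.add_apply, LinearMap.smul_apply, smul_eq_mul, hv]
  rw [F.symm w v]
  linear_combination (B v w * B v w') * three

theorem refl_norm {v : V} (hv : B v v = 1) (w : V) : B (rfn B v w) (rfn B v w) = B w w :=
  F.refl_refl_apply hv w w

theorem apply_refl {v : V} (hv : B v v = 1) (w w' : V) :
    B (rfn B v w) w' = B w (rfn B v w') := by
  rw [← F.refl_refl_apply hv (rfn B v w) w', refl_refl hv]

/-- norm of a linear combination of two vectors -/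
theorem norm_add (v w : V) : B (v + w) (v + w) = B v v + 2 * B v w + B w w := by
  simp only [map_add, LinearMap.add_apply]
  rw [F.symm w v]
  ring

theorem norm_sub (v w : V) : B (v - w) (v - w) = B v v - 2 * B v w + B w w := by
  simp only [map_sub, LinearMap.sub_apply]
  rw [F.symm w v]
  ring

omit F in
theorem norm_smul (a : ZMod 3) (v : V) : B (a • v) (a • v) = a * a * B v v := by
  simp only [map_smul, LinearMap.smul_apply, smul_eq_mul]
  ring

/-- a vector outside the span of a finite family can be separated from it -/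
theorem exists_dual {ι : Type*} [Finite ι] (u : ι → V) {z : V}
    (hz : z ∉ Submodule.span (ZMod 3) (Set.range u)) :
    ∃ t, (∀ i, B (u i) t = 0) ∧ B z t = 1 := by
  classical
  by_contra hcon
  push Not at hcon
  have hker : ∀ t, (∀ i, B (u i) t = 0) → B z t = 0 := by
    intro t ht
    by_contra hne
    refine hcon (B z t • t) (fun i => by rw [map_smul, ht i, smul_zero]) ?_
    rw [map_smul, smul_eq_mul, mul_self_of_ne hne]
  have hmem : B z ∈ Submodule.span (ZMod 3) (Set.range (fun i => B (u i))) := by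
    apply mem_span_of_iInf_ker_le_ker
    intro t ht
    rw [Submodule.mem_iInf] at ht
    rw [LinearMap.mem_ker]
    exact hker t (fun i => LinearMap.mem_ker.1 (ht i))
  have himg : (Set.range fun i => B (u i)) = (B : V →ₗ[ZMod 3] V →ₗ[ZMod 3] ZMod 3) '' Set.range u := by
    rw [← Set.range_comp]
    rfl
  rw [himg, ← Submodule.map_span] at hmem
  obtain ⟨z', hz', he⟩ := hmem
  apply hz
  have h0 : z - z' = 0 := by
    apply F.nondeg
    intro w
    rw [map_sub, LinearMap.sub_apply]
    rw [← he]
    exact sub_self _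
  rw [sub_eq_zero] at h0
  rw [h0]
  exact hz'

theorem exists_one {z : V} (hz : z ≠ 0) : ∃ t, B z t = 1 := by
  obtain ⟨t, -, ht⟩ := F.exists_dual (fun i : Fin 0 => (i.elim0 : V)) (z := z) (by
    rw [Set.range_eq_empty, Submodule.span_empty, Submodule.mem_bot]
    exact hz)
  exact ⟨t, ht⟩

/-- An isotropic vector outside the span of a family orthogonal to it: there is a norm one vector
orthogonal to the family but not to it. -/
theorem exists_norm_one_of_isotropic {ι : Type*} [Finite ι] (u : ι → V) {z : V} (hz0 : B z z = 0)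
    (hu : ∀ i, B (u i) z = 0) (hz : z ∉ Submodule.span (ZMod 3) (Set.range u)) :
    ∃ s, B s s = 1 ∧ (∀ i, B (u i) s = 0) ∧ B z s ≠ 0 := by
  obtain ⟨t, ht, hzt⟩ := F.exists_dual u hz
  refine ⟨z - (t + B t t • z), ?_, ?_, ?_⟩
  · have h1 : B t z = 1 := by rw [F.symm]; exact hzt
    simp only [map_sub, map_add, map_smul, LinearMap.sub_apply, LinearMap.add_apply,
      LinearMap.smul_apply, smul_eq_mul, hz0, hzt, h1]
    linear_combination (B t t - 1) * three
  · intro i
    rw [map_sub, map_add, map_smul, ht i, hu i]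
    simp
  · rw [map_sub, map_add, map_smul, hz0, hzt]
    simp

omit F in
theorem exists_perp_not_mem [Module.Finite (ZMod 3) V] {k : ℕ} (u : Fin k → V)
    (U : Submodule (ZMod 3) V)
    (h : k + Module.finrank (ZMod 3) U < Module.finrank (ZMod 3) V) :
    ∃ t, (∀ i, B (u i) t = 0) ∧ t ∉ U := by
  by_contra hcon
  push Not at hcon
  have hle : LinearMap.ker (LinearMap.pi (fun i => B (u i))) ≤ U := by
    intro t ht
    apply hcon
    intro i
    rw [LinearMap.mem_ker] at ht
    exact congrFun ht i
  have h1 := Submodule.finrank_mono hle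
  have h2 := LinearMap.finrank_range_add_finrank_ker (LinearMap.pi (fun i => B (u i)))
  have h3 : Module.finrank (ZMod 3) (LinearMap.range (LinearMap.pi (fun i => B (u i)))) ≤ k := by
    calc Module.finrank (ZMod 3) (LinearMap.range (LinearMap.pi (fun i => B (u i))))
        ≤ Module.finrank (ZMod 3) (Fin k → ZMod 3) := Submodule.finrank_le _
      _ = k := by simp
  omega

/-- anisotropic vectors orthogonal to a family -/
theorem exists_aniso [Module.Finite (ZMod 3) V] {k : ℕ} (u : Fin k → V)
    (U : Submodule (ZMod 3) V)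
    (hU : ∀ t ∈ Submodule.span (ZMod 3) (Set.range u), (∀ i, B (u i) t = 0) → t ∈ U)
    (h : k + Module.finrank (ZMod 3) U < Module.finrank (ZMod 3) V) :
    ∃ t, (∀ i, B (u i) t = 0) ∧ B t t ≠ 0 := by
  by_contra hcon
  push Not at hcon
  obtain ⟨t, ht, htU⟩ := exists_perp_not_mem (B := B) u U h
  obtain ⟨s, hs, hts⟩ := F.exists_dual u (z := t) (fun h1 => htU (hU t h1 ht))
  have h1 := hcon t ht
  have h2 := hcon s hs
  have h3 := hcon (t + s) (fun i => by rw [map_add, ht i, hs i, add_zero])
  rw [F.norm_add, h1, h2, hts] at h3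
  exact absurd h3 (by decide)

/-- norm one vectors orthogonal to a family -/
theorem exists_norm_one [Module.Finite (ZMod 3) V] {k : ℕ} (u : Fin k → V)
    (U : Submodule (ZMod 3) V)
    (hU : ∀ t ∈ Submodule.span (ZMod 3) (Set.range u), (∀ i, B (u i) t = 0) → t ∈ U)
    (h : k + 1 + Module.finrank (ZMod 3) U < Module.finrank (ZMod 3) V) :
    ∃ t, (∀ i, B (u i) t = 0) ∧ B t t = 1 := by
  obtain ⟨t, ht, htt⟩ := F.exists_aniso u U hU (by omega)
  rcases pm_of_ne htt with h1 | h1
  · exact ⟨t, ht, h1⟩
  obtain ⟨s, hs, hss⟩ := F.exists_aniso (Fin.cons t u : Fin (k + 1) → V) U (by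
    intro z hz hz'
    rw [Fin.range_cons, Submodule.mem_span_insert] at hz
    obtain ⟨a, y, hy, rfl⟩ := hz
    have hty : B t y = 0 := by
      have : ∀ y ∈ Submodule.span (ZMod 3) (Set.range u), B t y = 0 := by
        intro y hy
        induction hy using Submodule.span_induction with
        | mem x hx => obtain ⟨i, rfl⟩ := hx; rw [F.symm]; exact ht i
        | zero => simp
        | add x y _ _ hx hy => rw [map_add, hx, hy, add_zero]
        | smul a x _ hx => rw [map_smul, hx, smul_zero]
      exact this y hy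
    have h0 := hz' 0
    rw [Fin.cons_zero, map_add, map_smul, hty, add_zero, h1, smul_eq_mul] at h0
    have ha : a = 0 := by
      have h5 : ∀ a : ZMod 3, a * -1 = 0 → a = 0 := by decide
      exact h5 a h0
    rw [ha, zero_smul, zero_add]
    apply hU y hy
    intro i
    have h2 := hz' i.succ
    rw [Fin.cons_succ, ha, zero_smul, zero_add] at h2
    exact h2) h
  have hst : B t s = 0 := hs 0
  have hs' : ∀ i, B (u i) s = 0 := fun i => by
    have := hs i.succ
    rwa [Fin.cons_succ] at this
  rcases pm_of_ne hss with h2 | h2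
  · exact ⟨s, hs', h2⟩
  · refine ⟨t + s, fun i => by rw [map_add, ht i, hs' i, add_zero], ?_⟩
    rw [F.norm_add, h1, h2, hst]
    decide

/-- common neighbour of two orthogonal isotropic vectors -/
theorem exists_L0 {w0 w : V} (h0 : B w0 w0 = 0) (hw0 : w0 ≠ 0) (hw : w ≠ 0)
    (h : B w0 w = 0) : ∃ v, B v v = 0 ∧ B v w0 ≠ 0 ∧ B v w ≠ 0 := by
  -- first find any vector `t`
  obtain ⟨t, ht0, htw⟩ : ∃ t, B t w0 ≠ 0 ∧ B t w ≠ 0 := by
    obtain ⟨t1, ht1⟩ := F.exists_one hw0
    obtain ⟨t2, ht2⟩ := F.exists_one hw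
    rw [F.symm] at ht1 ht2
    by_cases h1 : B t1 w = 0
    · by_cases h2 : B t2 w0 = 0
      · refine ⟨t1 + t2, ?_, ?_⟩
        · rw [map_add, LinearMap.add_apply, ht1, h2]; decide
        · rw [map_add, LinearMap.add_apply, ht2, h1]; decide
      · exact ⟨t2, h2, by rw [ht2]; decide⟩
    · exact ⟨t1, by rw [ht1]; decide, h1⟩
  have ht0' : B w0 t ≠ 0 := by rw [F.symm]; exact ht0
  refine ⟨t + (B t t * B w0 t) • w0, ?_, ?_, ?_⟩
  · rw [F.norm_add, norm_smul, h0, map_smul, F.symm t w0, smul_eq_mul]
    have := mul_self_of_ne ht0'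
    linear_combination (2 * B t t) * this + (B t t) * three
  · rw [map_add, LinearMap.add_apply, map_smul, LinearMap.smul_apply, h0, smul_zero, add_zero]
    exact ht0
  · rw [map_add, LinearMap.add_apply, map_smul, LinearMap.smul_apply, h, smul_zero, add_zero]
    exact htw

/-- common neighbour of a pair of nonorthogonal isotropic vectors and a third one orthogonal to
both -/
theorem exists_L2 {w0 w w' : V} (h0 : B w0 w0 = 0) (hw0 : w0 ≠ 0) (h1 : B w w = 0)
    (h2 : B w' w' = 0) (h01 : B w0 w = 0) (h02 : B w0 w' = 0) (h12 : B w w' ≠ 0) :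
    ∃ v, B v v = 0 ∧ B v w0 ≠ 0 ∧ B v w ≠ 0 ∧ B v w' ≠ 0 := by
  have hnot : w0 ∉ Submodule.span (ZMod 3) (Set.range ![w, w']) := by
    rw [Matrix.range_cons, Matrix.range_cons, Matrix.range_empty, Set.union_empty,
      Set.singleton_union, Submodule.mem_span_pair]
    rintro ⟨a, b, rfl⟩
    apply hw0
    rw [map_add, map_smul, map_smul, LinearMap.add_apply, LinearMap.smul_apply,
      LinearMap.smul_apply, h1, F.symm w' w, smul_zero, zero_add, smul_eq_mul] at h01
    rw [map_add, map_smul, map_smul, LinearMap.add_apply, LinearMap.smul_apply,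
      LinearMap.smul_apply, h2, smul_zero, add_zero, smul_eq_mul] at h02
    have hb : b = 0 := (mul_eq_zero.1 h01).resolve_right h12
    have ha : a = 0 := (mul_eq_zero.1 h02).resolve_right h12
    rw [ha, hb, zero_smul, zero_smul, add_zero]
  obtain ⟨t, ht, ht0⟩ := F.exists_dual ![w, w'] hnot
  have htw : B w t = 0 := ht 0
  have htw' : B w' t = 0 := ht 1
  refine ⟨t + B t t • w0 + (w + B w w' • w' - w0), ?_, ?_, ?_, ?_⟩
  · simp only [map_add, map_sub, map_smul, LinearMap.add_apply, LinearMap.sub_apply,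
      LinearMap.smul_apply, smul_eq_mul, h0, h1, h2, h01, h02, htw, htw', ht0,
      F.symm t w0, F.symm t w, F.symm t w', F.symm w w0, F.symm w' w0, F.symm w' w]
    have := mul_self_of_ne h12
    linear_combination 2 * this + (B t t) * three
  · simp only [map_add, map_sub, map_smul, LinearMap.add_apply, LinearMap.sub_apply,
      LinearMap.smul_apply, smul_eq_mul, h0, h1, h2, h01, h02, htw, htw', ht0,
      F.symm t w0, F.symm t w, F.symm t w', F.symm w w0, F.symm w' w0, F.symm w' w]
    simp
  · simp only [map_add, map_sub, map_smul, LinearMap.add_apply, LinearMap.sub_apply,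
      LinearMap.smul_apply, smul_eq_mul, h0, h1, h2, h01, h02, htw, htw', ht0,
      F.symm t w0, F.symm t w, F.symm t w', F.symm w w0, F.symm w' w0, F.symm w' w]
    rw [mul_self_of_ne h12]
    simp
  · simp only [map_add, map_sub, map_smul, LinearMap.add_apply, LinearMap.sub_apply,
      LinearMap.smul_apply, smul_eq_mul, h0, h1, h2, h01, h02, htw, htw', ht0,
      F.symm t w0, F.symm t w, F.symm t w', F.symm w w0, F.symm w' w0, F.symm w' w]
    simpa using h12

end Form

/-- the properties of a nondegenerate form over `ZMod 3` that the recognition theorem needs; they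
hold in dimension at least five, see `Good.of_finrank` -/
structure Good (B : BilinForm (ZMod 3) V) : Prop extends Form B where
  P0 : ∀ u u', B u u = 0 → B u' u' = 0 → B u u' ≠ 0 → ∃ s, B s s = 1 ∧ B u s = 0 ∧ B u' s = 0
  P1 : ∀ p u, B p p = 1 → u ≠ 0 → B u u = 0 → B p u = 0 → ∃ s, B s s = 1 ∧ B p s = 0 ∧ B u s = 0
  P2 : ∀ p u u', B p p = 1 → B u u = 0 → B u' u' = 0 → B u u' ≠ 0 → B p u = 0 → B p u' = 0 →
    ∃ s, B s s = 1 ∧ B p s = 0 ∧ B u s = 0 ∧ B u' s = 0
  L1 : ∀ w0 v v', B w0 w0 = 0 → B v v = 0 → B v' v' = 0 → B v w0 = 1 → B v' w0 = 1 → B v v' = 0 →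
    v ≠ v' → ∃ t, B t t ≠ 0 ∧ B w0 t = 0 ∧ B v t = 0 ∧ B v' t = 0

theorem Good.of_finrank [Module.Finite (ZMod 3) V] {B : BilinForm (ZMod 3) V} (F : Form B)
    (hn : 5 ≤ Module.finrank (ZMod 3) V) : Good B where
  toForm := F
  P0 := by
    intro u u' hu hu' huu'
    obtain ⟨s, hs, hs1⟩ := F.exists_norm_one ![u, u'] ⊥ (by
      intro t ht ht'
      rw [Matrix.range_cons, Matrix.range_cons, Matrix.range_empty, Set.union_empty,
        Set.singleton_union, Submodule.mem_span_pair] at ht
      obtain ⟨a, b, rfl⟩ := ht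
      have h1 : B u (a • u + b • u') = 0 := ht' 0
      have h2 : B u' (a • u + b • u') = 0 := ht' 1
      simp only [map_add, map_smul, smul_eq_mul, hu, hu', F.symm u' u, mul_zero, zero_add,
        add_zero] at h1 h2
      have h3 : b = 0 := (mul_eq_zero.1 h1).resolve_right huu'
      have h4 : a = 0 := (mul_eq_zero.1 h2).resolve_right huu'
      simp [h3, h4]) (by
      rw [finrank_bot]
      omega)
    exact ⟨s, hs1, hs 0, hs 1⟩
  P1 := by
    intro p u hp hu hu0 hpu
    obtain ⟨s, hs, hs1⟩ := F.exists_norm_one ![p, u] (Submodule.span (ZMod 3) {u}) (by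
      intro t ht ht'
      rw [Matrix.range_cons, Matrix.range_cons, Matrix.range_empty, Set.union_empty,
        Set.singleton_union, Submodule.mem_span_pair] at ht
      obtain ⟨a, b, rfl⟩ := ht
      have h1 : B p (a • p + b • u) = 0 := ht' 0
      rw [map_add, map_smul, map_smul, hp, hpu, smul_zero, add_zero, smul_eq_mul, mul_one] at h1
      rw [h1, zero_smul, zero_add]
      exact Submodule.smul_mem _ _ (Submodule.mem_span_singleton_self u)) (by
      rw [finrank_span_singleton hu]
      omega)
    exact ⟨s, hs1, hs 0, hs 1⟩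
  P2 := by
    intro p u u' hp hu hu' huu' hpu hpu'
    obtain ⟨s, hs, hs1⟩ := F.exists_norm_one ![p, u, u'] ⊥ (by
      intro t ht ht'
      rw [Submodule.mem_span_range_iff_exists_fun] at ht
      obtain ⟨c, rfl⟩ := ht
      rw [Fin.sum_univ_three] at ht' ⊢
      have h0 : B p (c 0 • p + c 1 • u + c 2 • u') = 0 := ht' 0
      have h1 : B u (c 0 • p + c 1 • u + c 2 • u') = 0 := ht' 1
      have h2 : B u' (c 0 • p + c 1 • u + c 2 • u') = 0 := ht' 2
      simp only [map_add, map_smul, smul_eq_mul, hp, hu, hu', hpu, hpu', F.symm u p, F.symm u' p,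
        F.symm u' u, mul_zero, mul_one, zero_add, add_zero] at h0 h1 h2
      have h3 : c 1 = 0 := (mul_eq_zero.1 h2).resolve_right huu'
      have h4 : c 2 = 0 := (mul_eq_zero.1 h1).resolve_right huu'
      simp [h0, h3, h4]) (by
      rw [finrank_bot]
      omega)
    exact ⟨s, hs1, hs 0, hs 1, hs 2⟩
  L1 := by
    intro w0 v v' h0 hv hv' hvw hvw' hvv' hne
    obtain ⟨t, ht, htt⟩ := F.exists_aniso ![w0, v, v'] (Submodule.span (ZMod 3) {v - v'}) (by
      intro t ht ht'
      rw [Submodule.mem_span_range_iff_exists_fun] at ht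
      obtain ⟨c, rfl⟩ := ht
      rw [Fin.sum_univ_three] at ht' ⊢
      have h1 : B w0 (c 0 • w0 + c 1 • v + c 2 • v') = 0 := ht' 0
      have h2 : B v (c 0 • w0 + c 1 • v + c 2 • v') = 0 := ht' 1
      simp only [map_add, map_smul, smul_eq_mul, h0, hv, hv', hvw, hvw', hvv', F.symm w0 v,
        F.symm w0 v', mul_zero, mul_one, zero_add, add_zero] at h1 h2
      have h3 : c 2 = - c 1 := by linear_combination h1
      show c 0 • w0 + c 1 • v + c 2 • v' ∈ _
      rw [h2, h3, zero_smul, zero_add, neg_smul, ← sub_eq_add_neg, ← smul_sub]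
      exact Submodule.smul_mem _ _ (Submodule.mem_span_singleton_self _)) (by
      rw [finrank_span_singleton (sub_ne_zero.2 hne)]
      omega)
    exact ⟨t, htt, ht 0, ht 1, ht 2⟩

/-- an isotropic vector orthogonal to `p` is determined up to sign by the norm one vectors
orthogonal to `p` and to it -/
theorem Good.iso_eq {B : BilinForm (ZMod 3) V} (hG : Good B) {p u u' : V} (hp : B p p = 1)
    (hu : B u u = 0) (hu' : B u' u' = 0) (hpu : B p u = 0)
    (hpu' : B p u' = 0) (hne : u' ≠ 0)
    (hs : ∀ s, B s s = 1 → B p s = 0 → B u s = 0 → B u' s = 0) : u' = u ∨ u' = -u := by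
  have F := hG.toForm
  by_cases h0 : B u u' = 0
  · by_cases h1 : u' ∈ Submodule.span (ZMod 3) (Set.range ![p, u])
    · rw [Matrix.range_cons, Matrix.range_cons, Matrix.range_empty, Set.union_empty,
        Set.singleton_union, Submodule.mem_span_pair] at h1
      obtain ⟨a, b, rfl⟩ := h1
      rw [map_add, map_smul, map_smul, hp, hpu, smul_zero, add_zero, smul_eq_mul, mul_one] at hpu'
      rw [hpu', zero_smul, zero_add] at hne ⊢
      rcases cases3 b with h | h | h
      · rw [h, zero_smul] at hne
        exact absurd rfl hne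
      · left; rw [h, one_smul]
      · right; rw [h, neg_smul, one_smul]
    · exfalso
      obtain ⟨s, hs1, hs2, hs3⟩ := F.exists_norm_one_of_isotropic ![p, u] hu' (by
        intro i
        fin_cases i
        · exact hpu'
        · exact h0) h1
      exact hs3 (hs s hs1 (hs2 0) (hs2 1))
  · exfalso
    obtain ⟨s, hs1, hps, hus, hu's⟩ := hG.P2 p u u' hp hu hu' h0 hpu hpu'
    have := hs (s + u) (by rw [F.norm_add, hs1, F.symm s u, hus, hu]; decide)
      (by rw [map_add, hps, hpu, add_zero]) (by rw [map_add, hus, hu, add_zero])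
    rw [map_add, hu's, zero_add, F.symm] at this
    exact h0 this

/-- an isotropic vector is determined up to sign by the norm one vectors orthogonal to it -/
theorem Good.iso_eq' {B : BilinForm (ZMod 3) V} (hG : Good B) {u u' : V}
    (hu : B u u = 0) (hu' : B u' u' = 0) (hne : u' ≠ 0)
    (hs : ∀ s, B s s = 1 → B u s = 0 → B u' s = 0) : u' = u ∨ u' = -u := by
  have F := hG.toForm
  by_cases h0 : B u u' = 0
  · by_cases h1 : u' ∈ Submodule.span (ZMod 3) (Set.range ![u])
    · rw [Matrix.range_cons, Matrix.range_empty, Set.union_empty,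
        Submodule.mem_span_singleton] at h1
      obtain ⟨b, rfl⟩ := h1
      rcases cases3 b with h | h | h
      · rw [h, zero_smul] at hne
        exact absurd rfl hne
      · left; rw [h, one_smul]
      · right; rw [h, neg_smul, one_smul]
    · exfalso
      obtain ⟨s, hs1, hs2, hs3⟩ := F.exists_norm_one_of_isotropic ![u] hu' (by
        intro i
        fin_cases i
        exact h0) h1
      exact hs3 (hs s hs1 (hs2 0))
  · exfalso
    obtain ⟨s, hs1, hus, hu's⟩ := hG.P0 u u' hu hu' h0
    have := hs (s + u) (by rw [F.norm_add, hs1, F.symm s u, hus, hu]; decide)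
      (by rw [map_add, hus, hu, add_zero])
    rw [map_add, hu's, zero_add, F.symm] at this
    exact h0 this

/-- common neighbour of two nonorthogonal isotropic vectors -/
theorem Good.exists_L0' {B : BilinForm (ZMod 3) V} (hG : Good B) {w0 w : V} (h0 : B w0 w0 = 0)
    (hw : B w w = 0) (h : B w0 w ≠ 0) : ∃ v, B v v = 0 ∧ B v w0 ≠ 0 ∧ B v w ≠ 0 := by
  have F := hG.toForm
  obtain ⟨s, hs, h1, h2⟩ := hG.P0 w0 w h0 hw h
  refine ⟨w + B w0 w • w0 + s, ?_, ?_, ?_⟩
  · simp only [map_add, map_smul, LinearMap.add_apply, LinearMap.smul_apply, smul_eq_mul, h0, hw,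
      h1, h2, hs, F.symm s w0, F.symm s w, F.symm w w0]
    have := mul_self_of_ne h
    linear_combination 2 * this + three
  · simp only [map_add, map_smul, LinearMap.add_apply, LinearMap.smul_apply, smul_eq_mul, h0, hw,
      h1, h2, hs, F.symm s w0, F.symm s w, F.symm w w0]
    simpa using h
  · simp only [map_add, map_smul, LinearMap.add_apply, LinearMap.smul_apply, smul_eq_mul, h0, hw,
      h1, h2, hs, F.symm s w0, F.symm s w, F.symm w w0, mul_self_of_ne h]
    decide

/-- common neighbour of four isotropic vectors -/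
theorem Good.exists_common {B : BilinForm (ZMod 3) V} (hG : Good B) {w0 w v v' : V}
    (h0 : B w0 w0 = 0) (hv : B v v = 0) (hv' : B v' v' = 0) (h0w : B w0 w = 0)
    (hvw0 : B v w0 ≠ 0) (hv'w0 : B v' w0 ≠ 0) (hvv' : B v v' = 0) (hvw : B v w ≠ 0)
    (hne : v ≠ v') (hne' : v ≠ -v') :
    ∃ z, B z z = 0 ∧ B z w0 ≠ 0 ∧ B z w ≠ 0 ∧ B z v ≠ 0 ∧ B z v' ≠ 0 := by
  have F := hG.toForm
  -- normalised case
  have key : ∀ v v' : V, B v v = 0 → B v' v' = 0 → B v w0 = 1 → B v' w0 = 1 → B v v' = 0 →
      B v w ≠ 0 → v ≠ v' →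
      ∃ z, B z z = 0 ∧ B z w0 ≠ 0 ∧ B z w ≠ 0 ∧ B z v ≠ 0 ∧ B z v' ≠ 0 := by
    intro v v' hv hv' hvw0 hv'w0 hvv' hvw hne
    obtain ⟨t, htt, h1, h2, h3⟩ := hG.L1 w0 v v' h0 hv hv' hvw0 hv'w0 hvv' hne
    have key2 : ∀ t : V, B t t ≠ 0 → B w0 t = 0 → B v t = 0 → B v' t = 0 → B v w + B t w ≠ 0 →
        ∃ z, B z z = 0 ∧ B z w0 ≠ 0 ∧ B z w ≠ 0 ∧ B z v ≠ 0 ∧ B z v' ≠ 0 := by
      intro t htt h1 h2 h3 h4
      refine ⟨B t t • w0 + v + t, ?_, ?_, ?_, ?_, ?_⟩
      · simp only [map_add, map_smul, LinearMap.add_apply, LinearMap.smul_apply, smul_eq_mul, h0,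
          hv, hvw0, h1, h2, F.symm w0 v, F.symm t w0, F.symm t v]
        linear_combination (B t t) * three
      · simp only [map_add, map_smul, LinearMap.add_apply, LinearMap.smul_apply, smul_eq_mul, h0,
          hv, hvw0, h1, h2, F.symm w0 v, F.symm t w0, F.symm t v]
        simp
      · simp only [map_add, map_smul, LinearMap.add_apply, LinearMap.smul_apply, smul_eq_mul, h0w]
        simpa using h4
      · simp only [map_add, map_smul, LinearMap.add_apply, LinearMap.smul_apply, smul_eq_mul, h0,
          hv, hvw0, h1, h2, F.symm w0 v, F.symm t w0, F.symm t v]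
        simpa using htt
      · simp only [map_add, map_smul, LinearMap.add_apply, LinearMap.smul_apply, smul_eq_mul, h0,
          hv, hvv', hvw0, hv'w0, h1, h2, h3, F.symm w0 v', F.symm t w0, F.symm t v']
        simpa using htt
    have h5 : B v w + B t w ≠ 0 ∨ B v w - B t w ≠ 0 := by
      have : ∀ a b : ZMod 3, a ≠ 0 → a + b ≠ 0 ∨ a - b ≠ 0 := by decide
      exact this _ _ hvw
    rcases h5 with h5 | h5
    · exact key2 t htt h1 h2 h3 h5
    · refine key2 (-t) (by simpa using htt) (by simpa using h1) (by simpa using h2)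
        (by simpa using h3) ?_
      rw [map_neg, LinearMap.neg_apply, ← sub_eq_add_neg]
      exact h5
  have e1 := mul_self_of_ne hvw0
  have e2 := mul_self_of_ne hv'w0
  have hne2 : B v w0 • v ≠ B v' w0 • v' := by
    intro he
    rcases pm_of_ne hvw0 with h1 | h1 <;> rcases pm_of_ne hv'w0 with h2 | h2 <;>
      rw [h1, h2] at he
    · exact hne (by simpa using he)
    · exact hne' (by simpa using he)
    · apply hne'
      have : -v = v' := by simpa using he
      rw [← this, neg_neg]
    · exact hne (by simpa using he)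
  obtain ⟨z, hz, z0, z1, z2, z3⟩ := key (B v w0 • v) (B v' w0 • v')
    (by rw [Form.norm_smul, hv, mul_zero]) (by rw [Form.norm_smul, hv', mul_zero])
    (by rw [map_smul, LinearMap.smul_apply, smul_eq_mul, e1])
    (by rw [map_smul, LinearMap.smul_apply, smul_eq_mul, e2])
    (by simp only [map_smul, LinearMap.smul_apply, hvv', smul_zero])
    (by
      rw [map_smul, LinearMap.smul_apply, smul_eq_mul]
      exact mul_ne_zero hvw0 hvw) hne2
  refine ⟨z, hz, z0, z1, ?_, ?_⟩
  · intro h1
    exact z2 (by rw [map_smul, h1, smul_zero])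
  · intro h1
    exact z3 (by rw [map_smul, h1, smul_zero])

end Cfsg.Agent.Fischer3.Orth3Basic
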