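import Mathlib
import Cfsg.Agent.Fischer3.Orth3Basic
import Cfsg.Agent.Fischer480.Defs
import Cfsg.Agent.SporadicStructure.FischerRank3

set_option autoImplicit false
set_option linter.unusedSimpArgs false
set_option linter.unusedSectionVars false

/-!
# Fischer groups whose local spaces are orthogonal spaces over `ZMod 3`

Parametrisation of `D_x` by norm one vectors, uniqueness of the third point of a line, the
uniqueness theorem "`D_x ∩ D_a` determines `a` up to `a^x`" and the local form of `D_x ∩ D_a`.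
-/

namespace Cfsg.Agent.Fischer3.Orth3Coord

open LinearMap (BilinForm)
open Cfsg.Agent.Fischer480.Defs Cfsg.Agent.Fischer3.Orth3Basic
open Cfsg.Agent.SporadicStructure.FischerSpace Cfsg.Agent.SporadicStructure.FischerRank3

section Group

variable {G : Type*} [Group G] {D : Set G}

/-- `a^{xy}` commutes with `a` (symmetric group of degree four) -/
theorem s4_comm (h : FData D) {a x y : G} (ha : a ∈ D) (hx : x ∈ D) (hy : y ∈ D)
    (hxy : Commute x y) (hax : ¬ Commute a x) (hay : ¬ Commute a y) :
    Commute (x * (y * a * y) * x) a := by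
  have hbx := h.braid a ha x hx hax
  have hby := h.braid a ha y hy hay
  rw [h.commute_conj_left_iff hx, ← hby, ← hbx, h.commute_conj_iff ha]
  exact hxy.symm

theorem s4_ne (h : FData D) {a x y : G} (ha : a ∈ D) (hx : x ∈ D) (hy : y ∈ D)
    (hax : ¬ Commute a x) (hay : ¬ Commute a y) (hne : x ≠ y) :
    x * (y * a * y) * x ≠ a := by
  intro he
  have hbx := h.braid a ha x hx hax
  have hby := h.braid a ha y hy hay
  have h1 : y * a * y = x * a * x := by
    rw [← h.conj_conj hx (y * a * y), he]
  rw [← hbx, ← hby] at h1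
  exact hne (mul_left_cancel (mul_right_cancel h1)).symm

end Group

section FG

variable {G : Type*} [Group G] [Finite G] {D : Set G}

theorem fd (hD : FGroup D) : FData D := fdata_of_class hD.cls

/-- noncommuting pairs are conjugate -/
theorem conj_noncomm (hD : FGroup D) {x a x' a' : G} (hx : x ∈ D) (ha : a ∈ D) (hx' : x' ∈ D)
    (ha' : a' ∈ D) (hxa : ¬ Commute x a) (hxa' : ¬ Commute x' a') :
    ∃ g : G, g * x * g⁻¹ = x' ∧ g * a * g⁻¹ = a' := by
  have h := fd hD
  obtain ⟨g, rfl⟩ := h.single x hx x' hx'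
  have h1 : ¬ Commute (g * x * g⁻¹) (g * a * g⁻¹) := by
    rw [FData.commute_conj_gen]; exact hxa
  obtain ⟨k, hk, hk'⟩ := col_trans h hD.sol hD.perf hx' (h.conj g a ha) ha' h1 hxa'
  refine ⟨k * g, ?_, ?_⟩
  · calc k * g * x * (k * g)⁻¹ = k * (g * x * g⁻¹) * k⁻¹ := by group
      _ = _ := hk
  · calc k * g * a * (k * g)⁻¹ = k * (g * a * g⁻¹) * k⁻¹ := by group
      _ = _ := hk'

/-- noncommuting members have a common commuting member -/
theorem exists_common_perp (hD : FGroup D) {x a : G} (hx : x ∈ D) (ha : a ∈ D)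
    (hxa : ¬ Commute x a) : ∃ y ∈ D, Commute x y ∧ Commute a y ∧ y ≠ x ∧ y ≠ a := by
  have h := fd hD
  by_contra hcon
  push Not at hcon
  have hall : ∀ p q r : G, p ∈ D → q ∈ D → r ∈ D → Commute q p → Commute q r → q ≠ p → q ≠ r →
      Commute p r := by
    intro p q r hp hq hr hqp hqr hne1 hne2
    by_contra hpr
    obtain ⟨g, rfl, rfl⟩ := conj_noncomm hD hp hr hx ha hpr hxa
    refine hne2 (mul_left_cancel (mul_right_cancel (hcon (g * q * g⁻¹) (h.conj g q hq) ?_ ?_ ?_)))
    · rw [FData.commute_conj_gen]; exact hqp.symm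
    · rw [FData.commute_conj_gen]; exact hqr.symm
    · intro he
      exact hne1 (mul_left_cancel (mul_right_cancel he))
  have hq : InvEquiv D (fun p q => p ∈ D ∧ q ∈ D ∧ Commute p q) := by
    refine ⟨fun h1 => h1.1, fun hp => ⟨hp, hp, Commute.refl _⟩, fun h1 => ⟨h1.2.1, h1.1, h1.2.2.symm⟩,
      ?_, ?_⟩
    · rintro p q r ⟨hp, hq, hpq⟩ ⟨-, hr, hqr⟩
      refine ⟨hp, hr, ?_⟩
      by_cases h1 : q = p
      · rw [← h1]; exact hqr
      by_cases h2 : q = r
      · rw [← h2]; exact hpq
      exact hall p q r hp hq hr hpq.symm hqr h1 h2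
    · rintro g p q ⟨hp, hq, hpq⟩
      refine ⟨h.conj g p hp, h.conj g q hq, ?_⟩
      rw [FData.commute_conj_gen]; exact hpq
  rcases Cfsg.Agent.SporadicStructure.FischerPrimitive.primitive h hD.sol hD.perf hq with h1 | h1
  · obtain ⟨z, hz, hne, hc⟩ :=
      Cfsg.Agent.SporadicStructure.FischerPrimitive.exists_perp h hD.sol hD.perf x hx
    exact hne (h1 x z ⟨hx, hz, hc⟩).symm
  · exact hxa (h1 x hx a ha).2.2

end FG

variable {G : Type*} [Group G] {D : Set G}
variable {V : Type*} [AddCommGroup V] [Module (ZMod 3) V] {B : BilinForm (ZMod 3) V}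

/-- parametrisation of `E` by norm one vectors, compatible with commuting -/
structure Par0 (E : Set G) (B : BilinForm (ZMod 3) V) (f : V → G) : Prop where
  mem : ∀ v, B v v = 1 → f v ∈ E
  surj : ∀ d ∈ E, ∃ v, B v v = 1 ∧ f v = d
  inj : ∀ v w, B v v = 1 → B w w = 1 → f v = f w → v = w ∨ v = -w
  neg : ∀ v, B v v = 1 → f (-v) = f v
  comm : ∀ v w, B v v = 1 → B w w = 1 → (Commute (f v) (f w) ↔ B v w = 0 ∨ v = w ∨ v = -w)

/-- parametrisation of `E` by norm one vectors, compatible with conjugation -/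
structure Par (E : Set G) (B : BilinForm (ZMod 3) V) (f : V → G) : Prop extends Par0 E B f where
  conj : ∀ v w, B v v = 1 → B w w = 1 → f v * f w * f v = f (rfn B v w)

theorem perp_ne {v w : V} (hv : B v v = 1) (h : B v w = 0) : v ≠ w ∧ v ≠ -w := by
  constructor
  · rintro rfl
    rw [hv] at h
    exact absurd h (by decide)
  · intro h1
    have h2 : w = -v := by rw [h1, neg_neg]
    rw [h2, map_neg, hv] at h
    exact absurd h (by decide)

namespace Par0

variable {E : Set G} {f : V → G}

/-- commuting and different iff orthogonal -/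
theorem comm_ne_iff (P : Par0 E B f) {v w : V} (hv : B v v = 1) (hw : B w w = 1) :
    (Commute (f v) (f w) ∧ f v ≠ f w) ↔ B v w = 0 := by
  constructor
  · rintro ⟨h1, h2⟩
    rcases (P.comm v w hv hw).1 h1 with h3 | h3 | h3
    · exact h3
    · exact absurd (by rw [h3]) h2
    · exact absurd (by rw [h3, P.neg w hw]) h2
  · intro h
    refine ⟨(P.comm v w hv hw).2 (Or.inl h), fun h1 => ?_⟩
    rcases P.inj v w hv hw h1 with h2 | h2
    · exact (perp_ne hv h).1 h2
    · exact (perp_ne hv h).2 h2

theorem commute_of_perp (P : Par0 E B f) {v w : V} (hv : B v v = 1) (hw : B w w = 1)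
    (h : B v w = 0) : Commute (f v) (f w) := (P.comm v w hv hw).2 (Or.inl h)

/-- norm one vectors with product `1`: not commuting unless equal up to sign -/
theorem not_commute (P : Par0 E B f) {v w : V} (hv : B v v = 1) (hw : B w w = 1)
    (h : B v w ≠ 0) (h1 : v ≠ w) (h2 : v ≠ -w) : ¬ Commute (f v) (f w) := by
  intro h3
  rcases (P.comm v w hv hw).1 h3 with h4 | h4 | h4
  · exact h h4
  · exact h1 h4
  · exact h2 h4

theorem ne_zero_of_not_commute (P : Par0 E B f) {v w : V} (hv : B v v = 1) (hw : B w w = 1)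
    (h : ¬ Commute (f v) (f w)) : B v w ≠ 0 := fun h1 => h (P.commute_of_perp hv hw h1)

end Par0

/-- the third point of a line -/
theorem third_unique (hG : Good B) {v w z : V} (hv : B v v = 1) (hw : B w w = 1)
    (hz : B z z = 1) (hvw : B v w ≠ 0) (hvz : B v z ≠ 0) (hzv : z ≠ v) (hzv' : z ≠ -v)
    (hzw : z ≠ w) (hzw' : z ≠ -w)
    (hs : ∀ s, B s s = 1 → B v s = 0 → B w s = 0 → B z s = 0) :
    z = rfn B v w ∨ z = - rfn B v w := by
  have F := hG.toForm
  have e1 := mul_self_of_ne hvw
  have e2 := mul_self_of_ne hvz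
  have hvz1 : B v z • z ≠ v := by
    rcases pm_of_ne hvz with h1 | h1
    · rw [h1, one_smul]; exact hzv
    · rw [h1, neg_smul, one_smul]
      intro h2
      exact hzv' (by rw [← h2, neg_neg])
  rcases hG.iso_eq (p := v) (u := B v w • w - v) (u' := B v z • z - v) hv
    (by
      rw [F.norm_sub, Form.norm_smul, hw, hv, map_smul, LinearMap.smul_apply, F.symm w v,
        smul_eq_mul, e1]
      decide)
    (by
      rw [F.norm_sub, Form.norm_smul, hz, hv, map_smul, LinearMap.smul_apply, F.symm z v,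
        smul_eq_mul, e2]
      decide)
    (by rw [map_sub, map_smul, smul_eq_mul, e1, hv, sub_self])
    (by rw [map_sub, map_smul, smul_eq_mul, e2, hv, sub_self])
    (sub_ne_zero.2 hvz1)
    (by
      intro s hs1 hvs hus
      rw [map_sub, map_smul, LinearMap.sub_apply, LinearMap.smul_apply, hvs, sub_zero,
        smul_eq_mul] at hus ⊢
      rw [hs s hs1 hvs ((mul_eq_zero.1 hus).resolve_left hvw), mul_zero]) with h | h
  · exfalso
    have h3 : B v z • z = B v w • w := sub_left_injective h
    rcases pm_of_ne hvw with h1 | h1 <;> rcases pm_of_ne hvz with h2 | h2 <;>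
      rw [h1, h2] at h3
    · exact hzw (by simpa using h3)
    · apply hzw'
      have : -z = w := by simpa using h3
      rw [← this, neg_neg]
    · exact hzw' (by simpa using h3)
    · exact hzw (by simpa using h3)
  · have h3 : B v z • z = - (B v w • rfn B v w) := by
      have h4 : B v z • z = v - (B v w • w - v) := by
        rw [sub_eq_iff_eq_add] at h
        rw [h]
        abel
      rw [h4, rfn]
      linear_combination (norm := module) three_smul' v + e1 • v
    rcases pm_of_ne hvw with h1 | h1 <;> rcases pm_of_ne hvz with h2 | h2 <;>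
      rw [h1, h2] at h3
    · right; simpa using h3
    · left; simpa using h3
    · left; simpa using h3
    · right
      have : -z = rfn B v w := by simpa using h3
      rw [← this, neg_neg]

namespace Par0

variable {x : G} {f : V → G}

/-- a parametrisation of `D_x` compatible with commuting is compatible with conjugation -/
theorem toPar (h : FData D) (hG : Good B) (P : Par0 (Loc D x) B f) : Par (Loc D x) B f where
  toPar0 := P
  conj := by
    intro v w hv hw
    obtain ⟨hv1, hv2, hv3⟩ := P.mem v hv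
    obtain ⟨hw1, hw2, hw3⟩ := P.mem w hw
    by_cases hc : Commute (f v) (f w)
    · rw [(h.commute_iff hv1 (f w)).1 hc]
      rcases (P.comm v w hv hw).1 hc with h1 | h1 | h1
      · rw [refl_of_perp h1]
      · rw [h1, refl_self hw, P.neg w hw]
      · rw [h1, refl_neg_left, refl_self hw, P.neg w hw]
    · have he1 : f v * f w * f v ∈ D := h.conj' hv1 hw1
      have hxe : Commute x (f v * f w * f v) := (hv3.mul_right hw3).mul_right hv3
      have hne1 : f v * f w * f v ≠ x := by
        intro h1
        apply hw2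
        rw [← h.conj_conj hv1 (f w), h1, (h.commute_iff hv1 x).1 hv3.symm]
      obtain ⟨z, hz, hfz⟩ := P.surj _ ⟨he1, hne1, hxe⟩
      have hnv : f z ≠ f v := by
        rw [hfz]
        intro h1
        apply hc
        have h2 : f w = f v := by
          rw [← h.conj_conj hv1 (f w), h1, h.sq _ hv1, one_mul]
        rw [h2]
      have hnw : f z ≠ f w := by
        rw [hfz]
        intro h1
        exact hc ((h.commute_iff hv1 (f w)).2 h1)
      have hcz : ¬ Commute (f v) (f z) := by
        rw [hfz]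
        intro h1
        rw [h.commute_iff hv1, h.conj_conj hv1] at h1
        exact hc ((h.commute_iff hv1 (f w)).2 h1.symm)
      have hline : ∀ s, Commute (f v) s → Commute (f w) s → Commute (f z) s := by
        intro s h1 h2
        rw [hfz]
        exact (h1.mul_left h2).mul_left h1
      have := third_unique hG hv hw hz (P.ne_zero_of_not_commute hv hw hc)
        (P.ne_zero_of_not_commute hv hz hcz) (fun h1 => hnv (by rw [h1]))
        (fun h1 => hnv (by rw [h1, P.neg v hv])) (fun h1 => hnw (by rw [h1]))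
        (fun h1 => hnw (by rw [h1, P.neg w hw])) (by
          intro s hs1 hvs hws
          have h1 := hline _ (P.commute_of_perp hv hs1 hvs) (P.commute_of_perp hw hs1 hws)
          rw [← P.comm_ne_iff hz hs1]
          refine ⟨h1, fun h2 => ?_⟩
          rw [h2] at hcz
          exact hcz (P.commute_of_perp hv hs1 hvs))
      rw [← hfz]
      rcases this with h1 | h1
      · rw [h1]
      · rw [← P.neg z hz, h1, neg_neg]

end Par0

namespace Par

variable {E : Set G} {f : V → G}

/-- conjugation of a parametrisation -/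
theorem conjugate (h : FData D) {x : G} (P : Par (Loc D x) B f) (g : G) :
    Par (Loc D (g * x * g⁻¹)) B (fun v => g * f v * g⁻¹) where
  mem := by
    intro v hv
    obtain ⟨h1, h2, h3⟩ := P.mem v hv
    refine ⟨h.conj g _ h1, fun h4 => h2 (mul_left_cancel (mul_right_cancel h4)), ?_⟩
    rw [FData.commute_conj_gen]
    exact h3
  surj := by
    rintro d ⟨h1, h2, h3⟩
    obtain ⟨v, hv, hfv⟩ := P.surj (g⁻¹ * d * g) ⟨by
      have := h.conj g⁻¹ d h1
      rwa [inv_inv] at this, by
      rintro h4
      apply h2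
      rw [← h4]
      group, by
      have e : d = g * (g⁻¹ * d * g) * g⁻¹ := by group
      rw [e, FData.commute_conj_gen] at h3
      exact h3⟩
    refine ⟨v, hv, ?_⟩
    show g * f v * g⁻¹ = d
    rw [hfv]
    group
  inj := by
    intro v w hv hw h1
    exact P.inj v w hv hw (mul_left_cancel (mul_right_cancel h1))
  neg := by
    intro v hv
    show g * f (-v) * g⁻¹ = g * f v * g⁻¹
    rw [P.neg v hv]
  comm := by
    intro v w hv hw
    show Commute (g * f v * g⁻¹) (g * f w * g⁻¹) ↔ _
    rw [FData.commute_conj_gen]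
    exact P.comm v w hv hw
  conj := by
    intro v w hv hw
    show g * f v * g⁻¹ * (g * f w * g⁻¹) * (g * f v * g⁻¹) = g * f (rfn B v w) * g⁻¹
    rw [← P.conj v w hv hw]
    group

end Par

theorem form_of {n : ℕ} {B : BilinForm (ZMod 3) (Fin n → ZMod 3)} (hs : B.IsSymm)
    (hn : B.Nondegenerate) : Form B where
  symm := fun v w => hs.eq v w
  nondeg := fun v hv => hn.1 v hv

/-- the parametrisation given by the common interface -/
theorem exists_par (h : FData D) {n : ℕ} (hn : 5 ≤ n) {x : G}
    (hR : IsR n (Loc D x)) : ∃ (B : BilinForm (ZMod 3) (Fin n → ZMod 3))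
    (f : (Fin n → ZMod 3) → G), Good B ∧ Par (Loc D x) B f := by
  classical
  obtain ⟨B, f0, hs, hnd, h1, hc, hi, hsu⟩ := hR
  have F := form_of hs hnd
  have hG : Good B := Good.of_finrank F (by rw [Module.finrank_fin_fun]; exact hn)
  obtain ⟨f, hf⟩ : ∃ f : (Fin n → ZMod 3) → G, ∀ v, B v v = 1 → f v ∈ Loc D x ∧
      (v = f0 (f v) ∨ v = - f0 (f v)) := by
    refine ⟨fun v => if hv : B v v = 1 then (hsu v hv).choose else 1, fun v hv => ?_⟩
    dsimp only
    rw [dif_pos hv]
    exact (hsu v hv).choose_spec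
  have hf' : ∀ v, B v v = 1 → f0 (f v) = v ∨ f0 (f v) = -v := by
    intro v hv
    rcases (hf v hv).2 with h3 | h3
    · left; exact h3.symm
    · right
      rw [← neg_eq_iff_eq_neg]
      exact h3.symm
  have hneg : ∀ v, B v v = 1 → f (-v) = f v := by
    intro v hv
    have hv' : B (-v) (-v) = 1 := by simpa using hv
    apply hi _ (hf (-v) hv').1 _ (hf v hv).1
    rcases hf' v hv with h3 | h3 <;> rcases hf' (-v) hv' with h5 | h5 <;> rw [h3, h5] <;> simp
  have hinj : ∀ v w, B v v = 1 → B w w = 1 → f v = f w → v = w ∨ v = -w := by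
    intro v w hv hw hvw
    have h3 := hf' v hv
    have h4 := hf' w hw
    rw [hvw] at h3
    rcases h3 with h3 | h3 <;> rcases h4 with h4 | h4
    · left; exact h3.symm.trans h4
    · right; exact h3.symm.trans h4
    · right
      rw [← h4, h3, neg_neg]
    · left
      exact neg_injective (h3.symm.trans h4)
  refine ⟨B, f, hG, Par0.toPar h hG ⟨fun v hv => (hf v hv).1, ?_, hinj, hneg, ?_⟩⟩
  · intro d hd
    refine ⟨f0 d, h1 d hd, ?_⟩
    obtain ⟨h2, h3⟩ := hf (f0 d) (h1 d hd)
    exact (hi d hd _ h2 h3).symm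
  · intro v w hv hw
    rw [hc _ (hf v hv).1 _ (hf w hw).1]
    have h5 : B (f0 (f v)) (f0 (f w)) = 0 ↔ B v w = 0 := by
      rcases hf' v hv with h3 | h3 <;> rcases hf' w hw with h4 | h4 <;> rw [h3, h4] <;> simp
    rw [h5]
    constructor
    · rintro (h6 | h6)
      · exact Or.inr (hinj v w hv hw h6)
      · exact Or.inl h6
    · rintro (h6 | h6 | h6)
      · exact Or.inr h6
      · left; rw [h6]
      · left; rw [h6, hneg w hw]

section Main

variable [Finite G]

/-- vectors of `D_y` for `y ∈ D_x`: a useful normal form of a noncommuting pair -/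
theorem exists_pair {y x a : G} {f : V → G} (P : Par (Loc D y) B f) (hx : x ∈ Loc D y)
    (ha : a ∈ Loc D y) (hxa : ¬ Commute x a) : ∃ p q, B p p = 1 ∧ B q q = 1 ∧ B p q = 1 ∧ f p = x ∧
      f q = a ∧ q ≠ p := by
  obtain ⟨p, hp, rfl⟩ := P.surj x hx
  obtain ⟨q, hq, rfl⟩ := P.surj a ha
  have hpq := P.ne_zero_of_not_commute hp hq hxa
  have hne : ∀ q', f q' = f q → q' ≠ p := by
    intro q' h1 h2
    rw [← h1, h2] at hxa
    exact hxa (Commute.refl _)
  rcases pm_of_ne hpq with h1 | h1
  · exact ⟨p, q, hp, hq, h1, rfl, rfl, hne q rfl⟩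
  · refine ⟨p, -q, hp, by simpa using hq, by rw [map_neg, h1, neg_neg], rfl, P.neg q hq,
      hne (-q) (P.neg q hq)⟩

theorem iso_of_pair (F : Form B) {p q : V} (hp : B p p = 1) (hq : B q q = 1) (hpq : B p q = 1) :
    B (q - p) (q - p) = 0 ∧ B p (q - p) = 0 := by
  constructor
  · rw [F.norm_sub, hq, hp, F.symm q p, hpq]; decide
  · rw [map_sub, hpq, hp, sub_self]

/-- **θ'**: `D_x ∩ D_a` determines `a` up to conjugation with `x`. -/
theorem theta (hD : FGroup D) (hG : Good B) {x : G} (hx : x ∈ D) {f : V → G}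
    (P : Par (Loc D x) B f) {a a' : G} (ha : a ∈ D) (ha' : a' ∈ D) (hxa : ¬ Commute x a)
    (hxa' : ¬ Commute x a') (hX : ∀ y ∈ Loc D x, Commute a y → Commute a' y) :
    a' = a ∨ a' = x * a * x := by
  have h := fd hD
  have F := hG.toForm
  obtain ⟨y, hy, hxy, hay, hyx, hya⟩ := exists_common_perp hD hx ha hxa
  have ha'y := hX y ⟨hy, hyx, hxy⟩ hay
  obtain ⟨g, hg⟩ := h.single x hx y hy
  have P' := P.conjugate h g
  rw [hg] at P'
  have hya' : a' ≠ y := by
    rintro rfl
    exact hxa' hxy
  obtain ⟨p, q, hp, hq, hpq, hfp, hfq, hne⟩ := exists_pair P' ⟨hx, hyx.symm, hxy.symm⟩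
    ⟨ha, hya.symm, hay.symm⟩ hxa
  obtain ⟨p', q', hp', hq', hpq', hfp', hfq', hne'⟩ := exists_pair P' ⟨hx, hyx.symm, hxy.symm⟩
    ⟨ha', hya', ha'y.symm⟩ hxa'
  -- we may take `p' = p`
  obtain ⟨q', hq', hpq', hfq', hne'⟩ : ∃ q', B q' q' = 1 ∧ B p q' = 1 ∧
      g * f q' * g⁻¹ = a' ∧ q' ≠ p := by
    rcases P'.inj p' p hp' hp (hfp'.trans hfp.symm) with h1 | h1
    · rw [h1] at hpq' hne'
      exact ⟨q', hq', hpq', hfq', hne'⟩
    · rw [h1] at hpq' hne'
      refine ⟨-q', by simpa using hq', ?_, (P'.neg q' hq').trans hfq', ?_⟩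
      · rw [map_neg]
        rw [map_neg, LinearMap.neg_apply] at hpq'
        exact hpq'
      · intro h2
        apply hne'
        rw [← h2, neg_neg]
  obtain ⟨hu, hpu⟩ := iso_of_pair F hp hq hpq
  obtain ⟨hu', hpu'⟩ := iso_of_pair F hp hq' hpq'
  rcases hG.iso_eq hp hu hu' hpu hpu' (sub_ne_zero.2 hne') (by
    intro s hs hps hus
    have hqs : B q s = 0 := by
      rw [map_sub, LinearMap.sub_apply, hps, sub_zero] at hus
      exact hus
    obtain ⟨c1, c2⟩ := (P'.comm_ne_iff hp hs).2 hps
    obtain ⟨c3, c4⟩ := (P'.comm_ne_iff hq hs).2 hqs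
    rw [hfp] at c1 c2
    rw [hfq] at c3 c4
    have c5 := hX _ ⟨(P'.mem s hs).1, c2.symm, c1⟩ c3
    have c6 : B q' s = 0 := by
      rw [← P'.comm_ne_iff hq' hs]
      rw [hfq']
      refine ⟨c5, fun h1 => ?_⟩
      rw [h1] at hxa'
      exact hxa' c1
    rw [map_sub, LinearMap.sub_apply, c6, hps, sub_zero]) with h1 | h1
  · left
    have h2 : q' = q := sub_left_injective h1
    rw [← hfq', ← hfq, h2]
  · right
    have h2 : q' = - rfn B p q := by
      rw [sub_eq_iff_eq_add] at h1
      rw [h1, rfn, hpq]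
      linear_combination (norm := module) three_smul' p
    have h3 := P'.conj p q hp hq
    have hn : B (rfn B p q) (rfn B p q) = 1 := by rw [F.refl_norm hp, hq]
    rw [hfp, hfq, ← P'.neg _ hn, ← h2] at h3
    rw [h3]
    exact hfq'.symm

end Main

end Cfsg.Agent.Fischer3.Orth3Coord
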