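import Mathlib
import Cfsg.Agent.Fischer3.Orth3Basic

set_option autoImplicit false
set_option linter.unusedSimpArgs false
set_option linter.unusedSectionVars false

/-!
# Subsets of the norm one vectors which are locally hyperplane sections

Pure linear algebra part of (E1).
-/

namespace Cfsg.Agent.Fischer3.Orth3Dir

open LinearMap (BilinForm)
open Cfsg.Agent.Fischer3.Orth3Basic

variable {V : Type*} [AddCommGroup V] [Module (ZMod 3) V] {B : BilinForm (ZMod 3) V}
  {X : V → Prop}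

/-- `u` is the direction of the subset `X` at `y` -/
def Dir (B : BilinForm (ZMod 3) V) (X : V → Prop) (y u : V) : Prop :=
  u ≠ 0 ∧ B u u = 0 ∧ B y u = 0 ∧ ∀ v, B v v = 1 → B y v = 0 → (X v ↔ B u v = 0)

theorem Dir.neg {y u : V} (h : Dir B X y u) : Dir B X y (-u) := by
  obtain ⟨h1, h2, h3, h4⟩ := h
  refine ⟨neg_ne_zero.2 h1, by simpa using h2, by simpa using h3, fun v hv hyv => ?_⟩
  rw [h4 v hv hyv]
  simp

theorem Dir.of_eq {y u u' : V} (h : Dir B X y u) (he : u = u' ∨ u = -u') : Dir B X y u' := by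
  rcases he with rfl | rfl
  · exact h
  · have := h.neg
    rwa [neg_neg] at this

/-- hypotheses of the argument -/
structure XHyp (B : BilinForm (ZMod 3) V) (X : V → Prop) : Prop where
  neg : ∀ v, B v v = 1 → X v → X (-v)
  dir : ∀ y, B y y = 1 → X y → ∃ u, Dir B X y u
  orth : ∀ y z u u', B y y = 1 → B z z = 1 → X y → X z → B y z = 0 → Dir B X y u → Dir B X z u' →
    B u u' = 0

theorem smul_cases (c : ZMod 3) (u : V) : c • u = 0 ∨ c • u = u ∨ c • u = -u := by
  rcases cases3 c with h | h | h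
  · left; rw [h, zero_smul]
  · right; left; rw [h, one_smul]
  · right; right; rw [h, neg_smul, one_smul]

theorem dir_eq (F : Form B) (hX : XHyp B X) {y z u u' : V} (hy : B y y = 1) (hz : B z z = 1)
    (Xy : X y) (Xz : X z) (hyz : B y z = 0) (hu : Dir B X y u) (hu' : Dir B X z u') :
    u' = u ∨ u' = -u := by
  have hzy : B z y = 0 := by rw [F.symm]; exact hyz
  have h0 := hX.orth y z u u' hy hz Xy Xz hyz hu hu'
  have h1 : B u' y = 0 := (hu'.2.2.2 y hy hzy).1 Xy
  have h2 : B u z = 0 := (hu.2.2.2 z hz hyz).1 Xz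
  by_cases hs : u' ∈ Submodule.span (ZMod 3) (Set.range ![y, z, u])
  · rw [Submodule.mem_span_range_iff_exists_fun] at hs
    obtain ⟨c, hc⟩ := hs
    rw [Fin.sum_univ_three] at hc
    have hc' : c 0 • y + c 1 • z + c 2 • u = u' := hc
    have e0 : B y u' = 0 := by rw [F.symm]; exact h1
    have e1 := hu'.2.2.1
    rw [← hc'] at e0 e1
    simp only [map_add, map_smul, smul_eq_mul, hy, hz, hyz, hzy, hu.2.2.1, F.symm z u, h2,
      mul_zero, mul_one, zero_add, add_zero] at e0 e1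
    rw [e0, e1, zero_smul, zero_smul, zero_add, zero_add] at hc'
    rcases smul_cases (c 2) u with h | h | h
    · rw [hc'] at h
      exact absurd h hu'.1
    · left; rw [← hc', h]
    · right; rw [← hc', h]
  · exfalso
    obtain ⟨s, hs1, hs2, hs3⟩ := F.exists_norm_one_of_isotropic ![y, z, u] hu'.2.1 (by
      intro i
      fin_cases i
      · show B y u' = 0
        rw [F.symm]; exact h1
      · exact hu'.2.2.1
      · exact h0) hs
    exact hs3 ((hu'.2.2.2 s hs1 (hs2 1)).1 ((hu.2.2.2 s hs1 (hs2 0)).2 (hs2 2)))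

theorem norm_add_smul (F : Form B) {y u : V} (hy : B y y = 1) (hu : B u u = 0) (hyu : B y u = 0)
    (k : ZMod 3) : B (y + k • u) (y + k • u) = 1 := by
  rw [F.norm_add, Form.norm_smul, hy, hu, map_smul, hyu]
  simp

/-- a member of `X` orthogonal to `y`, with the same direction -/
theorem exists_perp (hG : Good B) (hX : XHyp B X) {y u : V} (hy : B y y = 1) (Xy : X y)
    (hu : Dir B X y u) : ∃ z, B z z = 1 ∧ X z ∧ B y z = 0 ∧ B u z = 0 ∧ Dir B X z u := by
  have F := hG.toForm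
  obtain ⟨z, hz, hyz, huz⟩ := hG.P1 y u hy hu.1 hu.2.1 hu.2.2.1
  have Xz : X z := (hu.2.2.2 z hz hyz).2 huz
  obtain ⟨u2, hu2⟩ := hX.dir z hz Xz
  exact ⟨z, hz, Xz, hyz, huz, hu2.of_eq (dir_eq F hX hy hz Xy Xz hyz hu hu2)⟩

theorem dir_add (hG : Good B) (hX : XHyp B X) {y u : V} (hy : B y y = 1) (Xy : X y)
    (hu : Dir B X y u) (k : ZMod 3) : X (y + k • u) ∧ Dir B X (y + k • u) u := by
  have F := hG.toForm
  obtain ⟨z, hz, Xz, hyz, huz, hzu⟩ := exists_perp hG hX hy Xy hu
  have n1 := norm_add_smul F hy hu.2.1 hu.2.2.1 k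
  have h1 : B z (y + k • u) = 0 := by
    rw [map_add, map_smul, F.symm z y, F.symm z u, hyz, huz, smul_zero, add_zero]
  have h2 : B u (y + k • u) = 0 := by
    rw [map_add, map_smul, F.symm u y, hu.2.2.1, hu.2.1, smul_zero, add_zero]
  have X1 : X (y + k • u) := (hzu.2.2.2 _ n1 h1).2 h2
  obtain ⟨u3, hu3⟩ := hX.dir _ n1 X1
  exact ⟨X1, hu3.of_eq (dir_eq F hX hz n1 Xz X1 h1 hzu hu3)⟩

theorem arith2 : ∀ a b c d : ZMod 3, (∀ k k' : ZMod 3, a + k * b + k' * c + k * k' * d ≠ 0) →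
    b = 0 ∧ c = 0 := by decide

theorem dir_unique (hG : Good B) (hX : XHyp B X) {y y' u u' : V} (hy : B y y = 1)
    (hy' : B y' y' = 1) (Xy : X y) (Xy' : X y') (hu : Dir B X y u) (hu' : Dir B X y' u') :
    u' = u ∨ u' = -u := by
  have F := hG.toForm
  by_contra hne
  -- everything is orthogonal
  have key : ∀ y, B y y = 1 → X y → Dir B X y u → B u y' = 0 ∧ B y u' = 0 := by
    intro y hy Xy hu
    refine arith2 (B y y') (B u y') (B y u') (B u u') ?_
    intro k k' h0
    obtain ⟨X1, D1⟩ := dir_add hG hX hy Xy hu k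
    obtain ⟨X2, D2⟩ := dir_add hG hX hy' Xy' hu' k'
    apply hne
    refine dir_eq F hX (norm_add_smul F hy hu.2.1 hu.2.2.1 k)
      (norm_add_smul F hy' hu'.2.1 hu'.2.2.1 k') X1 X2 ?_ D1 D2
    rw [← h0]
    simp only [map_add, map_smul, LinearMap.add_apply, LinearMap.smul_apply, smul_eq_mul]
    ring
  obtain ⟨k1, k2⟩ := key y hy Xy hu
  by_cases h0 : B u u' = 0
  · have hs : u' ∉ Submodule.span (ZMod 3) (Set.range ![y, u]) := by
      intro hs
      rw [Submodule.mem_span_range_iff_exists_fun] at hs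
      obtain ⟨c, hc⟩ := hs
      rw [Fin.sum_univ_two] at hc
      have hc' : c 0 • y + c 1 • u = u' := hc
      rw [← hc', map_add, map_smul, map_smul, hy, hu.2.2.1, smul_zero, add_zero, smul_eq_mul,
        mul_one] at k2
      rw [k2, zero_smul, zero_add] at hc'
      rcases smul_cases (c 1) u with h | h | h
      · rw [hc'] at h
        exact hu'.1 h
      · exact hne (Or.inl (by rw [← hc', h]))
      · exact hne (Or.inr (by rw [← hc', h]))
    obtain ⟨s, hs1, hs2, hs3⟩ := F.exists_norm_one_of_isotropic ![y, u] hu'.2.1 (by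
      intro i
      fin_cases i
      · exact k2
      · exact h0) hs
    have hys : B y s = 0 := hs2 0
    have Xs : X s := (hu.2.2.2 s hs1 hys).2 (hs2 1)
    obtain ⟨u2, hu2⟩ := hX.dir s hs1 Xs
    have Ds := hu2.of_eq (dir_eq F hX hy hs1 Xy Xs hys hu hu2)
    apply hs3
    rw [F.symm]
    exact (key s hs1 Xs Ds).2
  · -- `u`, `u'` not orthogonal: adjust directly
    have h3 : B y y' = 0 := by
      by_contra h3
      -- choose `k, k'` with `k k' (u,u') = - (y,y')`
      have h4 : ∃ k k' : ZMod 3, B y y' + k * k' * B u u' = 0 := by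
        have : ∀ a d : ZMod 3, d ≠ 0 → ∃ k k' : ZMod 3, a + k * k' * d = 0 := by decide
        exact this _ _ h0
      obtain ⟨k, k', h4⟩ := h4
      obtain ⟨X1, D1⟩ := dir_add hG hX hy Xy hu k
      obtain ⟨X2, D2⟩ := dir_add hG hX hy' Xy' hu' k'
      apply hne
      refine dir_eq F hX (norm_add_smul F hy hu.2.1 hu.2.2.1 k)
        (norm_add_smul F hy' hu'.2.1 hu'.2.2.1 k') X1 X2 ?_ D1 D2
      rw [← h4]
      simp only [map_add, map_smul, LinearMap.add_apply, LinearMap.smul_apply, smul_eq_mul, k1, k2]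
      ring
    exact hne (dir_eq F hX hy hy' Xy Xy' h3 hu hu')

/-- all directions agree -/
theorem exists_dir (hG : Good B) (hX : XHyp B X) {y0 : V} (hy0 : B y0 y0 = 1) (Xy0 : X y0) :
    ∃ u, u ≠ 0 ∧ B u u = 0 ∧ (∀ v, B v v = 1 → X v → B u v = 0) ∧
      (∀ v, B v v = 1 → X v → ∀ k : ZMod 3, X (v + k • u)) ∧
      ∀ y v, B y y = 1 → B v v = 1 → X y → B y v = 0 → (X v ↔ B u v = 0) := by
  have F := hG.toForm
  obtain ⟨u, hu⟩ := hX.dir y0 hy0 Xy0
  have key : ∀ y, B y y = 1 → X y → Dir B X y u := by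
    intro y hy Xy
    obtain ⟨u', hu'⟩ := hX.dir y hy Xy
    exact hu'.of_eq (dir_unique hG hX hy0 hy Xy0 Xy hu hu')
  refine ⟨u, hu.1, hu.2.1, fun v hv Xv => ?_, fun v hv Xv k => ?_, fun y v hy hv Xy hyv => ?_⟩
  · rw [F.symm]
    exact (key v hv Xv).2.2.1
  · exact (dir_add hG hX hv Xv (key v hv Xv) k).1
  · exact (key y hy Xy).2.2.2 v hv hyv

end Cfsg.Agent.Fischer3.Orth3Dir
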