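import Mathlib
import Cfsg.Agent.Fischer3.Orth3Coord

set_option autoImplicit false
set_option linter.unusedSimpArgs false
set_option linter.unusedSectionVars false

/-!
# Local form of `D_x ∩ D_a` for orthogonal spaces over `ZMod 3`
-/

namespace Cfsg.Agent.Fischer3.Orth3Local

open LinearMap (BilinForm)
open Cfsg.Agent.Fischer480.Defs Cfsg.Agent.Fischer3.Orth3Basic Cfsg.Agent.Fischer3.Orth3Coord
open Cfsg.Agent.SporadicStructure.FischerSpace Cfsg.Agent.SporadicStructure.FischerRank3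

section

variable {V : Type*} [AddCommGroup V] [Module (ZMod 3) V] {B : BilinForm (ZMod 3) V}

theorem ne_of_iso {s u : V} (hs : B s s = 1) (hu : B u u = 0) (hu0 : u ≠ 0) :
    s ≠ s + u ∧ s ≠ -(s + u) := by
  constructor
  · intro h
    exact hu0 (left_eq_add.1 h)
  · intro h
    have h1 : s = u := by
      have h2 : s + s = -u := by
        nth_rewrite 1 [h]
        abel
      rw [← neg_eq_add] at h2
      exact neg_injective h2
    rw [h1, hu] at hs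
    exact absurd hs (by decide)

theorem norm_add_iso (F : Form B) {s u : V} (hs : B s s = 1) (hu : B u u = 0) (hsu : B s u = 0) :
    B (s + u) (s + u) = 1 ∧ B (s - u) (s - u) = 1 ∧ B s (s + u) = 1 ∧ B s (s - u) = 1 := by
  refine ⟨?_, ?_, ?_, ?_⟩
  · rw [F.norm_add, hs, hu, hsu]; decide
  · rw [F.norm_sub, hs, hu, hsu]; decide
  · rw [map_add, hs, hsu, add_zero]
  · rw [map_sub, hs, hsu, sub_zero]

theorem arith1 : ∀ α β : ZMod 3, β = 0 ↔ ((α = 0 ↔ α + β = 0) ∧ (α = 0 ↔ α - β = 0)) := by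
  decide

end

variable {G : Type*} [Group G] [Finite G] {D : Set G}
variable {V : Type*} [AddCommGroup V] [Module (ZMod 3) V] {B : BilinForm (ZMod 3) V}

/-- `D_x ∩ D_y ∩ D_a` for `y ∈ D_x ∩ D_a` is of the form `y^⊥ ∩ u^⊥` with `u` isotropic. -/
theorem local_dir (hD : FGroup D) (hG : Good B) {x : G} (hx : x ∈ D) {f : V → G}
    (P : Par (Loc D x) B f) {a : G} (ha : a ∈ D) (hxa : ¬ Commute x a) {y0 : V}
    (hy0 : B y0 y0 = 1) (hay : Commute a (f y0)) :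
    ∃ u, u ≠ 0 ∧ B u u = 0 ∧ B y0 u = 0 ∧
      ∀ v, B v v = 1 → B y0 v = 0 → (Commute a (f v) ↔ B u v = 0) := by
  have h := fd hD
  have F := hG.toForm
  obtain ⟨hy, hyx, hxy⟩ := P.mem y0 hy0
  obtain ⟨g, hg⟩ := h.single x hx _ hy
  have hP' := P.conjugate h g
  rw [hg] at hP'
  obtain ⟨f', rfl⟩ : ∃ f' : V → G, f' = fun v => g * f v * g⁻¹ := ⟨_, rfl⟩
  generalize hf' : (fun v => g * f v * g⁻¹) = f' at hP'
  have P' : Par (Loc D (f y0)) B f' := hP'
  have hya : a ≠ f y0 := by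
    rintro rfl
    exact hxa hxy
  obtain ⟨p, q, hp, hq, hpq, hfp, hfq, hne⟩ := exists_pair P' ⟨hx, hyx.symm, hxy.symm⟩
    ⟨ha, hya, hay.symm⟩ hxa
  obtain ⟨hu1, hpu1⟩ := iso_of_pair F hp hq hpq
  have hu10 : q - p ≠ 0 := sub_ne_zero.2 hne
  obtain ⟨s1, hs1, hps1, hus1⟩ := hG.P1 p (q - p) hp hu10 hu1 hpu1
  -- transfer
  have T : ∀ v1, B v1 v1 = 1 → B p v1 = 0 → ∃ v, B v v = 1 ∧ B y0 v = 0 ∧ f v = f' v1 := by
    intro v1 hv1 hpv1
    obtain ⟨c1, c2⟩ := (P'.comm_ne_iff hp hv1).2 hpv1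
    rw [hfp] at c1 c2
    obtain ⟨c3, c4, c5⟩ := P'.mem v1 hv1
    obtain ⟨v, hv, hfv⟩ := P.surj (f' v1) ⟨c3, c2.symm, c1⟩
    refine ⟨v, hv, ?_, hfv⟩
    rw [← P.comm_ne_iff hy0 hv, hfv]
    exact ⟨c5, c4.symm⟩
  have T' : ∀ v, B v v = 1 → B y0 v = 0 → ∃ v1, B v1 v1 = 1 ∧ B p v1 = 0 ∧ f' v1 = f v := by
    intro v hv hyv
    obtain ⟨c1, c2⟩ := (P.comm_ne_iff hy0 hv).2 hyv
    obtain ⟨c3, c4, c5⟩ := P.mem v hv
    obtain ⟨v1, hv1, hfv1⟩ := P'.surj (f v) ⟨c3, c2.symm, c1⟩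
    refine ⟨v1, hv1, ?_, hfv1⟩
    rw [← P'.comm_ne_iff hp hv1, hfv1, hfp]
    exact ⟨c5, c4.symm⟩
  obtain ⟨n1, n2, n3, n4⟩ := norm_add_iso F hs1 hu1 (by rw [F.symm]; exact hus1)
  obtain ⟨m1, m2⟩ := ne_of_iso hs1 hu1 hu10
  obtain ⟨s, hs, hys, hfs⟩ := T s1 hs1 hps1
  obtain ⟨t, ht, hyt, hft, hst⟩ : ∃ t, B t t = 1 ∧ B y0 t = 0 ∧ f t = f' (s1 + (q - p)) ∧
      B s t = 1 := by
    obtain ⟨t, ht, hyt, hft⟩ := T (s1 + (q - p)) n1 (by rw [map_add, hps1, hpu1, add_zero])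
    have hnc : ¬ Commute (f s) (f t) := by
      rw [hfs, hft]
      exact P'.not_commute hs1 n1 (by rw [n3]; decide) m1 m2
    rcases pm_of_ne (P.ne_zero_of_not_commute hs ht hnc) with h1 | h1
    · exact ⟨t, ht, hyt, hft, h1⟩
    · refine ⟨-t, by simpa using ht, by simpa using hyt, ?_, by rw [map_neg, h1, neg_neg]⟩
      rw [P.neg t ht, hft]
  obtain ⟨hu, hsu⟩ := iso_of_pair F hs ht hst
  have hts : t ≠ s := by
    rintro rfl
    rw [hft] at hfs
    rcases P'.inj _ _ n1 hs1 hfs with h1 | h1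
    · exact m1 h1.symm
    · apply m2
      rw [h1, neg_neg]
  have hu0 : t - s ≠ 0 := sub_ne_zero.2 hts
  obtain ⟨k1, k2, k3, k4⟩ := norm_add_iso F hs hu hsu
  have hf2 : f (s + (t - s)) = f' (s1 + (q - p)) := by
    rw [add_sub_cancel]; exact hft
  have hf3 : f (s - (t - s)) = f' (s1 - (q - p)) := by
    have e1 : rfn B s t = -(s - (t - s)) := by
      rw [rfn, hst]
      linear_combination (norm := module) three_smul' s
    have e2 : rfn B s1 (s1 + (q - p)) = -(s1 - (q - p)) := by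
      rw [rfn, n3]
      linear_combination (norm := module) three_smul' s1
    rw [← P.neg _ k2, ← e1, ← P.conj s t hs ht, hfs, hft, P'.conj _ _ hs1 n1, e2, P'.neg _ n2]
  refine ⟨t - s, hu0, hu, by rw [map_sub, hyt, hys, sub_self], ?_⟩
  intro v hv hyv
  obtain ⟨v1, hv1, hpv1, hfv1⟩ := T' v hv hyv
  have e3 : Commute a (f v) ↔ B (q - p) v1 = 0 := by
    rw [← hfv1, ← hfq, P'.comm q v1 hq hv1, map_sub, LinearMap.sub_apply, hpv1, sub_zero]
    constructor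
    · rintro (h1 | h1 | h1)
      · exact h1
      · exfalso
        rw [← h1, hpq] at hpv1
        exact absurd hpv1 (by decide)
      · exfalso
        rw [h1, map_neg, neg_eq_iff_eq_neg, hpv1] at hpq
        exact absurd hpq (by decide)
    · intro h1
      exact Or.inl h1
  rw [e3]
  have hw : ∀ w w1, B w w = 1 → B w1 w1 = 1 → f w = f' w1 → (B w1 v1 = 0 ↔ B w v = 0) := by
    intro w w1 hw hw1 he
    rw [← P'.comm_ne_iff hw1 hv1, ← P.comm_ne_iff hw hv, he, hfv1]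
  have w1 := hw s s1 hs hs1 hfs
  have w2 := hw _ _ k1 n1 hf2
  have w3 := hw _ _ k2 n2 hf3
  rw [map_add, map_add, LinearMap.add_apply, LinearMap.add_apply] at w2
  rw [map_sub B s1, map_sub B s, LinearMap.sub_apply, LinearMap.sub_apply] at w3
  rw [arith1 (B s1 v1) (B (q - p) v1), arith1 (B s v) (B (t - s) v), w1, w2, w3]

end Cfsg.Agent.Fischer3.Orth3Local
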