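import Mathlib
import Cfsg.Agent.Fischer3.Orth3Local
import Cfsg.Agent.Fischer3.Orth3Dir

set_option autoImplicit false
set_option linter.unusedSimpArgs false
set_option linter.unusedSectionVars false

/-!
# (E1): `D_x ∩ D_a` is the hyperplane section by an isotropic vector
-/

namespace Cfsg.Agent.Fischer3.Orth3E1

open LinearMap (BilinForm)
open Cfsg.Agent.Fischer480.Defs Cfsg.Agent.Fischer3.Orth3Basic Cfsg.Agent.Fischer3.Orth3Coord
open Cfsg.Agent.Fischer3.Orth3Local Cfsg.Agent.Fischer3.Orth3Dir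
open Cfsg.Agent.SporadicStructure.FischerSpace Cfsg.Agent.SporadicStructure.FischerRank3

variable {G : Type*} [Group G] [Finite G] {D : Set G}
variable {V : Type*} [AddCommGroup V] [Module (ZMod 3) V] {B : BilinForm (ZMod 3) V}

theorem commute_neg_iff {E : Set G} {f : V → G} (P : Par E B f) {a : G} {v : V} (hv : B v v = 1) :
    Commute a (f (-v)) ↔ Commute a (f v) := by rw [P.neg v hv]

/-- (E1) under the hypothesis that the directions at orthogonal members are orthogonal -/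
theorem dir_mem (hD : FGroup D) (hG : Good B) {x : G} (hx : x ∈ D) {f : V → G}
    (P : Par (Loc D x) B f) {a : G} (ha : a ∈ D) (hxa : ¬ Commute x a)
    (horth : ∀ y z u u', B y y = 1 → B z z = 1 → Commute a (f y) → Commute a (f z) → B y z = 0 →
      Dir B (fun v => Commute a (f v)) y u → Dir B (fun v => Commute a (f v)) z u' → B u u' = 0) :
    ∃ u, u ≠ 0 ∧ B u u = 0 ∧ ∀ v, B v v = 1 → (Commute a (f v) ↔ B u v = 0) := by
  have h := fd hD
  have F := hG.toForm
  have hX : XHyp B (fun v => Commute a (f v)) := by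
    refine ⟨fun v hv h1 => (commute_neg_iff P hv).2 h1, fun y hy hay => ?_, horth⟩
    exact local_dir hD hG hx P ha hxa hy hay
  obtain ⟨y, hy, hxy, hay, hyx, hya⟩ := exists_common_perp hD hx ha hxa
  obtain ⟨y0, hy0, rfl⟩ := P.surj y ⟨hy, hyx, hxy⟩
  obtain ⟨u, hu0, hu, h1, h2, h3⟩ := exists_dir hG hX hy0 hay
  refine ⟨u, hu0, hu, fun z hz => ⟨h1 z hz, fun huz => ?_⟩⟩
  by_contra hcz
  have hzu : B z u = 0 := by rw [F.symm]; exact huz
  obtain ⟨n1, -, -, -⟩ := norm_add_iso F hz hu hzu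
  obtain ⟨m1, m2⟩ := ne_of_iso hz hu hu0
  have hct : ¬ Commute a (f (z + u)) := by
    intro hc
    have := h2 (z + u) n1 hc (-1)
    apply hcz
    have e : z + u + (-1 : ZMod 3) • u = z := by
      rw [neg_smul, one_smul]; abel
    rw [e] at this
    exact this
  obtain ⟨hz1, hz2, hz3⟩ := P.mem z hz
  obtain ⟨ht1, ht2, ht3⟩ := P.mem (z + u) n1
  have hxz : f z * x * f z = x := (h.commute_iff hz1 x).1 hz3.symm
  have hxt : f (z + u) * x * f (z + u) = x := (h.commute_iff ht1 x).1 ht3.symm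
  have hca1 : ¬ Commute x (f z * a * f z) := by
    intro hc
    apply hxa
    have := (h.commute_conj_left_iff hz1 x a).2 hc
    rwa [hxz] at this
  have hca2 : ¬ Commute x (f (z + u) * a * f (z + u)) := by
    intro hc
    apply hxa
    have := (h.commute_conj_left_iff ht1 x a).2 hc
    rwa [hxt] at this
  have hbz := h.braid a ha (f z) hz1 hcz
  have hbt := h.braid a ha (f (z + u)) ht1 hct
  rcases theta hD hG hx P (h.conj' hz1 ha) (h.conj' ht1 ha) hca1 hca2 (by
    intro y hy hc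
    obtain ⟨v, hv, rfl⟩ := P.surj y hy
    rw [h.commute_conj_left_iff hz1, P.conj z v hz hv] at hc
    rw [h.commute_conj_left_iff ht1, P.conj (z + u) v n1 hv]
    have nr : B (rfn B z v) (rfn B z v) = 1 := by rw [F.refl_norm hz, hv]
    have huv : B u v = 0 := by
      have := h1 _ nr hc
      rw [rfn, map_add, map_smul, huz, smul_zero, add_zero] at this
      exact this
    have e : rfn B (z + u) v = rfn B z v + (B z v) • u := by
      rw [rfn, rfn, map_add, LinearMap.add_apply, huv, add_zero, smul_add, add_assoc]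
    rw [e]
    exact h2 _ nr hc _) with he | he
  · rw [← hbz, ← hbt] at he
    rcases P.inj _ _ n1 hz (mul_left_cancel (mul_right_cancel he)) with h4 | h4
    · exact m1 h4.symm
    · apply m2
      rw [h4, neg_neg]
  · have hc := s4_comm h ha hx hz1 hz3 (fun hc => hxa hc.symm) hcz
    rw [← he, ← hbt, h.commute_conj_left_iff ha, h.sq a ha, one_mul] at hc
    exact hct hc.symm

/-- directions at orthogonal members are orthogonal if there is a suitable norm one vector -/
theorem orth_of_exists (F : Form B) {X : V → Prop} {y z u u' : V}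
    (hu : Dir B X y u) (hu' : Dir B X z u')
    (hs : B u u' ≠ 0 → ∃ s, B s s = 1 ∧ B y s = 0 ∧ B z s = 0 ∧ B u s = 0 ∧ B u' s = 0)
    (Xy : X y) (hy : B y y = 1) (hyz : B y z = 0) (Xz : X z) (hz : B z z = 1) :
    B u u' = 0 := by
  by_contra h0
  obtain ⟨s, hs1, hys, hzs, hus, hu's⟩ := hs h0
  have h1 : B z u = 0 := by
    rw [F.symm]
    exact (hu.2.2.2 z hz hyz).1 Xz
  obtain ⟨n1, -, -, -⟩ := norm_add_iso F hs1 hu.2.1 (by rw [F.symm]; exact hus)
  have h2 : X (s + u) := (hu.2.2.2 _ n1 (by rw [map_add, hys, hu.2.2.1, add_zero])).2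
    (by rw [map_add, hus, hu.2.1, add_zero])
  have h3 := (hu'.2.2.2 _ n1 (by rw [map_add, hzs, h1, add_zero])).1 h2
  rw [map_add, hu's, zero_add, F.symm] at h3
  exact h0 h3

theorem perp_four [Module.Finite (ZMod 3) V] (F : Form B) {k : ℕ} (_hk : k = 4) {y z u u' : V}
    (hy : B y y = 1) (hz : B z z = 1) (hu : B u u = 0) (hu' : B u' u' = 0) (hyz : B y z = 0)
    (hyu : B y u = 0) (hyu' : B y u' = 0) (hzu : B z u = 0) (hzu' : B z u' = 0)
    (huu' : B u u' ≠ 0) :
    ∀ t ∈ Submodule.span (ZMod 3) (Set.range ![y, z, u, u']),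
      (∀ i, B (![y, z, u, u'] i) t = 0) → t ∈ (⊥ : Submodule (ZMod 3) V) := by
  intro t ht ht'
  rw [Submodule.mem_span_range_iff_exists_fun] at ht
  obtain ⟨c, rfl⟩ := ht
  rw [Fin.sum_univ_four] at ht' ⊢
  have h0 : B y (c 0 • y + c 1 • z + c 2 • u + c 3 • u') = 0 := ht' 0
  have h1 : B z (c 0 • y + c 1 • z + c 2 • u + c 3 • u') = 0 := ht' 1
  have h2 : B u (c 0 • y + c 1 • z + c 2 • u + c 3 • u') = 0 := ht' 2
  have h3 : B u' (c 0 • y + c 1 • z + c 2 • u + c 3 • u') = 0 := ht' 3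
  simp only [map_add, map_smul, smul_eq_mul, hy, hz, hu, hu', hyz, hyu, hyu', hzu, hzu',
    F.symm z y, F.symm u y, F.symm u z, F.symm u' y, F.symm u' z, F.symm u' u,
    mul_zero, mul_one, zero_add, add_zero] at h0 h1 h2 h3
  have h4 : c 2 = 0 := (mul_eq_zero.1 h3).resolve_right huu'
  have h5 : c 3 = 0 := (mul_eq_zero.1 h2).resolve_right huu'
  simp [h0, h1, h4, h5]

/-- (E1) in dimension at least six -/
theorem exists_dir_of_six_le [Module.Finite (ZMod 3) V] (hD : FGroup D) (F : Form B)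
    (hn : 6 ≤ Module.finrank (ZMod 3) V) {x : G} (hx : x ∈ D)
    {f : V → G} (P : Par (Loc D x) B f) {a : G} (ha : a ∈ D) (hxa : ¬ Commute x a) :
    ∃ u, u ≠ 0 ∧ B u u = 0 ∧ ∀ v, B v v = 1 → (Commute a (f v) ↔ B u v = 0) := by
  have hG : Good B := Good.of_finrank F (by omega)
  apply dir_mem hD hG hx P ha hxa
  intro y z u u' hy hz Xy Xz hyz hu hu'
  refine orth_of_exists F hu hu' ?_ Xy hy hyz Xz hz
  intro h0
  obtain ⟨s, hs, hs1⟩ := F.exists_norm_one ![y, z, u, u'] ⊥ (perp_four F rfl hy hz hu.2.1 hu'.2.1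
    hyz hu.2.2.1 (by rw [F.symm]; exact (hu'.2.2.2 y hy (by rw [F.symm]; exact hyz)).1 Xy)
    (by rw [F.symm]; exact (hu.2.2.2 z hz hyz).1 Xz) hu'.2.2.1 h0) (by
    rw [finrank_bot]
    omega)
  exact ⟨s, hs1, hs 0, hs 1, hs 2, hs 3⟩

end Cfsg.Agent.Fischer3.Orth3E1
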