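import Mathlib
import Cfsg.Agent.Fischer3.Orth3Local
import Cfsg.Agent.Fischer3.Orth3Dir

set_option autoImplicit false
set_option linter.unusedSimpArgs false
set_option linter.unusedSectionVars false

/-!
# Dimension five: no member is noncommuting with all members of a 6-clique
-/

namespace Cfsg.Agent.Fischer3.Orth3Six

open LinearMap (BilinForm)
open Cfsg.Agent.Fischer480.Defs Cfsg.Agent.Fischer3.Orth3Basic Cfsg.Agent.Fischer3.Orth3Coord
open Cfsg.Agent.SporadicStructure.FischerSpace Cfsg.Agent.SporadicStructure.FischerRank3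

section Lin

variable {V : Type*} [AddCommGroup V] [Module (ZMod 3) V] {B : BilinForm (ZMod 3) V}

theorem linearIndependent_of_orthonormal {ι : Type*} {p : ι → V} (hp : ∀ i, B (p i) (p i) = 1)
    (hpp : ∀ i j, i ≠ j → B (p i) (p j) = 0) : LinearIndependent (ZMod 3) p := by
  refine LinearMap.BilinForm.linearIndependent_of_iIsOrtho (B := B) ?_ ?_
  · intro i j hij
    exact hpp i j hij
  · intro i h
    have h1 : B (p i) (p i) = 0 := h
    rw [hp i] at h1
    exact absurd h1 (by decide)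

theorem card_le {ι : Type*} [Fintype ι] [Module.Finite (ZMod 3) V] {p : ι → V}
    (hp : ∀ i, B (p i) (p i) = 1)
    (hpp : ∀ i j, i ≠ j → B (p i) (p j) = 0) :
    Fintype.card ι ≤ Module.finrank (ZMod 3) V :=
  (linearIndependent_of_orthonormal hp hpp).fintype_card_le_finrank

theorem eq_zero_of_perp [Module.Finite (ZMod 3) V] (F : Form B) {k : ℕ} {p : Fin k → V}
    (hk : k = Module.finrank (ZMod 3) V)
    (hp : ∀ i, B (p i) (p i) = 1) (hpp : ∀ i j, i ≠ j → B (p i) (p j) = 0) {z : V}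
    (hz : ∀ i, B (p i) z = 0) : z = 0 := by
  have hli := linearIndependent_of_orthonormal hp hpp
  have hspan : Submodule.span (ZMod 3) (Set.range p) = ⊤ := by
    rcases Nat.eq_zero_or_pos k with h0 | h0
    · apply Submodule.eq_top_of_finrank_eq
      rw [finrank_span_eq_card hli, Fintype.card_fin, hk]
    · have : Nonempty (Fin k) := ⟨⟨0, h0⟩⟩
      exact hli.span_eq_top_of_card_eq_finrank (by rw [Fintype.card_fin, hk])
  apply F.nondeg
  intro w
  have hw : w ∈ Submodule.span (ZMod 3) (Set.range p) := by rw [hspan]; trivial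
  induction hw using Submodule.span_induction with
  | mem x hx => obtain ⟨i, rfl⟩ := hx; rw [F.symm]; exact hz i
  | zero => simp
  | add x y _ _ hx hy => rw [map_add, hx, hy, add_zero]
  | smul a x _ hx => rw [map_smul, hx, smul_zero]

/-- the product of the reflections of an orthonormal basis is `-1` -/
theorem five_refl [Module.Finite (ZMod 3) V] (F : Form B) {p : Fin 5 → V}
    (hk : Module.finrank (ZMod 3) V = 5)
    (hp : ∀ i, B (p i) (p i) = 1) (hpp : ∀ i j, i ≠ j → B (p i) (p j) = 0) (w : V) :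
    rfn B (p 0) (rfn B (p 1) (rfn B (p 2) (rfn B (p 3) (rfn B (p 4) w)))) = -w := by
  have h0 : w - ∑ i, B (p i) w • p i = 0 := by
    apply eq_zero_of_perp F hk.symm hp hpp
    intro j
    rw [map_sub, map_sum, Finset.sum_eq_single j]
    · rw [map_smul, hp j]; simp
    · intro i _ hij
      rw [map_smul, hpp j i (Ne.symm hij), smul_zero]
    · simp
  rw [Fin.sum_univ_five] at h0
  have e01 := hpp 0 1 (by decide)
  have e02 := hpp 0 2 (by decide)
  have e03 := hpp 0 3 (by decide)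
  have e04 := hpp 0 4 (by decide)
  have e12 := hpp 1 2 (by decide)
  have e13 := hpp 1 3 (by decide)
  have e14 := hpp 1 4 (by decide)
  have e23 := hpp 2 3 (by decide)
  have e24 := hpp 2 4 (by decide)
  have e34 := hpp 3 4 (by decide)
  have h1 : rfn B (p 0) (rfn B (p 1) (rfn B (p 2) (rfn B (p 3) (rfn B (p 4) w)))) =
      w + (B (p 0) w • p 0 + B (p 1) w • p 1 + B (p 2) w • p 2 + B (p 3) w • p 3
        + B (p 4) w • p 4) := by
    simp only [rfn, map_add, map_smul, smul_eq_mul, e01, e02, e03, e04, e12, e13, e14, e23, e24,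
      e34, mul_zero, add_zero]
    abel
  rw [sub_eq_zero] at h0
  rw [h1, ← h0, neg_eq_add]

end Lin

variable {G : Type*} [Group G] [Finite G] {D : Set G}
variable {V : Type*} [AddCommGroup V] [Module (ZMod 3) V] {B : BilinForm (ZMod 3) V}

theorem inv_of_mem (h : FData D) {x : G} (hx : x ∈ D) : x⁻¹ = x := h.inv_eq hx

/-- the product of five commuting members of `D_{e₀}` fixes `a` up to `a^{e₀}` -/
theorem five_conj [Module.Finite (ZMod 3) V] (hD : FGroup D) (hG : Good B)
    (hk : Module.finrank (ZMod 3) V = 5) {x : G} (hx : x ∈ D) {f : V → G}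
    (P : Par (Loc D x) B f) {e0 : G} (he0 : e0 ∈ D) {e : Fin 5 → G} (he : ∀ i, e i ∈ Loc D e0)
    (hee : ∀ i j, i ≠ j → Commute (e i) (e j) ∧ e i ≠ e j) {a : G} (ha : a ∈ D)
    (hae : ¬ Commute a e0) :
    e 0 * e 1 * e 2 * e 3 * e 4 * a * (e 0 * e 1 * e 2 * e 3 * e 4)⁻¹ = a ∨
    e 0 * e 1 * e 2 * e 3 * e 4 * a * (e 0 * e 1 * e 2 * e 3 * e 4)⁻¹ = e0 * a * e0 := by
  have h := fd hD
  have F := hG.toForm
  obtain ⟨g, hg⟩ := h.single x hx e0 he0
  have hP' := P.conjugate h g
  rw [hg] at hP'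
  generalize hf' : (fun v => g * f v * g⁻¹) = f' at hP'
  have P' : Par (Loc D e0) B f' := hP'
  choose p hp hfp using fun i => P'.surj (e i) (he i)
  have hpp : ∀ i j, i ≠ j → B (p i) (p j) = 0 := by
    intro i j hij
    rw [← P'.comm_ne_iff (hp i) (hp j), hfp, hfp]
    exact hee i j hij
  set k := e 0 * e 1 * e 2 * e 3 * e 4 with hkdef
  have hfix : ∀ d ∈ Loc D e0, k * d * k⁻¹ = d := by
    intro d hd
    obtain ⟨w, hw, rfl⟩ := P'.surj d hd
    have hi : ∀ i, (e i)⁻¹ = e i := fun i => h.inv_eq (he i).1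
    have e1 : k * f' w * k⁻¹ =
        e 0 * (e 1 * (e 2 * (e 3 * (e 4 * f' w * e 4) * e 3) * e 2) * e 1) * e 0 := by
      rw [hkdef]
      simp only [mul_inv_rev, hi, mul_assoc]
    have n4 : B (rfn B (p 4) w) (rfn B (p 4) w) = 1 := by rw [F.refl_norm (hp 4), hw]
    have n3 : B (rfn B (p 3) (rfn B (p 4) w)) (rfn B (p 3) (rfn B (p 4) w)) = 1 := by
      rw [F.refl_norm (hp 3), n4]
    have n2 : B (rfn B (p 2) (rfn B (p 3) (rfn B (p 4) w)))
        (rfn B (p 2) (rfn B (p 3) (rfn B (p 4) w))) = 1 := by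
      rw [F.refl_norm (hp 2), n3]
    have n1 : B (rfn B (p 1) (rfn B (p 2) (rfn B (p 3) (rfn B (p 4) w))))
        (rfn B (p 1) (rfn B (p 2) (rfn B (p 3) (rfn B (p 4) w)))) = 1 := by
      rw [F.refl_norm (hp 1), n2]
    rw [e1, ← hfp 4, P'.conj _ _ (hp 4) hw, ← hfp 3, P'.conj _ _ (hp 3) n4, ← hfp 2,
      P'.conj _ _ (hp 2) n3, ← hfp 1, P'.conj _ _ (hp 1) n2, ← hfp 0, P'.conj _ _ (hp 0) n1,
      five_refl F hk hp hpp, P'.neg w hw]
  have hk0 : k * e0 * k⁻¹ = e0 := by
    have hc : Commute e0 k := by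
      rw [hkdef]
      exact ((((he 0).2.2.mul_right (he 1).2.2).mul_right (he 2).2.2).mul_right
        (he 3).2.2).mul_right (he 4).2.2
    rw [← hc.eq, mul_assoc, mul_inv_cancel, mul_one]
  apply theta hD hG he0 P' ha (h.conj k a ha) (fun hc => hae hc.symm)
  · intro hc
    rw [← hk0, FData.commute_conj_gen] at hc
    exact hae hc.symm
  · intro y hy hc
    rw [← hfix y hy, FData.commute_conj_gen]
    exact hc

/-- a 6-clique; `a` commutes with none of its members -/
structure Clique (D : Set G) (e : Fin 6 → G) (a : G) : Prop where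
  mem : ∀ i, e i ∈ D
  comm : ∀ i j, Commute (e i) (e j)
  inj : Function.Injective e
  mema : a ∈ D
  na : ∀ i, ¬ Commute a (e i)

theorem Clique.comp {e : Fin 6 → G} {a : G} (hC : Clique D e a) (s : Fin 6 → Fin 6)
    (hs : Function.Injective s) : Clique D (e ∘ s) a where
  mem := fun i => hC.mem _
  comm := fun i j => hC.comm _ _
  inj := hC.inj.comp hs
  mema := hC.mema
  na := fun i => hC.na _

theorem six_conj [Module.Finite (ZMod 3) V] (hD : FGroup D) (hG : Good B)
    (hk : Module.finrank (ZMod 3) V = 5) {x : G} (hx : x ∈ D) {f : V → G}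
    (P : Par (Loc D x) B f) {e : Fin 6 → G} {a : G} (hC : Clique D e a) :
    e 0 * e 1 * e 2 * e 3 * e 4 * e 5 * a * (e 0 * e 1 * e 2 * e 3 * e 4 * e 5)⁻¹ = a := by
  have h := fd hD
  have ha := hC.mema
  have hi : ∀ i, (e i)⁻¹ = e i := fun i => h.inv_eq (hC.mem i)
  have h1 := five_conj hD hG hk hx P (hC.mem 0) (e := ![e 1, e 2, e 3, e 4, e 5]) (by
    intro i
    fin_cases i
    · exact ⟨hC.mem 1, fun h1 => absurd (hC.inj h1) (by decide), hC.comm 0 1⟩
    · exact ⟨hC.mem 2, fun h1 => absurd (hC.inj h1) (by decide), hC.comm 0 2⟩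
    · exact ⟨hC.mem 3, fun h1 => absurd (hC.inj h1) (by decide), hC.comm 0 3⟩
    · exact ⟨hC.mem 4, fun h1 => absurd (hC.inj h1) (by decide), hC.comm 0 4⟩
    · exact ⟨hC.mem 5, fun h1 => absurd (hC.inj h1) (by decide), hC.comm 0 5⟩) (by
    have key : ∀ i : Fin 5, (![e 1, e 2, e 3, e 4, e 5] : Fin 5 → G) i = e i.succ := by
      intro i; fin_cases i <;> rfl
    intro i j hij
    rw [key, key]
    exact ⟨hC.comm _ _, fun h1 => hij (Fin.succ_injective _ (hC.inj h1))⟩) ha (hC.na 0)
  have h2 := five_conj hD hG hk hx P (hC.mem 1) (e := ![e 0, e 2, e 3, e 4, e 5]) (by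
    intro i
    fin_cases i
    · exact ⟨hC.mem 0, fun h1 => absurd (hC.inj h1) (by decide), hC.comm 1 0⟩
    · exact ⟨hC.mem 2, fun h1 => absurd (hC.inj h1) (by decide), hC.comm 1 2⟩
    · exact ⟨hC.mem 3, fun h1 => absurd (hC.inj h1) (by decide), hC.comm 1 3⟩
    · exact ⟨hC.mem 4, fun h1 => absurd (hC.inj h1) (by decide), hC.comm 1 4⟩
    · exact ⟨hC.mem 5, fun h1 => absurd (hC.inj h1) (by decide), hC.comm 1 5⟩) (by
    have key : ∀ i : Fin 5, (![e 0, e 2, e 3, e 4, e 5] : Fin 5 → G) i = e (Fin.succAbove 1 i) := by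
      intro i; fin_cases i <;> rfl
    intro i j hij
    rw [key, key]
    exact ⟨hC.comm _ _, fun h1 => hij (Fin.succAbove_right_injective (hC.inj h1))⟩) ha (hC.na 1)
  simp only [Matrix.cons_val] at h1 h2
  have e1 : e 0 * e 1 * e 2 * e 3 * e 4 * e 5 * a * (e 0 * e 1 * e 2 * e 3 * e 4 * e 5)⁻¹ =
      e 0 * (e 1 * e 2 * e 3 * e 4 * e 5 * a * (e 1 * e 2 * e 3 * e 4 * e 5)⁻¹) * e 0 := by
    simp only [mul_inv_rev, hi, mul_assoc]
  have e2 : e 0 * e 1 * e 2 * e 3 * e 4 * e 5 * a * (e 0 * e 1 * e 2 * e 3 * e 4 * e 5)⁻¹ =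
      e 1 * (e 0 * e 2 * e 3 * e 4 * e 5 * a * (e 0 * e 2 * e 3 * e 4 * e 5)⁻¹) * e 1 := by
    rw [(hC.comm 0 1).eq]
    simp only [mul_inv_rev, hi, mul_assoc]
  rcases h1 with h1 | h1
  · rcases h2 with h2 | h2
    · exfalso
      rw [h1] at e1
      rw [h2] at e2
      rw [e1, ← h.braid a ha _ (hC.mem 0) (hC.na 0), ← h.braid a ha _ (hC.mem 1) (hC.na 1)] at e2
      exact absurd (hC.inj (mul_left_cancel (mul_right_cancel e2))) (by decide)
    · rw [e2, h2, h.conj_conj (hC.mem 1)]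
  · rw [e1, h1, h.conj_conj (hC.mem 0)]

/-- conjugate of `a` -/
def A (a g : G) : G := g * a * g⁻¹

omit [Finite G] in
theorem A_comm_iff (a g k : G) : Commute (A a g) (A a k) ↔ Commute (A a (k⁻¹ * g)) a := by
  have e1 : A a g = k * (A a (k⁻¹ * g)) * k⁻¹ := by
    simp only [A]; group
  have e2 : A a k = k * a * k⁻¹ := rfl
  rw [e1, e2, FData.commute_conj_gen]

omit [Finite G] in
theorem A_eq_iff (a g k : G) : A a g = A a k ↔ A a (k⁻¹ * g) = a := by
  constructor
  · intro h
    have e1 : A a (k⁻¹ * g) = k⁻¹ * A a g * k := by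
      simp only [A]; group
    rw [e1, h]
    simp only [A]; group
  · intro h
    have e1 : A a g = k * (A a (k⁻¹ * g)) * k⁻¹ := by
      simp only [A]; group
    rw [e1, h]
    rfl

/-- `a` and its conjugate by `g` are different and commute -/
def Q (a g : G) : Prop := Commute (A a g) a ∧ A a g ≠ a

omit [Finite G] in
theorem Q.of_conj {a g k : G} (h : Q a k) (hg : A a (g * k) = a) : Q a g := by
  have e1 : A a (g * k) = g * A a k * g⁻¹ := by
    simp only [A]; group
  rw [e1] at hg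
  obtain ⟨h1, h2⟩ := h
  constructor
  · have h3 := (FData.commute_conj_gen g (A a k) a).2 h1
    rw [hg] at h3
    exact h3.symm
  · intro h3
    apply h2
    have h4 : g * A a k * g⁻¹ = g * a * g⁻¹ := by
      rw [hg]; exact h3.symm
    exact mul_left_cancel (mul_right_cancel h4)

theorem Clique.Q_two (h : FData D) {e : Fin 6 → G} {a : G} (hC : Clique D e a) {i j : Fin 6}
    (hij : i ≠ j) : Q a (e i * e j) := by
  have ha := hC.mema
  have e1 : A a (e i * e j) = e i * (e j * a * e j) * e i := by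
    simp only [A, mul_inv_rev, h.inv_eq (hC.mem i), h.inv_eq (hC.mem j), mul_assoc]
  constructor
  · rw [e1]
    exact s4_comm h ha (hC.mem i) (hC.mem j) (hC.comm i j) (hC.na i) (hC.na j)
  · rw [e1]
    exact s4_ne h ha (hC.mem i) (hC.mem j) (hC.na i) (hC.na j) (fun h1 => hij (hC.inj h1))

/-- the seven clique -/
theorem no_clique [Module.Finite (ZMod 3) V] (hD : FGroup D) (hG : Good B)
    (hk : Module.finrank (ZMod 3) V = 5) {x : G} (hx : x ∈ D) {f : V → G}
    (P : Par (Loc D x) B f) {e : Fin 6 → G} {a : G} (hC : Clique D e a) : False := by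
  have h := fd hD
  have ha := hC.mema
  have hi : ∀ i, (e i)⁻¹ = e i := fun i => h.inv_eq (hC.mem i)
  have hsq : ∀ i, e i * e i = 1 := fun i => h.sq _ (hC.mem i)
  obtain ⟨g, hg⟩ := h.single x hx a ha
  have hP' := P.conjugate h g
  rw [hg] at hP'
  generalize hf' : (fun v => g * f v * g⁻¹) = f' at hP'
  have P' : Par (Loc D a) B f' := hP'
  -- the words
  obtain ⟨w, hw⟩ : ∃ w : Option (Fin 5) → G, w = fun o => o.elim (e 1 * e 2)
    (fun i => e 0 * e i.succ) := ⟨_, rfl⟩
  have hwn : w none = e 1 * e 2 := by rw [hw]; rfl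
  have hws : ∀ i, w (some i) = e 0 * e i.succ := by intro i; rw [hw]; rfl
  have hQ : ∀ i : Fin 5, Q a ((w none)⁻¹ * w (some i)) := by
    intro i
    rw [hwn, hws, mul_inv_rev, hi, hi]
    fin_cases i
    · show Q a (e 2 * e 1 * (e 0 * e 1))
      have e1 : e 2 * e 1 * (e 0 * e 1) = e 2 * e 0 := by
        rw [mul_assoc, ← mul_assoc (e 1) (e 0), (hC.comm 1 0).eq, mul_assoc (e 0), hsq, mul_one]
      rw [e1]
      exact hC.Q_two h (by decide)
    · show Q a (e 2 * e 1 * (e 0 * e 2))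
      have e1 : e 2 * e 1 * (e 0 * e 2) = e 1 * e 0 := by
        rw [(hC.comm 2 1).eq, (hC.comm 0 2).eq, mul_assoc, ← mul_assoc (e 2) (e 2), hsq, one_mul]
      rw [e1]
      exact hC.Q_two h (by decide)
    · show Q a (e 2 * e 1 * (e 0 * e 3))
      have h1 := six_conj hD hG hk hx P (hC.comp ![2, 1, 0, 3, 4, 5] (by decide))
      refine Q.of_conj (hC.Q_two h (i := 4) (j := 5) (by decide)) ?_
      have e1 : e 2 * e 1 * (e 0 * e 3) * (e 4 * e 5) = e 2 * e 1 * e 0 * e 3 * e 4 * e 5 := by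
        simp only [mul_assoc]
      rw [e1]
      exact h1
    · show Q a (e 2 * e 1 * (e 0 * e 4))
      have h1 := six_conj hD hG hk hx P (hC.comp ![2, 1, 0, 4, 3, 5] (by decide))
      refine Q.of_conj (hC.Q_two h (i := 3) (j := 5) (by decide)) ?_
      have e1 : e 2 * e 1 * (e 0 * e 4) * (e 3 * e 5) = e 2 * e 1 * e 0 * e 4 * e 3 * e 5 := by
        simp only [mul_assoc]
      rw [e1]
      exact h1
    · show Q a (e 2 * e 1 * (e 0 * e 5))
      have h1 := six_conj hD hG hk hx P (hC.comp ![2, 1, 0, 5, 3, 4] (by decide))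
      refine Q.of_conj (hC.Q_two h (i := 3) (j := 4) (by decide)) ?_
      have e1 : e 2 * e 1 * (e 0 * e 5) * (e 3 * e 4) = e 2 * e 1 * e 0 * e 5 * e 3 * e 4 := by
        simp only [mul_assoc]
      rw [e1]
      exact h1
  have hwQ : ∀ o, Q a (w o) := by
    intro o
    cases o with
    | none => rw [hwn]; exact hC.Q_two h (by decide)
    | some i => rw [hws]; exact hC.Q_two h (Fin.succ_ne_zero i).symm
  have hpair : ∀ o o', o ≠ o' → Commute (A a (w o)) (A a (w o')) ∧ A a (w o) ≠ A a (w o') := by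
    have key : ∀ o o', Q a ((w o')⁻¹ * w o) →
        Commute (A a (w o)) (A a (w o')) ∧ A a (w o) ≠ A a (w o') := by
      intro o o' h1
      exact ⟨(A_comm_iff _ _ _).2 h1.1, fun h2 => h1.2 ((A_eq_iff _ _ _).1 h2)⟩
    intro o o' hne
    cases o with
    | none =>
      cases o' with
      | none => exact absurd rfl hne
      | some j =>
        obtain ⟨h1, h2⟩ := key (some j) none (hQ j)
        exact ⟨h1.symm, h2.symm⟩
    | some i =>
      cases o' with
      | none => exact key (some i) none (hQ i)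
      | some j =>
        apply key
        have hij : i ≠ j := fun h1 => hne (by rw [h1])
        rw [hws, hws, mul_inv_rev, hi, hi, mul_assoc, ← mul_assoc (e 0), hsq, one_mul]
        exact hC.Q_two h (fun h1 => hij (Fin.succ_injective _ h1).symm)
  have hmem : ∀ o, A a (w o) ∈ Loc D a := fun o =>
    ⟨h.conj _ _ ha, (hwQ o).2, (hwQ o).1.symm⟩
  choose p hp hfp using fun o => P'.surj _ (hmem o)
  have hcard := card_le (p := p) hp (by
    intro o o' hne
    rw [← P'.comm_ne_iff (hp o) (hp o'), hfp, hfp]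
    exact hpair o o' hne)
  rw [hk, Fintype.card_option, Fintype.card_fin] at hcard
  omega

end Cfsg.Agent.Fischer3.Orth3Six
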