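import Mathlib
import Cfsg.Agent.Fischer3.Orth3E1
import Cfsg.Agent.Fischer3.Orth3Six

set_option autoImplicit false
set_option linter.unusedSimpArgs false
set_option linter.unusedSectionVars false

/-!
# (E1) in dimension five
-/

namespace Cfsg.Agent.Fischer3.Orth3Five

open LinearMap (BilinForm)
open Cfsg.Agent.Fischer480.Defs Cfsg.Agent.Fischer3.Orth3Basic Cfsg.Agent.Fischer3.Orth3Coord
open Cfsg.Agent.Fischer3.Orth3Local Cfsg.Agent.Fischer3.Orth3Dir Cfsg.Agent.Fischer3.Orth3E1
open Cfsg.Agent.Fischer3.Orth3Six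
open Cfsg.Agent.SporadicStructure.FischerSpace Cfsg.Agent.SporadicStructure.FischerRank3

variable {G : Type*} [Group G] [Finite G] {D : Set G}
variable {V : Type*} [AddCommGroup V] [Module (ZMod 3) V] {B : BilinForm (ZMod 3) V}

/-- the 45 point case: contradiction -/
theorem case45 [Module.Finite (ZMod 3) V] (hD : FGroup D) (hG : Good B)
    (hk : Module.finrank (ZMod 3) V = 5) {x : G} (hx : x ∈ D) {f : V → G}
    (P : Par (Loc D x) B f) {a : G} (ha : a ∈ D) (hxa : ¬ Commute x a)
    {y z u u' t : V} (hy : B y y = 1) (hz : B z z = 1) (hu : B u u = 0) (hu' : B u' u' = 0)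
    (hyz : B y z = 0) (hyu : B y u = 0) (hyu' : B y u' = 0) (hzu : B z u = 0) (hzu' : B z u' = 0)
    (huu' : B u u' = 1) (ht : B t t = -1) (hyt : B y t = 0) (hzt : B z t = 0) (hut : B u t = 0)
    (hut' : B u' t = 0)
    (Dy : Dir B (fun v => Commute a (f v)) y u) (Dz : Dir B (fun v => Commute a (f v)) z u') :
    False := by
  have h := fd hD
  have F := hG.toForm
  have hzy : B z y = 0 := by rw [F.symm]; exact hyz
  have huy : B u y = 0 := by rw [F.symm]; exact hyu
  have hu'y : B u' y = 0 := by rw [F.symm]; exact hyu'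
  have huz : B u z = 0 := by rw [F.symm]; exact hzu
  have hu'z : B u' z = 0 := by rw [F.symm]; exact hzu'
  have hu'u : B u' u = 1 := by rw [F.symm]; exact huu'
  have hty : B t y = 0 := by rw [F.symm]; exact hyt
  have htz : B t z = 0 := by rw [F.symm]; exact hzt
  have htu : B t u = 0 := by rw [F.symm]; exact hut
  have htu' : B t u' = 0 := by rw [F.symm]; exact hut'
  -- closure
  have hcl : ∀ v w, B v v = 1 → B w w = 1 → Commute a (f v) → Commute a (f w) →
      Commute a (f (rfn B w v)) := by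
    intro v w hv hw h1 h2
    rw [← P.conj w v hw hv]
    exact (h2.mul_right h1).mul_right h2
  have Xzu : Commute a (f (z + u)) := (Dy.2.2.2 (z + u)
    (by rw [F.norm_add, hz, hu, hzu]; decide) (by rw [map_add, hyz, hyu, add_zero])).2
    (by rw [map_add, huz, hu, add_zero])
  have Xzu' : Commute a (f (z - u)) := (Dy.2.2.2 (z - u)
    (by rw [F.norm_sub, hz, hu, hzu]; decide) (by rw [map_sub, hyz, hyu, sub_zero])).2
    (by rw [map_sub, huz, hu, sub_zero])
  have Xyu : Commute a (f (y + u')) := (Dz.2.2.2 (y + u')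
    (by rw [F.norm_add, hy, hu', hyu']; decide) (by rw [map_add, hzy, hzu', add_zero])).2
    (by rw [map_add, hu'y, hu', add_zero])
  have Xyu' : Commute a (f (y - u')) := (Dz.2.2.2 (y - u')
    (by rw [F.norm_sub, hy, hu', hyu']; decide) (by rw [map_sub, hzy, hzu', sub_zero])).2
    (by rw [map_sub, hu'y, hu', sub_zero])
  obtain ⟨p, hpdef⟩ : ∃ p : Fin 5 → V, p = ![u + u' + t, y + z + u' + t, y + z - u' - t,
    y - z + u + t, y - z - u - t] := ⟨_, rfl⟩
  have p0 : p 0 = u + u' + t := by rw [hpdef]; rfl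
  have p1 : p 1 = y + z + u' + t := by rw [hpdef]; rfl
  have p2 : p 2 = y + z - u' - t := by rw [hpdef]; rfl
  have p3 : p 3 = y - z + u + t := by rw [hpdef]; rfl
  have p4 : p 4 = y - z - u - t := by rw [hpdef]; rfl
  have hall : ∀ i j, B (p i) (p j) = if i = j then 1 else 0 := by
    intro i j
    fin_cases i <;> fin_cases j <;>
      simp only [Fin.zero_eta, Fin.mk_one, Fin.reduceFinMk, p0, p1, p2, p3, p4, map_add, map_sub,
        LinearMap.add_apply, LinearMap.sub_apply, hy, hz, hu, hu', hyz, hyu, hyu', hzu, hzu', huu',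
        ht, hyt, hzt, hut, hut', hzy, huy, hu'y, huz, hu'z, hu'u, hty, htz, htu, htu'] <;> decide
  have hp : ∀ i, B (p i) (p i) = 1 := fun i => by rw [hall i i, if_pos rfl]
  have hpp : ∀ i j, i ≠ j → B (p i) (p j) = 0 := fun i j hij => by rw [hall i j, if_neg hij]
  have hnot : ∀ i, ¬ Commute a (f (p i)) := by
    intro i hc
    have np := hp i
    have aux : ∀ v : V, B v v = 1 → Commute a (f v) → (B y v = 0 → B u v ≠ 0 → False) ∧
        (B z v = 0 → B u' v ≠ 0 → False) := by
      intro v hv h1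
      exact ⟨fun h2 h3 => h3 ((Dy.2.2.2 v hv h2).1 h1), fun h2 h3 => h3 ((Dz.2.2.2 v hv h2).1 h1)⟩
    have n1 : B (z + u) (z + u) = 1 := by rw [F.norm_add, hz, hu, hzu]; decide
    have n2 : B (z - u) (z - u) = 1 := by rw [F.norm_sub, hz, hu, hzu]; decide
    have n3 : B (y + u') (y + u') = 1 := by rw [F.norm_add, hy, hu', hyu']; decide
    have n4 : B (y - u') (y - u') = 1 := by rw [F.norm_sub, hy, hu', hyu']; decide
    fin_cases i
    · change Commute a (f (p 0)) at hc
      change B (p 0) (p 0) = 1 at np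
      refine (aux _ np hc).1 ?_ ?_ <;>
      simp only [p0, map_add, map_sub,
        LinearMap.add_apply, LinearMap.sub_apply, hy, hz, hu, hu', hyz, hyu, hyu', hzu, hzu', huu',
        ht, hyt, hzt, hut, hut', hzy, huy, hu'y, huz, hu'z, hu'u, hty, htz, htu, htu'] <;> decide
    · change Commute a (f (p 1)) at hc
      change B (p 1) (p 1) = 1 at np
      refine (aux _ (by rw [F.refl_norm n1, np]) (hcl _ _ np n1 hc Xzu)).2 ?_ ?_ <;>
      simp only [rfn, p1, map_add, map_sub, map_smul, smul_eq_mul, LinearMap.smul_apply,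
        LinearMap.add_apply, LinearMap.sub_apply, hy, hz, hu, hu', hyz, hyu, hyu', hzu, hzu', huu',
        ht, hyt, hzt, hut, hut', hzy, huy, hu'y, huz, hu'z, hu'u, hty, htz, htu, htu'] <;> decide
    · change Commute a (f (p 2)) at hc
      change B (p 2) (p 2) = 1 at np
      refine (aux _ (by rw [F.refl_norm n2, np]) (hcl _ _ np n2 hc Xzu')).2 ?_ ?_ <;>
      simp only [rfn, p2, map_add, map_sub, map_smul, smul_eq_mul, LinearMap.smul_apply,
        LinearMap.add_apply, LinearMap.sub_apply, hy, hz, hu, hu', hyz, hyu, hyu', hzu, hzu', huu',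
        ht, hyt, hzt, hut, hut', hzy, huy, hu'y, huz, hu'z, hu'u, hty, htz, htu, htu'] <;> decide
    · change Commute a (f (p 3)) at hc
      change B (p 3) (p 3) = 1 at np
      refine (aux _ (by rw [F.refl_norm n3, np]) (hcl _ _ np n3 hc Xyu)).1 ?_ ?_ <;>
      simp only [rfn, p3, map_add, map_sub, map_smul, smul_eq_mul, LinearMap.smul_apply,
        LinearMap.add_apply, LinearMap.sub_apply, hy, hz, hu, hu', hyz, hyu, hyu', hzu, hzu', huu',
        ht, hyt, hzt, hut, hut', hzy, huy, hu'y, huz, hu'z, hu'u, hty, htz, htu, htu'] <;> decide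
    · change Commute a (f (p 4)) at hc
      change B (p 4) (p 4) = 1 at np
      refine (aux _ (by rw [F.refl_norm n4, np]) (hcl _ _ np n4 hc Xyu')).1 ?_ ?_ <;>
      simp only [rfn, p4, map_add, map_sub, map_smul, smul_eq_mul, LinearMap.smul_apply,
        LinearMap.add_apply, LinearMap.sub_apply, hy, hz, hu, hu', hyz, hyu, hyu', hzu, hzu', huu',
        ht, hyt, hzt, hut, hut', hzy, huy, hu'y, huz, hu'z, hu'u, hty, htz, htu, htu'] <;> decide
  -- the clique
  have hcomm : ∀ i j, Commute (f (p i)) (f (p j)) := by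
    intro i j
    by_cases hij : i = j
    · rw [hij]
    · exact P.commute_of_perp (hp i) (hp j) (hpp i j hij)
  have hC : Clique D (Fin.cons x (fun i => f (p i)) : Fin 6 → G) a := by
    refine ⟨?_, ?_, ?_, ha, ?_⟩
    · intro i
      refine Fin.cases ?_ (fun j => ?_) i
      · exact hx
      · exact (P.mem _ (hp j)).1
    · intro i j
      refine Fin.cases ?_ (fun i => ?_) i <;> refine Fin.cases ?_ (fun j => ?_) j
      · exact Commute.refl _
      · exact (P.mem _ (hp j)).2.2
      · exact (P.mem _ (hp i)).2.2.symm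
      · exact hcomm i j
    · intro i j
      refine Fin.cases ?_ (fun i => ?_) i <;> refine Fin.cases ?_ (fun j => ?_) j
      · intro _; rfl
      · intro h1
        exact absurd h1.symm (P.mem _ (hp j)).2.1
      · intro h1
        exact absurd h1 (P.mem _ (hp i)).2.1
      · intro h1
        by_contra hne
        have hij : i ≠ j := fun h2 => hne (by rw [h2])
        exact ((P.comm_ne_iff (hp i) (hp j)).2 (hpp i j hij)).2 h1
    · intro i
      refine Fin.cases ?_ (fun j => ?_) i
      · exact fun h1 => hxa h1.symm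
      · exact hnot j
  exact no_clique hD hG hk hx P hC

/-- (E1) in dimension five -/
theorem exists_dir_of_five [Module.Finite (ZMod 3) V] (hD : FGroup D) (F : Form B)
    (hn : Module.finrank (ZMod 3) V = 5) {x : G} (hx : x ∈ D)
    {f : V → G} (P : Par (Loc D x) B f) {a : G} (ha : a ∈ D) (hxa : ¬ Commute x a) :
    ∃ u, u ≠ 0 ∧ B u u = 0 ∧ ∀ v, B v v = 1 → (Commute a (f v) ↔ B u v = 0) := by
  have hG : Good B := Good.of_finrank F (by omega)
  apply dir_mem hD hG hx P ha hxa
  intro y z u u' hy hz Xy Xz hyz hu hu'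
  have hyu' : B y u' = 0 := by
    rw [F.symm]; exact (hu'.2.2.2 y hy (by rw [F.symm]; exact hyz)).1 Xy
  have hzu : B z u = 0 := by
    rw [F.symm]; exact (hu.2.2.2 z hz hyz).1 Xz
  refine orth_of_exists F hu hu' ?_ Xy hy hyz Xz hz
  intro h0
  obtain ⟨s, hs, hs1⟩ := F.exists_aniso ![y, z, u, u'] ⊥ (perp_four F rfl hy hz hu.2.1 hu'.2.1
    hyz hu.2.2.1 hyu' hzu hu'.2.2.1 h0) (by
    rw [finrank_bot]
    omega)
  have hys : B y s = 0 := hs 0
  have hzs : B z s = 0 := hs 1
  have hus : B u s = 0 := hs 2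
  have hu's : B u' s = 0 := hs 3
  rcases pm_of_ne hs1 with h1 | h1
  · exact ⟨s, h1, hys, hzs, hus, hu's⟩
  · exfalso
    rcases pm_of_ne h0 with h2 | h2
    · exact case45 hD hG hn hx P ha hxa hy hz hu.2.1 hu'.2.1 hyz hu.2.2.1 hyu' hzu hu'.2.2.1 h2 h1
        hys hzs hus hu's hu hu'
    · have hu'' := hu'.neg
      exact case45 hD hG hn hx P ha hxa hy hz hu.2.1 hu''.2.1 hyz hu.2.2.1
        (by rw [map_neg, hyu', neg_zero]) hzu hu''.2.2.1 (by rw [map_neg, h2, neg_neg]) h1
        hys hzs hus (by rw [map_neg, LinearMap.neg_apply, hu's, neg_zero]) hu hu''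

/-- **(E1)** -/
theorem exists_dir [Module.Finite (ZMod 3) V] (hD : FGroup D) (F : Form B)
    (hn : 5 ≤ Module.finrank (ZMod 3) V) {x : G} (hx : x ∈ D)
    {f : V → G} (P : Par (Loc D x) B f) {a : G} (ha : a ∈ D) (hxa : ¬ Commute x a) :
    ∃ u, u ≠ 0 ∧ B u u = 0 ∧ ∀ v, B v v = 1 → (Commute a (f v) ↔ B u v = 0) := by
  rcases Nat.lt_or_ge (Module.finrank (ZMod 3) V) 6 with h | h
  · exact exists_dir_of_five hD F (by omega) hx P ha hxa
  · exact exists_dir_of_six_le hD F h hx P ha hxa

end Cfsg.Agent.Fischer3.Orth3Five
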