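import Mathlib
import Cfsg.Agent.Fischer3.Orth3Local

set_option autoImplicit false
set_option linter.unusedSimpArgs false
set_option linter.unusedSectionVars false

/-!
# (E2): the signs

`PP w a`: the member `a` (not commuting with `x`) has `D_x ∩ D_a = w^⊥`.  The sign `sg a a'` is
intrinsic, and it is equal to `± B w w'`; the signs can be normalised simultaneously.
-/

namespace Cfsg.Agent.Fischer3.Orth3Glue

open LinearMap (BilinForm)
open Cfsg.Agent.Fischer480.Defs Cfsg.Agent.Fischer3.Orth3Basic Cfsg.Agent.Fischer3.Orth3Coord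
open Cfsg.Agent.Fischer3.Orth3Local
open Cfsg.Agent.SporadicStructure.FischerSpace Cfsg.Agent.SporadicStructure.FischerRank3

section Signs

variable {G : Type*} [Group G] {D : Set G}

open Classical in
/-- the intrinsic sign of a pair of members not commuting with `x` -/
noncomputable def sg (x a a' : G) : ZMod 3 :=
  if Commute a a' ∧ a ≠ a' then -1 else if Commute a (x * a' * x) ∧ a ≠ x * a' * x then 1 else 0

theorem not_both (h : FData D) {x a a' : G} (hx : x ∈ D) (ha' : a' ∈ D)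
    (hxa : ¬ Commute x a) (hxa' : ¬ Commute x a') :
    ¬ (Commute a a' ∧ Commute a (x * a' * x)) := by
  rintro ⟨h1, h2⟩
  apply hxa
  have h3 := third_conj' h hx ha' hxa'
  rw [← h3]
  exact ((h2.mul_right h1).mul_right h2).symm

theorem sg_eq_neg_one {x a a' : G} (h1 : Commute a a') (h2 : a ≠ a') : sg x a a' = -1 := by
  rw [sg, if_pos ⟨h1, h2⟩]

theorem sg_eq_one (h : FData D) {x a a' : G} (hx : x ∈ D) (ha' : a' ∈ D)
    (hxa : ¬ Commute x a) (hxa' : ¬ Commute x a') (h1 : Commute a (x * a' * x))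
    (h2 : a ≠ x * a' * x) : sg x a a' = 1 := by
  rw [sg, if_neg, if_pos ⟨h1, h2⟩]
  rintro ⟨h3, -⟩
  exact not_both h hx ha' hxa hxa' ⟨h3, h1⟩

theorem sg_cases (h : FData D) {x a a' : G} (hx : x ∈ D) (ha' : a' ∈ D)
    (hxa : ¬ Commute x a) (hxa' : ¬ Commute x a') :
    (Commute a a' ∧ a ≠ a' ∧ sg x a a' = -1) ∨
    (Commute a (x * a' * x) ∧ a ≠ x * a' * x ∧ sg x a a' = 1) ∨
    (¬ (Commute a a' ∧ a ≠ a') ∧ ¬ (Commute a (x * a' * x) ∧ a ≠ x * a' * x) ∧ sg x a a' = 0) := by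
  by_cases h1 : Commute a a' ∧ a ≠ a'
  · exact Or.inl ⟨h1.1, h1.2, sg_eq_neg_one h1.1 h1.2⟩
  · by_cases h2 : Commute a (x * a' * x) ∧ a ≠ x * a' * x
    · exact Or.inr (Or.inl ⟨h2.1, h2.2, sg_eq_one h hx ha' hxa hxa' h2.1 h2.2⟩)
    · refine Or.inr (Or.inr ⟨h1, h2, ?_⟩)
      rw [sg, if_neg h1, if_neg h2]

theorem not_comm_conj (h : FData D) {x a : G} (hx : x ∈ D) (hxa : ¬ Commute x a) :
    ¬ Commute x (x * a * x) := by
  intro h1
  apply hxa
  have h2 := (h.commute_conj_left_iff hx x a).2 h1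
  rwa [h.sq x hx, one_mul] at h2

theorem conj_eq_iff (h : FData D) {x a a' : G} (hx : x ∈ D) : a = x * a' * x ↔ x * a * x = a' := by
  constructor
  · intro h1
    rw [h1, h.conj_conj hx]
  · intro h1
    rw [← h1, h.conj_conj hx]

theorem sg_symm (h : FData D) {x a a' : G} (hx : x ∈ D) (ha : a ∈ D) (ha' : a' ∈ D)
    (hxa : ¬ Commute x a) (hxa' : ¬ Commute x a') : sg x a a' = sg x a' a := by
  have e1 : (Commute a a' ∧ a ≠ a') ↔ (Commute a' a ∧ a' ≠ a) :=
    ⟨fun h1 => ⟨h1.1.symm, h1.2.symm⟩, fun h1 => ⟨h1.1.symm, h1.2.symm⟩⟩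
  have e2 : (Commute a (x * a' * x) ∧ a ≠ x * a' * x) ↔
      (Commute a' (x * a * x) ∧ a' ≠ x * a * x) := by
    constructor
    · rintro ⟨h1, h2⟩
      refine ⟨((h.commute_conj_left_iff hx a a').2 h1).symm, ?_⟩
      intro h3
      exact h2 ((conj_eq_iff h hx).2 h3.symm)
    · rintro ⟨h1, h2⟩
      refine ⟨((h.commute_conj_left_iff hx a' a).2 h1).symm, ?_⟩
      intro h3
      exact h2 ((conj_eq_iff h hx).2 h3.symm)
  by_cases c1 : Commute a a' ∧ a ≠ a'
  · rw [sg, if_pos c1, sg, if_pos (e1.1 c1)]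
  · by_cases c2 : Commute a (x * a' * x) ∧ a ≠ x * a' * x
    · rw [sg, if_neg c1, if_pos c2, sg, if_neg (fun h1 => c1 (e1.2 h1)), if_pos (e2.1 c2)]
    · rw [sg, if_neg c1, if_neg c2, sg, if_neg (fun h1 => c1 (e1.2 h1)),
        if_neg (fun h1 => c2 (e2.2 h1))]

theorem sg_conj_right (h : FData D) {x a a' : G} (hx : x ∈ D) (ha : a ∈ D) (ha' : a' ∈ D)
    (hxa : ¬ Commute x a) (hxa' : ¬ Commute x a') : sg x a (x * a' * x) = - sg x a a' := by
  have h1' := h.conj' hx ha'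
  have h2' := not_comm_conj h hx hxa'
  rcases sg_cases h hx ha' hxa hxa' with ⟨h1, h2, h3⟩ | ⟨h1, h2, h3⟩ | ⟨h1, h2, h3⟩
  · rw [h3, neg_neg]
    apply sg_eq_one h hx h1' hxa h2'
    · rw [h.conj_conj hx]; exact h1
    · rw [h.conj_conj hx]; exact h2
  · rw [h3]
    exact sg_eq_neg_one h1 h2
  · rw [h3, neg_zero, sg, if_neg h2, if_neg]
    rw [h.conj_conj hx]
    exact h1

theorem sg_conj_left (h : FData D) {x a a' : G} (hx : x ∈ D) (ha : a ∈ D) (ha' : a' ∈ D)
    (hxa : ¬ Commute x a) (hxa' : ¬ Commute x a') : sg x (x * a * x) a' = - sg x a a' := by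
  rw [sg_symm h hx (h.conj' hx ha) ha' (not_comm_conj h hx hxa) hxa',
    sg_conj_right h hx ha' ha hxa' hxa, sg_symm h hx ha' ha hxa' hxa]

/-- two commuting members not commuting with `x` -/
theorem exists_s4 (h : FData D) {x a a' : G} (hx : x ∈ D) (ha : a ∈ D) (ha' : a' ∈ D)
    (hxa : ¬ Commute x a) (hxa' : ¬ Commute x a') (hc : Commute a a') (hne : a ≠ a') :
    ∃ y ∈ D, y ≠ x ∧ Commute x y ∧ ¬ Commute a y ∧ a' = x * (y * a * y) * x := by
  have h1 := s4_comm h hx ha ha' hc hxa hxa'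
  have h2 := s4_ne h hx ha ha' hxa hxa' hne
  have hy : a * (a' * x * a') * a ∈ D := h.conj' ha (h.conj' ha' hx)
  have e1 : (a * (a' * x * a') * a) * a * (a * (a' * x * a') * a) = x * a' * x := by
    have haa := h.sq a ha
    have hcc : a' * a * a' = a := (h.commute_iff ha' a).1 hc.symm
    have hcc' : a * a' * a = a' := (h.commute_iff ha a').1 hc
    calc (a * (a' * x * a') * a) * a * (a * (a' * x * a') * a)
        = a * a' * x * a' * (a * a) * a * (a' * x * a') * a := by simp only [mul_assoc]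
      _ = a * a' * x * (a' * a * a') * x * a' * a := by
          rw [haa]; simp only [mul_assoc, one_mul]
      _ = a * a' * (x * a * x) * a' * a := by rw [hcc]; simp only [mul_assoc]
      _ = (a * a' * a) * x * (a * a' * a) := by
          rw [h.braid x hx a ha hxa]; simp only [mul_assoc]
      _ = a' * x * a' := by rw [hcc']
      _ = x * a' * x := (h.braid x hx a' ha' hxa').symm
  refine ⟨_, hy, h2, h1.symm, ?_, ?_⟩
  · intro h3
    have h4 := (h.commute_iff hy a).1 h3.symm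
    rw [e1] at h4
    have h5 : Commute a (x * a * x) := by
      rw [← h4, h.conj_conj hx, h4]
      exact hc
    rw [h.braid x hx a ha hxa, h.commute_iff ha] at h5
    apply hxa
    have h6 : a * (a * x * a) * a = x := h.conj_conj ha x
    rw [h6] at h5
    exact ((h.commute_iff ha x).2 h5.symm).symm
  · rw [e1, h.conj_conj hx]

end Signs

variable {G : Type*} [Group G] [Finite G] {D : Set G}
variable {V : Type*} [AddCommGroup V] [Module (ZMod 3) V] {B : BilinForm (ZMod 3) V}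

/-- `a` does not commute with `x` and `D_x ∩ D_a` consists of the norm one vectors orthogonal to
`w` -/
structure PP (D : Set G) (x : G) (B : BilinForm (ZMod 3) V) (f : V → G) (w : V) (a : G) :
    Prop where
  mem : a ∈ D
  nc : ¬ Commute x a
  ne : w ≠ 0
  iso : B w w = 0
  comm : ∀ v, B v v = 1 → (Commute a (f v) ↔ B w v = 0)

section

variable {x : G} {f : V → G}

theorem PP.neg {w : V} {a : G} (h : PP D x B f w a) : PP D x B f (-w) a where
  mem := h.mem
  nc := h.nc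
  ne := neg_ne_zero.2 h.ne
  iso := by simpa using h.iso
  comm := fun v hv => by rw [h.comm v hv]; simp

theorem PP.conj (hF : FData D) (hx : x ∈ D) (P : Par (Loc D x) B f) {w : V} {a : G}
    (h : PP D x B f w a) : PP D x B f w (x * a * x) where
  mem := hF.conj' hx h.mem
  nc := not_comm_conj hF hx h.nc
  ne := h.ne
  iso := h.iso
  comm := fun v hv => by
    rw [hF.commute_conj_left_iff hx, (hF.commute_iff hx _).1 (P.mem v hv).2.2, h.comm v hv]

theorem PP.refl (hF : FData D) (F : Form B) (P : Par (Loc D x) B f) {w v : V} {a : G}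
    (h : PP D x B f w a) (hv : B v v = 1) : PP D x B f (rfn B v w) (f v * a * f v) where
  mem := hF.conj' (P.mem v hv).1 h.mem
  nc := by
    intro hc
    apply h.nc
    have h1 := (hF.commute_conj_left_iff (P.mem v hv).1 x a).2 hc
    rwa [(hF.commute_iff (P.mem v hv).1 x).1 (P.mem v hv).2.2.symm] at h1
  ne := by
    intro h1
    apply h.ne
    rw [← refl_refl hv w, h1, rfn, map_zero, zero_smul, add_zero]
  iso := by rw [F.refl_norm hv]; exact h.iso
  comm := fun z hz => by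
    rw [hF.commute_conj_left_iff (P.mem v hv).1, P.conj v z hv hz,
      h.comm _ (by rw [F.refl_norm hv, hz]), F.apply_refl hv]

theorem PP.vec_unique (hG : Good B) {w w' : V} {a : G}
    (h : PP D x B f w a) (h' : PP D x B f w' a) : w' = w ∨ w' = -w := by
  apply hG.iso_eq' h.iso h'.iso h'.ne
  intro s hs h1
  rw [← h'.comm s hs, h.comm s hs]
  exact h1

theorem PP.unique (hD : FGroup D) (hG : Good B) (hx : x ∈ D) (P : Par (Loc D x) B f) {w : V}
    {a a' : G} (h : PP D x B f w a) (h' : PP D x B f w a') : a' = a ∨ a' = x * a * x := by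
  apply theta hD hG hx P h.mem h'.mem h.nc h'.nc
  intro y hy hc
  obtain ⟨v, hv, rfl⟩ := P.surj y hy
  rw [h'.comm v hv, ← h.comm v hv]
  exact hc

/-- the key relation between the intrinsic sign and the form -/
theorem PP.sg_ne_zero (hD : FGroup D) (hG : Good B) (hx : x ∈ D) (P : Par (Loc D x) B f)
    {w w' : V} {a a' : G} (h : PP D x B f w a) (h' : PP D x B f w' a') (hs : sg x a a' ≠ 0) :
    B w w' ≠ 0 := by
  have hF := fd hD
  have F := hG.toForm
  have key : ∀ a', PP D x B f w' a' → Commute a a' → a ≠ a' → B w w' ≠ 0 := by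
    intro a' h' hc hne
    obtain ⟨y, hy, hyx, hxy, hay, he⟩ := exists_s4 hF hx h.mem h'.mem h.nc h'.nc hc hne
    obtain ⟨v, hv, rfl⟩ := P.surj y ⟨hy, hyx, hxy⟩
    have h1 : PP D x B f (rfn B v w) a' := by
      rw [he]
      exact (h.refl hF F P hv).conj hF hx P
    have h2 : B w v ≠ 0 := fun h3 => hay ((h.comm v hv).2 h3)
    have h3 : B w (rfn B v w) ≠ 0 := by
      rw [rfn, map_add, map_smul, h.iso, zero_add, F.symm v w, smul_eq_mul]
      exact mul_ne_zero h2 h2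
    rcases h1.vec_unique hG h' with h4 | h4
    · rw [h4]; exact h3
    · rw [h4, map_neg]; exact neg_ne_zero.2 h3
  rcases sg_cases hF hx h'.mem h.nc h'.nc with ⟨h1, h2, h3⟩ | ⟨h1, h2, h3⟩ | ⟨h1, h2, h3⟩
  · exact key a' h' h1 h2
  · exact key _ (h'.conj hF hx P) h1 h2
  · exact absurd h3 hs

theorem PP.of_eq_one (hD : FGroup D) (hG : Good B) (hx : x ∈ D) (P : Par (Loc D x) B f)
    {w w' : V} {a a' : G} (h : PP D x B f w a) (h' : PP D x B f w' a') (hB : B w w' = 1) :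
    B (w' - w) (w' - w) = 1 ∧ ¬ Commute a (f (w' - w)) ∧
    ((sg x a a' = 1 ∧ a' = f (w' - w) * a * f (w' - w)) ∨
      (sg x a a' = -1 ∧ a' = x * (f (w' - w) * a * f (w' - w)) * x)) := by
  have hF := fd hD
  have F := hG.toForm
  have hB' : B w' w = 1 := by rw [F.symm]; exact hB
  have hv : B (w' - w) (w' - w) = 1 := by
    rw [F.norm_sub, h.iso, h'.iso, hB']; decide
  have hr : rfn B (w' - w) w = w' := by
    rw [rfn, map_sub, LinearMap.sub_apply, h.iso, hB', sub_zero, one_smul, add_sub_cancel]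
  have hav : ¬ Commute a (f (w' - w)) := by
    rw [h.comm _ hv, map_sub, hB, h.iso, sub_zero]
    decide
  have h1 := h.refl hF F P hv
  rw [hr] at h1
  have hxv := (P.mem _ hv).2.2
  have hvx := (P.mem _ hv).2.1
  have c1 := s4_comm hF h.mem hx (P.mem _ hv).1 hxv (fun hc => h.nc hc.symm) hav
  have c2 := s4_ne hF h.mem hx (P.mem _ hv).1 (fun hc => h.nc hc.symm) hav hvx.symm
  refine ⟨hv, hav, ?_⟩
  rcases h1.unique hD hG hx P h' with h2 | h2
  · left
    refine ⟨?_, h2⟩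
    rw [← h2] at c1 c2
    exact sg_eq_one hF hx h'.mem h.nc h'.nc c1.symm c2.symm
  · right
    refine ⟨?_, h2⟩
    rw [← h2] at c1 c2
    exact sg_eq_neg_one c1.symm c2.symm

/-- triangles, normalised -/
theorem triangle_one (hD : FGroup D) (hG : Good B) (hx : x ∈ D) (P : Par (Loc D x) B f)
    {w1 w2 w3 : V} {a1 a2 a3 : G} (h1 : PP D x B f w1 a1) (h2 : PP D x B f w2 a2)
    (h3 : PP D x B f w3 a3) (h12 : B w1 w2 = 1) (h13 : B w1 w3 = 1) (h23 : B w2 w3 ≠ 0)
    (s12 : sg x a1 a2 = 1) (s13 : sg x a1 a3 = 1) : sg x a2 a3 = B w2 w3 := by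
  have hF := fd hD
  have F := hG.toForm
  have h21 : B w2 w1 = 1 := by rw [F.symm]; exact h12
  have h31 : B w3 w1 = 1 := by rw [F.symm]; exact h13
  obtain ⟨n2, c2, e2⟩ := h1.of_eq_one hD hG hx P h2 h12
  obtain ⟨n3, c3, e3⟩ := h1.of_eq_one hD hG hx P h3 h13
  have e2' : a2 = f (w2 - w1) * a1 * f (w2 - w1) := by
    rcases e2 with ⟨-, e⟩ | ⟨e, -⟩
    · exact e
    · rw [s12] at e; exact absurd e (by decide)
  have e3' : a3 = f (w3 - w1) * a1 * f (w3 - w1) := by
    rcases e3 with ⟨-, e⟩ | ⟨e, -⟩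
    · exact e
    · rw [s13] at e; exact absurd e (by decide)
  have m2 := (P.mem _ n2).1
  have m3 := (P.mem _ n3).1
  rcases pm_of_ne h23 with h | h
  · -- product one: a line
    rw [h]
    have h32 : B w3 w2 = 1 := by rw [F.symm]; exact h
    obtain ⟨n, c, e⟩ := h2.of_eq_one hD hG hx P h3 h
    rcases e with ⟨e, -⟩ | ⟨-, e⟩
    · exact e
    exfalso
    -- `a3 = f (w3 - w2) a2 f (w3 - w2)`
    have r1 : rfn B (w2 - w1) (w3 - w1) = w3 - w2 := by
      have hb : B (w2 - w1) (w3 - w1) = -1 := by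
        simp only [map_sub, LinearMap.sub_apply, h1.iso, h12, h13, h21, h31, h]
        decide
      rw [rfn, hb, neg_smul, one_smul]
      abel
    have r2 : f (w3 - w2) = f (w2 - w1) * f (w3 - w1) * f (w2 - w1) := by
      rw [P.conj _ _ n2 n3, r1]
    have r3 : Commute a3 (f (w2 - w1)) := by
      rw [h3.comm _ n2, map_sub, h32, h31, sub_self]
    have r4 : f (w3 - w2) * a2 * f (w3 - w2) = a3 := by
      have hsq := hF.sq _ m2
      calc f (w3 - w2) * a2 * f (w3 - w2)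
          = f (w2 - w1) * f (w3 - w1) * (f (w2 - w1) * f (w2 - w1)) * a1 *
              (f (w2 - w1) * f (w2 - w1)) * f (w3 - w1) * f (w2 - w1) := by
            rw [r2, e2']; simp only [mul_assoc]
        _ = f (w2 - w1) * (f (w3 - w1) * a1 * f (w3 - w1)) * f (w2 - w1) := by
            rw [hsq]; simp only [mul_assoc, mul_one, one_mul]
        _ = a3 := by rw [← e3', (hF.commute_iff m2 a3).1 r3.symm]
    rw [r4] at e
    exact h3.nc ((hF.commute_iff hx a3).2 e.symm)
  · -- product minus one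
    rw [h]
    have h32 : B w3 w2 = -1 := by rw [F.symm]; exact h
    have hb : B (w2 - w1) (w3 - w1) = 0 := by
      simp only [map_sub, LinearMap.sub_apply, h1.iso, h12, h13, h21, h31, h]
      decide
    have d2 : ¬ Commute a2 (f (w2 - w1)) := by
      rw [h2.comm _ n2, map_sub, h2.iso, h21]
      decide
    have d3 : ¬ Commute a2 (f (w3 - w1)) := by
      rw [h2.comm _ n3, map_sub, h, h21]
      decide
    have hcomm := P.commute_of_perp n2 n3 hb
    have hne : f (w3 - w1) ≠ f (w2 - w1) := ((P.comm_ne_iff n2 n3).2 hb).2.symm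
    have e4 : a3 = f (w3 - w1) * (f (w2 - w1) * a2 * f (w2 - w1)) * f (w3 - w1) := by
      rw [e3', e2', hF.conj_conj m2]
    have c4 := s4_comm hF h2.mem m3 m2 hcomm.symm d3 d2
    have c5 := s4_ne hF h2.mem m3 m2 d3 d2 hne
    rw [← e4] at c4 c5
    exact sg_eq_neg_one c4.symm c5.symm

theorem exists_norm (hD : FGroup D) (hG : Good B) (hx : x ∈ D) (P : Par (Loc D x) B f)
    {w0 w : V} {a0 a : G} (h0 : PP D x B f w0 a0) (h : PP D x B f w a) (hne : B w0 w ≠ 0)
    (hs : sg x a0 a = B w0 w) :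
    ∃ w' a', PP D x B f w' a' ∧ B w0 w' = 1 ∧ sg x a0 a' = 1 ∧
      ((w' = w ∧ a' = a) ∨ (w' = -w ∧ a' = x * a * x)) := by
  have hF := fd hD
  rcases pm_of_ne hne with h1 | h1
  · exact ⟨w, a, h, h1, by rw [hs, h1], Or.inl ⟨rfl, rfl⟩⟩
  · refine ⟨-w, x * a * x, (h.conj hF hx P).neg, by rw [map_neg, h1, neg_neg], ?_,
      Or.inr ⟨rfl, rfl⟩⟩
    rw [sg_conj_right hF hx h0.mem h.mem h0.nc h.nc, hs, h1, neg_neg]

/-- triangles -/
theorem triangle (hD : FGroup D) (hG : Good B) (hx : x ∈ D) (P : Par (Loc D x) B f)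
    {w1 w2 w3 : V} {a1 a2 a3 : G} (h1 : PP D x B f w1 a1) (h2 : PP D x B f w2 a2)
    (h3 : PP D x B f w3 a3) (h12 : B w1 w2 ≠ 0) (h13 : B w1 w3 ≠ 0) (h23 : B w2 w3 ≠ 0)
    (s12 : sg x a1 a2 = B w1 w2) (s13 : sg x a1 a3 = B w1 w3) : sg x a2 a3 = B w2 w3 := by
  have hF := fd hD
  obtain ⟨w2', a2', h2', h12', s12', e2⟩ := exists_norm hD hG hx P h1 h2 h12 s12
  obtain ⟨w3', a3', h3', h13', s13', e3⟩ := exists_norm hD hG hx P h1 h3 h13 s13
  have key : B w2' w3' ≠ 0 → sg x a2' a3' = B w2' w3' := fun h =>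
    triangle_one hD hG hx P h1 h2' h3' h12' h13' h s12' s13'
  rcases e2 with ⟨rfl, rfl⟩ | ⟨rfl, rfl⟩ <;> rcases e3 with ⟨rfl, rfl⟩ | ⟨rfl, rfl⟩
  · exact key h23
  · have := key (by rw [map_neg]; exact neg_ne_zero.2 h23)
    rw [sg_conj_right hF hx h2.mem h3.mem h2.nc h3.nc, map_neg] at this
    exact neg_injective this
  · have := key (by rw [map_neg, LinearMap.neg_apply]; exact neg_ne_zero.2 h23)
    rw [sg_conj_left hF hx h2.mem h3.mem h2.nc h3.nc, map_neg, LinearMap.neg_apply] at this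
    exact neg_injective this
  · have := key (by simpa using h23)
    rw [sg_conj_left hF hx h2.mem (hF.conj' hx h3.mem) h2.nc (not_comm_conj hF hx h3.nc),
      sg_conj_right hF hx h2.mem h3.mem h2.nc h3.nc, neg_neg, map_neg, map_neg,
      LinearMap.neg_apply, neg_neg] at this
    exact this

/-- every isotropic vector occurs -/
theorem exists_PP (hD : FGroup D) (hG : Good B) (hx : x ∈ D) (P : Par (Loc D x) B f)
    {w0 : V} {a0 : G} (h0 : PP D x B f w0 a0) {w : V} (hw0 : w ≠ 0) (hw : B w w = 0) :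
    ∃ a, PP D x B f w a := by
  have hF := fd hD
  have F := hG.toForm
  have key : ∀ w1 w2 : V, (∃ a, PP D x B f w1 a) → B w2 w2 = 0 → B w1 w2 ≠ 0 →
      ∃ a, PP D x B f w2 a := by
    rintro w1 w2 ⟨a, ha⟩ h2 h12
    have key2 : ∀ w2, B w2 w2 = 0 → B w1 w2 = 1 → ∃ a, PP D x B f w2 a := by
      intro w2 h2 h12
      have h21 : B w2 w1 = 1 := by rw [F.symm]; exact h12
      have hv : B (w2 - w1) (w2 - w1) = 1 := by
        rw [F.norm_sub, ha.iso, h2, h21]; decide
      have hr : rfn B (w2 - w1) w1 = w2 := by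
        rw [rfn, map_sub, LinearMap.sub_apply, ha.iso, h21, sub_zero, one_smul, add_sub_cancel]
      have := ha.refl hF F P hv
      rw [hr] at this
      exact ⟨_, this⟩
    rcases pm_of_ne h12 with h | h
    · exact key2 w2 h2 h
    · obtain ⟨b, hb⟩ := key2 (-w2) (by simpa using h2) (by rw [map_neg, h, neg_neg])
      have := hb.neg
      rw [neg_neg] at this
      exact ⟨b, this⟩
  by_cases h : B w0 w = 0
  · obtain ⟨v, hv, h1, h2⟩ := F.exists_L0 h0.iso h0.ne hw0 h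
    refine key v w (key w0 v ⟨a0, h0⟩ hv ?_) hw h2
    rw [F.symm]; exact h1
  · exact key w0 w ⟨a0, h0⟩ hw h

theorem sg_eq_or (hD : FGroup D) (hG : Good B) (hx : x ∈ D) (P : Par (Loc D x) B f)
    {w w' : V} {a a' : G} (h : PP D x B f w a) (h' : PP D x B f w' a') :
    sg x a a' = B w w' ∨ sg x a a' = - B w w' := by
  have hF := fd hD
  by_cases h0 : B w w' = 0
  · left
    rw [h0]
    by_contra h1
    exact h.sg_ne_zero hD hG hx P h' h1 h0
  · rcases pm_of_ne h0 with h1 | h1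
    · rw [h1]
      rcases (h.of_eq_one hD hG hx P h' h1).2.2 with h2 | h2
      · exact Or.inl h2.1
      · exact Or.inr h2.1
    · have h3 : B w (-w') = 1 := by rw [map_neg, h1, neg_neg]
      rw [h1, neg_neg]
      rcases (h.of_eq_one hD hG hx P h'.neg h3).2.2 with h2 | h2
      · exact Or.inr h2.1
      · exact Or.inl h2.1

/-- choose the sign -/
theorem exists_link (hD : FGroup D) (hG : Good B) (hx : x ∈ D) (P : Par (Loc D x) B f)
    {w0 : V} {a0 : G} (h0 : PP D x B f w0 a0) {v : V} (hv0 : v ≠ 0) (hv : B v v = 0) :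
    ∃ b, PP D x B f v b ∧ sg x b a0 = B v w0 := by
  have hF := fd hD
  obtain ⟨b, hb⟩ := exists_PP hD hG hx P h0 hv0 hv
  rcases sg_eq_or hD hG hx P hb h0 with h1 | h1
  · exact ⟨b, hb, h1⟩
  · refine ⟨x * b * x, hb.conj hF hx P, ?_⟩
    rw [sg_conj_left hF hx hb.mem h0.mem hb.nc h0.nc, h1, neg_neg]

/-- a common neighbour of two isotropic vectors -/
theorem exists_nbr (hG : Good B) {w0 w : V} (h0 : B w0 w0 = 0) (h00 : w0 ≠ 0) (hw : B w w = 0)
    (hw0 : w ≠ 0) : ∃ v, B v v = 0 ∧ v ≠ 0 ∧ B v w0 ≠ 0 ∧ B v w ≠ 0 := by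
  have F := hG.toForm
  have key : ∀ v, B v w0 ≠ 0 → v ≠ 0 := by
    rintro v h1 rfl
    rw [map_zero, LinearMap.zero_apply] at h1
    exact h1 rfl
  by_cases h : B w0 w = 0
  · obtain ⟨v, hv, h1, h2⟩ := F.exists_L0 h0 h00 hw0 h
    exact ⟨v, hv, key v h1, h1, h2⟩
  · obtain ⟨v, hv, h1, h2⟩ := hG.exists_L0' h0 hw h
    exact ⟨v, hv, key v h1, h1, h2⟩

theorem eq_of_sg (hD : FGroup D) (hG : Good B) (hx : x ∈ D) (P : Par (Loc D x) B f)
    {w0 v v' : V} {a0 b b' : G} (h0 : PP D x B f w0 a0) (hb : PP D x B f v b)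
    (hb' : PP D x B f v' b') (hv : B v w0 ≠ 0) (hs : sg x b a0 = B v w0)
    (hs' : sg x b' a0 = B v' w0) :
    (v' = v → b' = b) ∧ (v' = -v → b' = x * b * x) := by
  have hF := fd hD
  have hne : ∀ c : ZMod 3, c ≠ 0 → c ≠ -c := by decide
  constructor
  · rintro rfl
    rcases hb.unique hD hG hx P hb' with h | h
    · exact h
    · exfalso
      rw [h, sg_conj_left hF hx hb.mem h0.mem hb.nc h0.nc, hs] at hs'
      exact hne _ hv hs'.symm
  · rintro rfl
    have hb'' := hb'.neg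
    rw [neg_neg] at hb''
    rcases hb.unique hD hG hx P hb'' with h | h
    · exfalso
      rw [h, hs, map_neg, LinearMap.neg_apply] at hs'
      exact hne _ hv hs'
    · exact h

/-- independence of the path -/
theorem path_indep (hD : FGroup D) (hG : Good B) (hx : x ∈ D) (P : Par (Loc D x) B f)
    {w0 w v v' : V} {a0 a b b' : G} (h0 : PP D x B f w0 a0) (ha : PP D x B f w a)
    (hb : PP D x B f v b) (hb' : PP D x B f v' b')
    (hv0 : B v w0 ≠ 0) (hv : B v w ≠ 0) (hv0' : B v' w0 ≠ 0) (hv' : B v' w ≠ 0)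
    (s0 : sg x b a0 = B v w0) (s0' : sg x b' a0 = B v' w0) (s1 : sg x a b = B w v) :
    sg x a b' = B w v' := by
  have hF := fd hD
  have F := hG.toForm
  have fl : ∀ {w1 w2 : V} {a1 a2 : G}, PP D x B f w1 a1 → PP D x B f w2 a2 →
      sg x a1 a2 = B w1 w2 → sg x a2 a1 = B w2 w1 := by
    intro w1 w2 a1 a2 h1 h2 h3
    rw [sg_symm hF hx h2.mem h1.mem h2.nc h1.nc, h3, F.symm]
  have nz : ∀ {w1 w2 : V}, B w1 w2 ≠ 0 → B w2 w1 ≠ 0 := by
    intro w1 w2 h1
    rw [F.symm]; exact h1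
  -- adjacent middle vertices
  have adj : ∀ {v v' : V} {b b' : G}, PP D x B f v b → PP D x B f v' b' → B v w0 ≠ 0 →
      B v w ≠ 0 → B v' w0 ≠ 0 → B v' w ≠ 0 → sg x b a0 = B v w0 → sg x b' a0 = B v' w0 →
      sg x a b = B w v → B v v' ≠ 0 → sg x a b' = B w v' := by
    intro v v' b b' hb hb' hv0 hv hv0' hv' s0 s0' s1 hvv
    have t1 : sg x b b' = B v v' :=
      triangle hD hG hx P h0 hb hb' (nz hv0) (nz hv0') hvv (fl hb h0 s0) (fl hb' h0 s0')
    exact triangle hD hG hx P hb ha hb' hv hvv (nz hv') (fl ha hb s1) t1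
  by_cases h1 : B v v' = 0
  · by_cases h2 : v' = v
    · have := (eq_of_sg hD hG hx P h0 hb hb' hv0 s0 s0').1 h2
      rw [this, h2]; exact s1
    by_cases h3 : v' = -v
    · have := (eq_of_sg hD hG hx P h0 hb hb' hv0 s0 s0').2 h3
      rw [this, h3, sg_conj_right hF hx ha.mem hb.mem ha.nc hb.nc, s1, map_neg]
    by_cases h4 : B w0 w = 0
    · obtain ⟨z, hz, z0, z1, z2, z3⟩ := hG.exists_common (w0 := w0) (w := w) (v := v) (v' := v')
        h0.iso hb.iso hb'.iso h4 hv0 hv0' h1 hv (fun h => h2 h.symm)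
        (fun h => h3 (by rw [h, neg_neg]))
      have hz0 : z ≠ 0 := by
        rintro rfl
        rw [map_zero, LinearMap.zero_apply] at z0
        exact z0 rfl
      obtain ⟨c, hc, sc⟩ := exists_link hD hG hx P h0 hz0 hz
      have t1 := adj hb hc hv0 hv z0 z1 s0 sc s1 (nz z2)
      exact adj hc hb' z0 z1 hv0' hv' sc s0' t1 z3
    · have t1 : sg x a0 a = B w0 w :=
        triangle hD hG hx P hb h0 ha hv0 hv h4 s0 (fl ha hb s1)
      exact triangle hD hG hx P h0 ha hb' h4 (nz hv0') (nz hv') t1 (fl hb' h0 s0')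
  · exact adj hb hb' hv0 hv hv0' hv' s0 s0' s1 h1

/-- positive pairs -/
def Pos (D : Set G) (x : G) (B : BilinForm (ZMod 3) V) (f : V → G) (w0 : V) (a0 : G) (w : V)
    (a : G) : Prop :=
  PP D x B f w a ∧ ∃ v b, PP D x B f v b ∧ B v w0 ≠ 0 ∧ B v w ≠ 0 ∧ sg x b a0 = B v w0 ∧
    sg x a b = B w v

theorem exists_pos (hD : FGroup D) (hG : Good B) (hx : x ∈ D) (P : Par (Loc D x) B f)
    {w0 w : V} {a0 a : G} (h0 : PP D x B f w0 a0) (ha : PP D x B f w a) :
    Pos D x B f w0 a0 w a ∨ Pos D x B f w0 a0 w (x * a * x) := by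
  have hF := fd hD
  obtain ⟨v, hv, hv0, h1, h2⟩ := exists_nbr hG h0.iso h0.ne ha.iso ha.ne
  obtain ⟨b, hb, sb⟩ := exists_link hD hG hx P h0 hv0 hv
  rcases sg_eq_or hD hG hx P ha hb with h3 | h3
  · exact Or.inl ⟨ha, v, b, hb, h1, h2, sb, h3⟩
  · refine Or.inr ⟨ha.conj hF hx P, v, b, hb, h1, h2, sb, ?_⟩
    rw [sg_conj_left hF hx ha.mem hb.mem ha.nc hb.nc, h3, neg_neg]

theorem Pos.flip (hD : FGroup D) (hG : Good B) (hx : x ∈ D) (P : Par (Loc D x) B f)
    {w0 w : V} {a0 a : G} (h : Pos D x B f w0 a0 w a) :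
    Pos D x B f w0 a0 (-w) (x * a * x) := by
  have hF := fd hD
  obtain ⟨ha, v, b, hb, h1, h2, sb, h3⟩ := h
  refine ⟨(ha.conj hF hx P).neg, v, b, hb, h1, by rw [map_neg]; exact neg_ne_zero.2 h2, sb, ?_⟩
  rw [sg_conj_left hF hx ha.mem hb.mem ha.nc hb.nc, h3, map_neg, LinearMap.neg_apply]

/-- all compatible paths from a positive pair -/
theorem Pos.sg_eq (hD : FGroup D) (hG : Good B) (hx : x ∈ D) (P : Par (Loc D x) B f)
    {w0 w v : V} {a0 a b : G} (h0 : PP D x B f w0 a0) (h : Pos D x B f w0 a0 w a)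
    (hb : PP D x B f v b) (h1 : B v w0 ≠ 0) (h2 : B v w ≠ 0) (sb : sg x b a0 = B v w0) :
    sg x a b = B w v := by
  obtain ⟨ha, v', b', hb', h1', h2', sb', h3'⟩ := h
  exact path_indep hD hG hx P h0 ha hb' hb h1' h2' h1 h2 sb' sb h3'

theorem Pos.unique (hD : FGroup D) (hG : Good B) (hx : x ∈ D) (P : Par (Loc D x) B f)
    {w0 w : V} {a0 a a' : G} (h0 : PP D x B f w0 a0) (h : Pos D x B f w0 a0 w a)
    (h' : Pos D x B f w0 a0 w a') : a' = a := by
  have hF := fd hD
  have F := hG.toForm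
  rcases h.1.unique hD hG hx P h'.1 with h1 | h1
  · exact h1
  · exfalso
    obtain ⟨ha, v, b, hb, h2, h3, sb, h4⟩ := h
    have h5 := h'.sg_eq hD hG hx P h0 hb h2 h3 sb
    rw [h1, sg_conj_left hF hx ha.mem hb.mem ha.nc hb.nc, h4] at h5
    have hne : ∀ c : ZMod 3, -c = c → c = 0 := by decide
    rw [F.symm] at h3
    exact h3 (hne _ h5)

/-- the direct edge to the base point -/
theorem Pos.base (hD : FGroup D) (hG : Good B) (hx : x ∈ D) (P : Par (Loc D x) B f)
    {w0 w : V} {a0 a : G} (h0 : PP D x B f w0 a0) (h : Pos D x B f w0 a0 w a)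
    (hw : B w w0 ≠ 0) : sg x a a0 = B w w0 := by
  have hF := fd hD
  have F := hG.toForm
  obtain ⟨ha, v, b, hb, h1, h2, sb, h3⟩ := h
  have h3' : sg x b a = B v w := by
    rw [sg_symm hF hx hb.mem ha.mem hb.nc ha.nc, h3, F.symm]
  exact triangle hD hG hx P hb ha h0 h2 h1 hw h3' sb

/-- **the signs are compatible** -/
theorem Pos.compat (hD : FGroup D) (hG : Good B) (hx : x ∈ D) (P : Par (Loc D x) B f)
    {w0 w w' : V} {a0 a a' : G} (h0 : PP D x B f w0 a0) (h : Pos D x B f w0 a0 w a)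
    (h' : Pos D x B f w0 a0 w' a') : sg x a a' = B w w' := by
  have hF := fd hD
  have F := hG.toForm
  by_cases hww : B w w' = 0
  · rcases sg_eq_or hD hG hx P h.1 h'.1 with h1 | h1
    · exact h1
    · rw [h1, hww, neg_zero]
  have hww' : B w' w ≠ 0 := by rw [F.symm]; exact hww
  by_cases h1 : B w w0 = 0
  · by_cases h2 : B w' w0 = 0
    · obtain ⟨v, hv, v0, v1, v2⟩ := F.exists_L2 h0.iso h0.ne h.1.iso h'.1.iso
        (by rw [F.symm]; exact h1) (by rw [F.symm]; exact h2) hww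
      have hv0 : v ≠ 0 := by
        rintro rfl
        rw [map_zero, LinearMap.zero_apply] at v0
        exact v0 rfl
      obtain ⟨b, hb, sb⟩ := exists_link hD hG hx P h0 hv0 hv
      have t1 := h.sg_eq hD hG hx P h0 hb v0 v1 sb
      have t2 := h'.sg_eq hD hG hx P h0 hb v0 v2 sb
      refine triangle hD hG hx P hb h.1 h'.1 v1 v2 hww ?_ ?_
      · rw [sg_symm hF hx hb.mem h.1.mem hb.nc h.1.nc, t1, F.symm]
      · rw [sg_symm hF hx hb.mem h'.1.mem hb.nc h'.1.nc, t2, F.symm]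
    · -- `w'` is adjacent to the base point
      exact h.sg_eq hD hG hx P h0 h'.1 h2 hww' (h'.base hD hG hx P h0 h2)
  · have t1 := h.base hD hG hx P h0 h1
    have t2 := h'.sg_eq hD hG hx P h0 h.1 h1 hww t1
    rw [sg_symm hF hx h.1.mem h'.1.mem h.1.nc h'.1.nc, t2, F.symm]

end

end Cfsg.Agent.Fischer3.Orth3Glue
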