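import Mathlib
import Cfsg.Agent.Fischer3.Orth3Glue
import Cfsg.Agent.Fischer3.Orth3Five

set_option autoImplicit false
set_option linter.unusedSimpArgs false
set_option linter.unusedSectionVars false
set_option linter.unusedVariables false

/-!
# S0480, case (E): if every `D_x` is an orthogonal space over `ZMod 3` of dimension `n ≥ 5`, then
`D` is one of dimension `n + 1`
-/

namespace Cfsg.Agent.Fischer3.Orth3Up

open LinearMap (BilinForm)
open Cfsg.Agent.Fischer480.Defs Cfsg.Agent.Fischer3.Orth3Basic Cfsg.Agent.Fischer3.Orth3Coord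
open Cfsg.Agent.Fischer3.Orth3Local Cfsg.Agent.Fischer3.Orth3Five Cfsg.Agent.Fischer3.Orth3Glue
open Cfsg.Agent.SporadicStructure.FischerSpace Cfsg.Agent.SporadicStructure.FischerRank3

section Form

variable {n : ℕ}

/-- the orthogonal sum `⟨1⟩ ⊥ B` -/
noncomputable def up (B : BilinForm (ZMod 3) (Fin n → ZMod 3)) :
    BilinForm (ZMod 3) (Fin (n + 1) → ZMod 3) :=
  (LinearMap.mul (ZMod 3) (ZMod 3)).compl₁₂ (LinearMap.proj 0) (LinearMap.proj 0) +
    B.compl₁₂ (LinearMap.funLeft (ZMod 3) (ZMod 3) Fin.succ)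
      (LinearMap.funLeft (ZMod 3) (ZMod 3) Fin.succ)

theorem up_apply (B : BilinForm (ZMod 3) (Fin n → ZMod 3)) (v w : Fin (n + 1) → ZMod 3) :
    up B v w = v 0 * w 0 + B (Fin.tail v) (Fin.tail w) := rfl

theorem up_cons (B : BilinForm (ZMod 3) (Fin n → ZMod 3)) (c d : ZMod 3)
    (v w : Fin n → ZMod 3) :
    up B (Fin.cons c v : Fin (n + 1) → ZMod 3) (Fin.cons d w : Fin (n + 1) → ZMod 3) =
      c * d + B v w := by
  rw [up_apply, Fin.cons_zero, Fin.cons_zero, Fin.tail_cons, Fin.tail_cons]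

theorem up_isSymm {B : BilinForm (ZMod 3) (Fin n → ZMod 3)} (F : Form B) : (up B).IsSymm := by
  constructor
  intro v w
  simp only [RingHom.id_apply, up_apply]
  rw [mul_comm, F.symm]

theorem up_nondegenerate {B : BilinForm (ZMod 3) (Fin n → ZMod 3)} (F : Form B) :
    (up B).Nondegenerate := by
  have hl : ∀ v, (∀ w, up B v w = 0) → v = 0 := by
    intro v hv
    have h0 : v 0 = 0 := by
      have := hv (Fin.cons 1 0)
      rw [up_apply, Fin.cons_zero, Fin.tail_cons, map_zero, mul_one, add_zero] at this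
      exact this
    have h1 : Fin.tail v = 0 := by
      apply F.nondeg
      intro w
      have := hv (Fin.cons 0 w)
      rw [up_apply, Fin.cons_zero, Fin.tail_cons, mul_zero, zero_add] at this
      exact this
    rw [← Fin.cons_self_tail v, h0, h1]
    ext i
    refine Fin.cases ?_ (fun j => ?_) i <;> simp
  refine ⟨hl, fun v hv => hl v (fun w => ?_)⟩
  rw [(up_isSymm F).eq]
  exact hv w

end Form

variable {G : Type*} [Group G] [Finite G] {D : Set G}

/-- the coordinates of a member of `D` -/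
def IsVec {n : ℕ} (D : Set G) (x : G) (B : BilinForm (ZMod 3) (Fin n → ZMod 3))
    (f : (Fin n → ZMod 3) → G) (w0 : Fin n → ZMod 3) (a0 : G) (d : G) (v : Fin (n + 1) → ZMod 3) :
    Prop :=
  (d = x ∧ v = Fin.cons 1 0) ∨
  (∃ w, B w w = 1 ∧ f w = d ∧ v = Fin.cons 0 w) ∨
  (∃ w, Pos D x B f w0 a0 w d ∧ v = Fin.cons 1 w)

/-- **(E)** -/
theorem caseE {G : Type*} [Group G] [Finite G] {D : Set G} (hD : FGroup D) (n : ℕ) (hn : 5 ≤ n)
    (hloc : ∀ x ∈ D, IsR n (Loc D x)) : IsR (n + 1) D := by
  have h := fd hD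
  obtain ⟨x, hx⟩ := h.nonempty
  obtain ⟨B, f, hG, P⟩ := exists_par h hn (hloc x hx)
  have F := hG.toForm
  have hE1 : ∀ a ∈ D, ¬ Commute x a → ∃ w, PP D x B f w a := by
    intro a ha hxa
    obtain ⟨u, h1, h2, h3⟩ := exists_dir hD F (by rw [Module.finrank_fin_fun]; exact hn) hx P ha hxa
    exact ⟨u, ha, hxa, h1, h2, h3⟩
  obtain ⟨a0, ha0, hxa0⟩ :=
    Cfsg.Agent.SporadicStructure.FischerPrimitive.exists_col h hD.sol x hx
  obtain ⟨w0, h0⟩ := hE1 a0 ha0 hxa0
  -- every member of `A_x` is positive for some vector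
  have hpos : ∀ a ∈ D, ¬ Commute x a → ∃ w, Pos D x B f w0 a0 w a := by
    intro a ha hxa
    obtain ⟨w, hw⟩ := hE1 a ha hxa
    rcases exists_pos hD hG hx P h0 hw with h1 | h1
    · exact ⟨w, h1⟩
    · have h2 := h1.flip hD hG hx P
      rw [h.conj_conj hx] at h2
      exact ⟨-w, h2⟩
  have hex : ∀ d, d ∈ D → ∃ v, IsVec D x B f w0 a0 d v := by
    intro d hd
    by_cases h1 : d = x
    · exact ⟨_, Or.inl ⟨h1, rfl⟩⟩
    · by_cases h2 : Commute x d
      · obtain ⟨w, hw, hfw⟩ := P.surj d ⟨hd, h1, h2⟩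
        exact ⟨_, Or.inr (Or.inl ⟨w, hw, hfw, rfl⟩)⟩
      · obtain ⟨w, hw⟩ := hpos d hd h2
        exact ⟨_, Or.inr (Or.inr ⟨w, hw, rfl⟩)⟩
  classical
  obtain ⟨g, hg⟩ : ∃ g : G → Fin (n + 1) → ZMod 3, ∀ d ∈ D, IsVec D x B f w0 a0 d (g d) := by
    refine ⟨fun d => if hd : d ∈ D then (hex d hd).choose else 0, fun d hd => ?_⟩
    simp only [dif_pos hd]
    exact (hex d hd).choose_spec
  have hnorm : ∀ d v, IsVec D x B f w0 a0 d v → up B v v = 1 := by
    rintro d v (⟨-, rfl⟩ | ⟨w, hw, -, rfl⟩ | ⟨w, hw, rfl⟩)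
    · rw [up_cons, map_zero]; rfl
    · rw [up_cons, hw]; rfl
    · rw [up_cons, hw.1.iso]; rfl
  have hcomm : ∀ d v d' v', IsVec D x B f w0 a0 d v → IsVec D x B f w0 a0 d' v' →
      (Commute d d' ↔ d = d' ∨ up B v v' = 0) := by
    -- the mixed cases in one direction
    have k1 : ∀ d w, B w w = 1 → f w = d → (Commute x d ↔ x = d ∨ up B (Fin.cons 1 0 :
        Fin (n + 1) → ZMod 3) (Fin.cons 0 w : Fin (n + 1) → ZMod 3) = 0) := by
      rintro d w hw rfl
      rw [up_cons, map_zero, LinearMap.zero_apply]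
      simp only [mul_zero, add_zero, or_true, iff_true]
      exact (P.mem w hw).2.2
    have k2 : ∀ d w, Pos D x B f w0 a0 w d → (Commute x d ↔ x = d ∨ up B (Fin.cons 1 0 :
        Fin (n + 1) → ZMod 3) (Fin.cons 1 w : Fin (n + 1) → ZMod 3) = 0) := by
      intro d w hw
      rw [up_cons, map_zero, LinearMap.zero_apply]
      constructor
      · intro h1
        exact absurd h1 hw.1.nc
      · rintro (h1 | h1)
        · rw [h1]
        · exact absurd h1 (by decide)
    have k3 : ∀ d w d' w', B w w = 1 → f w = d → Pos D x B f w0 a0 w' d' →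
        (Commute d' d ↔ d' = d ∨ up B (Fin.cons 1 w' : Fin (n + 1) → ZMod 3)
          (Fin.cons 0 w : Fin (n + 1) → ZMod 3) = 0) := by
      rintro d w d' w' hw rfl hw'
      rw [up_cons, mul_zero, zero_add, hw'.1.comm w hw]
      constructor
      · intro h1; exact Or.inr h1
      · rintro (h1 | h1)
        · exfalso
          apply hw'.1.nc
          rw [h1]
          exact (P.mem w hw).2.2
        · exact h1
    have hs : ∀ v v', up B v v' = up B v' v := fun v v' => (up_isSymm F).eq v v'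
    rintro d v d' v' (⟨rfl, rfl⟩ | ⟨w, hw, rfl, rfl⟩ | ⟨w, hw, rfl⟩)
      (⟨rfl, rfl⟩ | ⟨w', hw', rfl, rfl⟩ | ⟨w', hw', rfl⟩)
    · simp
    · exact k1 _ w' hw' rfl
    · exact k2 d' w' hw'
    · rw [hs, eq_comm (a := f w), Commute.symm_iff]
      exact k1 _ w hw rfl
    · rw [up_cons, mul_zero, zero_add, P.comm w w' hw hw']
      constructor
      · rintro (h1 | h1 | h1)
        · exact Or.inr h1
        · left; rw [h1]
        · left; rw [h1, P.neg w' hw']
      · rintro (h1 | h1)
        · exact Or.inr (P.inj w w' hw hw' h1)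
        · exact Or.inl h1
    · rw [hs, eq_comm (a := f w), Commute.symm_iff]
      exact k3 _ w d' w' hw rfl hw'
    · rw [hs, eq_comm (a := d), Commute.symm_iff]
      exact k2 d w hw
    · exact k3 _ w' d w hw' rfl hw
    · rw [up_cons, mul_one]
      have hc := hw.compat hD hG hx P h0 hw'
      rcases sg_cases h hx hw'.1.mem hw.1.nc hw'.1.nc with ⟨h1, h2, h3⟩ | ⟨h1, h2, h3⟩ | ⟨h1, h2, h3⟩
      · rw [← hc, h3]
        simp [h1]
      · rw [← hc, h3]
        constructor
        · intro h4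
          exact absurd ⟨h4, h1⟩ (not_both h hx hw'.1.mem hw.1.nc hw'.1.nc)
        · rintro (h4 | h4)
          · rw [h4]
          · exact absurd h4 (by decide)
      · rw [← hc, h3]
        constructor
        · intro h4
          left
          by_contra h5
          exact h1 ⟨h4, h5⟩
        · rintro (h4 | h4)
          · rw [h4]
          · exact absurd h4 (by decide)
  refine ⟨up B, g, up_isSymm F, up_nondegenerate F, fun d hd => hnorm d _ (hg d hd),
    fun d hd d' hd' => hcomm d _ d' _ (hg d hd) (hg d' hd'), ?_, ?_⟩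
  · -- injectivity up to sign
    have hinj : ∀ d v d' v', IsVec D x B f w0 a0 d v → IsVec D x B f w0 a0 d' v' →
        (v = v' ∨ v = -v') → d = d' := by
      have hneg : ∀ (c : ZMod 3) (w : Fin n → ZMod 3), -(Fin.cons c w : Fin (n + 1) → ZMod 3) =
          Fin.cons (-c) (-w) := by
        intro c w
        ext i
        refine Fin.cases ?_ (fun j => ?_) i <;> simp
      rintro d v d' v' (⟨rfl, rfl⟩ | ⟨w, hw, rfl, rfl⟩ | ⟨w, hw, rfl⟩)
        (⟨rfl, rfl⟩ | ⟨w', hw', rfl, rfl⟩ | ⟨w', hw', rfl⟩) he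
      · rfl
      · exfalso
        rw [hneg, Fin.cons_inj, Fin.cons_inj] at he
        rcases he with ⟨he, -⟩ | ⟨he, -⟩ <;> exact absurd he (by decide)
      · exfalso
        rw [hneg, Fin.cons_inj, Fin.cons_inj] at he
        rcases he with ⟨-, he⟩ | ⟨he, -⟩
        · exact hw'.1.ne he.symm
        · exact absurd he (by decide)
      · exfalso
        rw [hneg, Fin.cons_inj, Fin.cons_inj] at he
        rcases he with ⟨he, -⟩ | ⟨he, -⟩ <;> exact absurd he (by decide)
      · rw [hneg, Fin.cons_inj, Fin.cons_inj] at he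
        rcases he with ⟨-, he⟩ | ⟨-, he⟩
        · rw [he]
        · rw [he, P.neg w' hw']
      · exfalso
        rw [hneg, Fin.cons_inj, Fin.cons_inj] at he
        rcases he with ⟨he, -⟩ | ⟨he, -⟩ <;> exact absurd he (by decide)
      · exfalso
        rw [hneg, Fin.cons_inj, Fin.cons_inj] at he
        rcases he with ⟨-, he⟩ | ⟨he, -⟩
        · exact hw.1.ne he
        · exact absurd he (by decide)
      · exfalso
        rw [hneg, Fin.cons_inj, Fin.cons_inj] at he
        rcases he with ⟨he, -⟩ | ⟨he, -⟩ <;> exact absurd he (by decide)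
      · rw [hneg, Fin.cons_inj, Fin.cons_inj] at he
        rcases he with ⟨-, he⟩ | ⟨he, -⟩
        · rw [he] at hw
          exact hw'.unique hD hG hx P h0 hw
        · exact absurd he (by decide)
    intro d hd d' hd' he
    exact hinj d _ d' _ (hg d hd) (hg d' hd') he
  · -- surjectivity
    have hsurj : ∀ v, up B v v = 1 → ∃ d ∈ D, IsVec D x B f w0 a0 d v ∨
        IsVec D x B f w0 a0 d (-v) := by
      have hone : ∀ w : Fin n → ZMod 3, B w w = 0 →
          ∃ d ∈ D, IsVec D x B f w0 a0 d (Fin.cons 1 w) := by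
        intro w hw
        by_cases hw0 : w = 0
        · exact ⟨x, hx, Or.inl ⟨rfl, by rw [hw0]⟩⟩
        · obtain ⟨a, ha⟩ := exists_PP hD hG hx P h0 hw0 hw
          rcases exists_pos hD hG hx P h0 ha with h1 | h1
          · exact ⟨a, ha.mem, Or.inr (Or.inr ⟨w, h1, rfl⟩)⟩
          · exact ⟨_, h1.1.mem, Or.inr (Or.inr ⟨w, h1, rfl⟩)⟩
      intro v hv
      obtain ⟨c, w, rfl⟩ : ∃ (c : ZMod 3) (w : Fin n → ZMod 3), v = Fin.cons c w :=
        ⟨v 0, Fin.tail v, (Fin.cons_self_tail v).symm⟩
      have hneg : -(Fin.cons c w : Fin (n + 1) → ZMod 3) = Fin.cons (-c) (-w) := by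
        ext i
        refine Fin.cases ?_ (fun j => ?_) i <;> simp
      rw [up_cons] at hv
      rcases cases3 c with hc | hc | hc
      · rw [hc, mul_zero, zero_add] at hv
        exact ⟨f w, (P.mem w hv).1, Or.inl (Or.inr (Or.inl ⟨w, hv, rfl, by rw [hc]⟩))⟩
      · have hw : B w w = 0 := by
          rw [hc] at hv
          linear_combination hv
        obtain ⟨d, hd, h1⟩ := hone w hw
        exact ⟨d, hd, Or.inl (by rw [hc]; exact h1)⟩
      · have hw : B w w = 0 := by
          rw [hc] at hv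
          linear_combination hv
        obtain ⟨d, hd, h1⟩ := hone (-w) (by simpa using hw)
        refine ⟨d, hd, Or.inr ?_⟩
        rw [hneg, hc, neg_neg]
        exact h1
    have huniq : ∀ d v v', IsVec D x B f w0 a0 d v → IsVec D x B f w0 a0 d v' →
        (v' = v ∨ v' = -v) := by
      have hneg : ∀ (c : ZMod 3) (w : Fin n → ZMod 3), -(Fin.cons c w : Fin (n + 1) → ZMod 3) =
          Fin.cons (-c) (-w) := by
        intro c w
        ext i
        refine Fin.cases ?_ (fun j => ?_) i <;> simp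
      rintro d v v' (⟨rfl, rfl⟩ | ⟨w, hw, rfl, rfl⟩ | ⟨w, hw, rfl⟩)
        (⟨h1, rfl⟩ | ⟨w', hw', h1, rfl⟩ | ⟨w', hw', rfl⟩)
      · left; rfl
      · exfalso
        exact (P.mem w' hw').2.1 h1
      · exfalso
        exact hw'.1.nc (Commute.refl _)
      · exfalso
        exact (P.mem w hw).2.1 h1
      · rcases P.inj w' w hw' hw h1 with h2 | h2
        · left; rw [h2]
        · right; rw [hneg, h2, neg_zero]
      · exfalso
        exact hw'.1.nc (P.mem w hw).2.2
      · exfalso
        apply hw.1.nc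
        rw [h1]
      · exfalso
        apply hw.1.nc
        rw [← h1]
        exact (P.mem w' hw').2.2
      · left
        rcases hw.1.vec_unique hG hw'.1 with h2 | h2
        · rw [h2]
        · exfalso
          rw [h2] at hw'
          have h3 := hw.flip hD hG hx P
          have h4 := hw'.unique hD hG hx P h0 h3
          apply hw.1.nc
          exact (h.commute_iff hx d).2 h4
    intro v hv
    obtain ⟨d, hd, h1 | h1⟩ := hsurj v hv
    · exact ⟨d, hd, huniq d _ _ (hg d hd) h1⟩
    · refine ⟨d, hd, ?_⟩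
      rcases huniq d _ _ (hg d hd) h1 with h2 | h2
      · right; rw [← h2, neg_neg]
      · left; exact neg_injective h2

end Cfsg.Agent.Fischer3.Orth3Up
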