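import Mathlib

set_option autoImplicit false

/-!
# Keis of 3-transpositions: basics and planes
-/

namespace Cfsg.Agent.Fischer3.OrthO1

/-- the conjugation structure on a closed set of 3-transpositions -/
class TK (Ω : Type*) where
  op : Ω → Ω → Ω
  idem : ∀ a, op a a = a
  invol : ∀ a b, op a (op a b) = b
  dist : ∀ a b c, op a (op b c) = op (op a b) (op a c)
  three : ∀ a b, op a b = b ∨ op a b = op b a

local infixr:70 " ▷ " => TK.op

variable {Ω : Type*} [TK Ω]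

/-- commuting points -/
def cm (a b : Ω) : Prop := a ▷ b = b

theorem cm_def {a b : Ω} : cm a b ↔ a ▷ b = b := Iff.rfl

theorem idem (a : Ω) : a ▷ a = a := TK.idem a
theorem invol (a b : Ω) : a ▷ (a ▷ b) = b := TK.invol a b
theorem odist (a b c : Ω) : a ▷ (b ▷ c) = (a ▷ b) ▷ (a ▷ c) := TK.dist a b c

theorem cm_refl (a : Ω) : cm a a := TK.idem a

theorem cm_symm {a b : Ω} (h : cm a b) : cm b a := by
  rcases TK.three b a with h1 | h1
  · exact h1
  · rw [h] at h1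
    have : a = b := by rw [← invol b a, h1, idem]
    rw [this]; exact cm_refl b

theorem cm_comm {a b : Ω} : cm a b ↔ cm b a := ⟨cm_symm, cm_symm⟩

theorem op_comm {a b : Ω} (h : ¬ cm a b) : a ▷ b = b ▷ a := (TK.three a b).resolve_left h

theorem op_inj {a b c : Ω} : a ▷ b = a ▷ c ↔ b = c :=
  ⟨fun h => by rw [← invol a b, h, invol], fun h => by rw [h]⟩

theorem cm_conj {g a b : Ω} : cm (g ▷ a) (g ▷ b) ↔ cm a b := by
  unfold cm
  rw [← odist, op_inj]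

theorem cm_left {g a b : Ω} : cm (g ▷ a) b ↔ cm a (g ▷ b) := by
  conv_lhs => rw [← invol g b]
  exact cm_conj

theorem cm_right {g a b : Ω} : cm a (g ▷ b) ↔ cm (g ▷ a) b := cm_left.symm

theorem cm_op {a b c : Ω} (h1 : cm a b) (h2 : cm a c) : cm a (b ▷ c) := by
  unfold cm at *
  rw [odist, h1, h2]

theorem op_op (a b c : Ω) : (a ▷ b) ▷ c = a ▷ (b ▷ (a ▷ c)) := by
  rw [odist a b, invol]

/-- third point -/
theorem third_l {a b : Ω} (h : ¬ cm a b) : (a ▷ b) ▷ a = b := by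
  rw [op_op, idem, ← op_comm h, invol]

theorem third_r {a b : Ω} (h : ¬ cm a b) : (a ▷ b) ▷ b = a := by
  rw [op_op, op_comm h, invol, idem]

theorem op_third_r {a b : Ω} (h : ¬ cm a b) : b ▷ (a ▷ b) = a := by
  rw [op_comm h, invol]

theorem nc_third_l {a b : Ω} (h : ¬ cm a b) : ¬ cm a (a ▷ b) := by
  intro h1
  unfold cm at h1
  rw [invol] at h1
  exact h h1.symm

theorem nc_third_r {a b : Ω} (h : ¬ cm a b) : ¬ cm b (a ▷ b) := by
  rw [op_comm h]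
  exact nc_third_l (fun h1 => h (cm_symm h1))

/-- if `d` commutes with `a` but not with `b` then it does not commute with the third point -/
theorem nc_third {d a b : Ω} (h1 : cm d a) (h2 : ¬ cm d b) : ¬ cm d (a ▷ b) := by
  intro h3
  apply h2
  have := cm_op h1 h3
  rwa [invol] at this

theorem ne_of_nc {a b : Ω} (h : ¬ cm a b) : a ≠ b := by
  rintro rfl
  exact h (cm_refl a)

/-- commuting points give commuting permutations -/
theorem op_op_comm {a b : Ω} (h : cm a b) (c : Ω) : a ▷ (b ▷ c) = b ▷ (a ▷ c) := by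
  have h' : a ▷ b = b := h
  rw [odist, h']

/-- the permutation given by a point -/
def σ (a : Ω) : Equiv.Perm Ω where
  toFun := fun b => a ▷ b
  invFun := fun b => a ▷ b
  left_inv := fun b => invol a b
  right_inv := fun b => invol a b

@[simp] theorem σ_apply (a b : Ω) : σ a b = a ▷ b := rfl

theorem σ_mul_self (a : Ω) : σ a * σ a = 1 := by
  ext b; simp [invol]

theorem σ_inv (a : Ω) : (σ a)⁻¹ = σ a := inv_eq_of_mul_eq_one_left (σ_mul_self a)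

theorem σ_op (a b : Ω) : σ (a ▷ b) = σ a * σ b * σ a := by
  ext c; simp [op_op]

theorem σ_comm {a b : Ω} (h : cm a b) : σ a * σ b = σ b * σ a := by
  ext c; simp [op_op_comm h]

/-- automorphisms -/
def IsAut (g : Equiv.Perm Ω) : Prop := ∀ a b : Ω, g (a ▷ b) = g a ▷ g b

theorem IsAut.one : IsAut (1 : Equiv.Perm Ω) := fun _ _ => rfl

theorem IsAut.mul {g h : Equiv.Perm Ω} (hg : IsAut g) (hh : IsAut h) : IsAut (g * h) := by
  intro a b
  simp only [Equiv.Perm.mul_apply]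
  rw [hh, hg]

theorem IsAut.inv {g : Equiv.Perm Ω} (hg : IsAut g) : IsAut g⁻¹ := by
  intro a b
  apply g.injective
  rw [hg]
  simp

theorem isAut_σ (a : Ω) : IsAut (σ a) := fun b c => odist a b c

theorem IsAut.σ_apply {g : Equiv.Perm Ω} (hg : IsAut g) (a : Ω) : σ (g a) = g * σ a * g⁻¹ := by
  ext b
  simp only [OrthO1.σ_apply, Equiv.Perm.mul_apply]
  rw [hg]
  simp

theorem IsAut.cm_iff {g : Equiv.Perm Ω} (hg : IsAut g) {a b : Ω} : cm (g a) (g b) ↔ cm a b := by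
  unfold cm
  rw [← hg]
  exact g.injective.eq_iff

/-- the translation along a line -/
def τ (x a : Ω) : Equiv.Perm Ω := σ x * σ a

theorem τ_apply (x a b : Ω) : τ x a b = x ▷ (a ▷ b) := rfl

theorem isAut_τ (x a : Ω) : IsAut (τ x a) := (isAut_σ x).mul (isAut_σ a)

theorem τ_rot {x a : Ω} (h : ¬ cm x a) : τ a (x ▷ a) = τ x a := by
  unfold τ
  rw [op_comm h, σ_op, ← mul_assoc, ← mul_assoc, σ_mul_self, one_mul]

theorem τ_rot' {x a : Ω} (h : ¬ cm x a) : τ (x ▷ a) x = τ x a := by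
  unfold τ
  rw [σ_op, mul_assoc, σ_mul_self, mul_one]

theorem τ_inv (x a : Ω) : (τ x a)⁻¹ = τ a x := by
  unfold τ
  rw [mul_inv_rev, σ_inv, σ_inv]

theorem τ_self {x a : Ω} (h : ¬ cm x a) : τ x a x = a := by
  rw [τ_apply, ← op_comm h, invol]

theorem τ_second {x a : Ω} : τ x a a = x ▷ a := by
  rw [τ_apply, idem]

theorem τ_third {x a : Ω} (h : ¬ cm x a) : τ x a (x ▷ a) = x := by
  rw [τ_apply, op_third_r h, idem]

theorem braid {x a : Ω} (h : ¬ cm x a) : σ x * σ a * σ x = σ a * σ x * σ a := by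
  rw [← σ_op, ← σ_op, op_comm h]

theorem τ_cube {x a : Ω} (h : ¬ cm x a) : τ x a * τ x a * τ x a = 1 := by
  unfold τ
  calc σ x * σ a * (σ x * σ a) * (σ x * σ a)
      = (σ x * σ a * σ x) * σ a * σ x * σ a := by group
    _ = (σ a * σ x * σ a) * σ a * σ x * σ a := by rw [braid h]
    _ = σ a * σ x * (σ a * σ a) * σ x * σ a := by group
    _ = σ a * (σ x * σ x) * σ a := by rw [σ_mul_self a]; group
    _ = 1 := by rw [σ_mul_self x, mul_one, σ_mul_self]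

theorem IsAut.τ_conj {g : Equiv.Perm Ω} (hg : IsAut g) (x a : Ω) :
    τ (g x) (g a) = g * τ x a * g⁻¹ := by
  unfold τ
  rw [hg.σ_apply, hg.σ_apply]
  group

/-! ## planes -/

/-- an affine triple -/
structure Aff (x a b : Ω) : Prop where
  xa : ¬ cm x a
  xb : ¬ cm x b
  ab : ¬ cm a b
  xab : ¬ cm (x ▷ a) b

/-- the nine points of the plane of an affine triple -/
def pt (x a b : Ω) : ZMod 3 → ZMod 3 → Ω
  | 0, 0 => x
  | 1, 0 => a
  | 2, 0 => x ▷ a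
  | 0, 1 => b
  | 0, 2 => x ▷ b
  | 2, 2 => a ▷ b
  | 1, 1 => x ▷ (a ▷ b)
  | 2, 1 => a ▷ (x ▷ b)
  | 1, 2 => x ▷ (a ▷ (x ▷ b))

/-- a line: `u, v` do not commute and `w` is the third point -/
def Ln (u v w : Ω) : Prop := ¬ cm u v ∧ u ▷ v = w

theorem Ln.mk {u v : Ω} (h : ¬ cm u v) : Ln u v (u ▷ v) := ⟨h, rfl⟩

theorem Ln.swap {u v w : Ω} (h : Ln u v w) : Ln v u w :=
  ⟨fun h1 => h.1 (cm_symm h1), by rw [← op_comm h.1, h.2]⟩

theorem Ln.rot {u v w : Ω} (h : Ln u v w) : Ln v w u := by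
  obtain ⟨h1, rfl⟩ := h
  exact ⟨nc_third_r h1, op_third_r h1⟩

theorem Ln.conj {u v w : Ω} (g : Ω) (h : Ln u v w) : Ln (g ▷ u) (g ▷ v) (g ▷ w) :=
  ⟨fun h1 => h.1 (cm_conj.1 h1), by rw [← odist, h.2]⟩

/-- for two distinct points of the plane: they do not commute, product is the third point -/
theorem pt_ln {x a b : Ω} (h : Aff x a b) {i j k l : ZMod 3} (hne : ¬ (i = k ∧ j = l)) :
    Ln (pt x a b i j) (pt x a b k l) (pt x a b (-i - k) (-j - l)) := by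
  obtain ⟨xa, xb, ab, xab⟩ := h
  -- the twelve lines
  have l1 : Ln x a (x ▷ a) := Ln.mk xa
  have l2 : Ln x b (x ▷ b) := Ln.mk xb
  have n3 : ¬ cm x (a ▷ b) := by
    rw [cm_right, ← op_comm xa]; exact xab
  have l3 : Ln x (a ▷ b) (x ▷ (a ▷ b)) := Ln.mk n3
  have n4 : ¬ cm x (a ▷ (x ▷ b)) := by
    rw [cm_right, cm_right, ← op_comm xa, invol]; exact ab
  have l4 : Ln x (a ▷ (x ▷ b)) (x ▷ (a ▷ (x ▷ b))) := Ln.mk n4
  have l5 : Ln a b (a ▷ b) := Ln.mk ab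
  have n6 : ¬ cm a (x ▷ b) := by rw [cm_right]; exact xab
  have l6 : Ln a (x ▷ b) (a ▷ (x ▷ b)) := Ln.mk n6
  have l7 : Ln (x ▷ a) (x ▷ b) (x ▷ (a ▷ b)) := l5.conj x
  have l8 : Ln (x ▷ a) b (x ▷ (a ▷ (x ▷ b))) := by
    have := l6.conj x
    rwa [invol] at this
  have e9 : a ▷ (x ▷ (a ▷ b)) = x ▷ (a ▷ (x ▷ b)) := by
    rw [← op_op, ← op_op, op_comm xa]
  have n9 : ¬ cm a (x ▷ (a ▷ b)) := by
    rw [cm_right, cm_right, op_third_r xa]; exact xb
  have l9 : Ln a (x ▷ (a ▷ b)) (x ▷ (a ▷ (x ▷ b))) := ⟨n9, e9⟩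
  have l10 : Ln (x ▷ a) (a ▷ b) (a ▷ (x ▷ b)) := by
    have := l9.conj x
    rwa [invol, invol] at this
  have e11 : b ▷ (x ▷ (a ▷ b)) = a ▷ (x ▷ b) := by
    -- b ▷ (x ▷ (a ▷ b)) = b ▷ x ▷ b ▷ a = x ▷ b ▷ x ▷ a
    have h1 : b ▷ (x ▷ (a ▷ b)) = x ▷ (b ▷ (x ▷ a)) := by
      rw [op_comm ab, ← op_op, ← op_op, op_comm xb]
    rw [h1, ← op_comm (fun h => xab h), op_op, invol]
  have n11 : ¬ cm b (x ▷ (a ▷ b)) := by
    rw [op_comm ab, cm_right, cm_right, op_third_r xb]; exact xa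
  have l11 : Ln b (x ▷ (a ▷ b)) (a ▷ (x ▷ b)) := ⟨n11, e11⟩
  have l12 : Ln (x ▷ b) (a ▷ b) (x ▷ (a ▷ (x ▷ b))) := by
    have := l11.conj x
    rwa [invol] at this
  have key : ∀ {u v w : Ω}, Ln u v w → Ln u v w ∧ Ln v w u ∧ Ln w u v ∧ Ln v u w ∧ Ln u w v ∧
      Ln w v u := fun h => ⟨h, h.rot, h.rot.rot, h.swap, h.rot.rot.swap, h.rot.swap⟩
  obtain ⟨a1, a2, a3, a4, a5, a6⟩ := key l1
  obtain ⟨b1, b2, b3, b4, b5, b6⟩ := key l2
  obtain ⟨c1, c2, c3, c4, c5, c6⟩ := key l3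
  obtain ⟨d1, d2, d3, d4, d5, d6⟩ := key l4
  obtain ⟨e1, e2, e3, e4, e5, e6⟩ := key l5
  obtain ⟨f1, f2, f3, f4, f5, f6⟩ := key l6
  obtain ⟨g1, g2, g3, g4, g5, g6⟩ := key l7
  obtain ⟨h1, h2, h3, h4, h5, h6⟩ := key l8
  obtain ⟨i1, i2, i3, i4, i5, i6⟩ := key l9
  obtain ⟨j1, j2, j3, j4, j5, j6⟩ := key l10
  obtain ⟨k1, k2, k3, k4, k5, k6⟩ := key l11
  obtain ⟨m1, m2, m3, m4, m5, m6⟩ := key l12
  fin_cases i <;> fin_cases j <;> fin_cases k <;> fin_cases l <;>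
    first
    | exact absurd ⟨rfl, rfl⟩ hne
    | assumption

end Cfsg.Agent.Fischer3.OrthO1
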