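import Cfsg.Agent.Fischer3.OrthO9
import Cfsg.Agent.Fischer3.Orth3Five

set_option autoImplicit false
set_option linter.unusedSectionVars false

/-!
# Fischer spaces of orthogonal type over the field with three elements: the dimension
-/

namespace Cfsg.Agent.Fischer3.OrthO10

open Cfsg.Agent.SporadicStructure.FischerSpace Cfsg.Agent.Fischer480.Defs
open Cfsg.Agent.Fischer3.Orth3Basic Cfsg.Agent.Fischer3.Orth3Coord
open LinearMap (BilinForm)

universe u

section Count

variable {V : Type*} [AddCommGroup V] [Module (ZMod 3) V] [Finite V]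
  {B : BilinForm (ZMod 3) V}

/-- number of norm one vectors orthogonal to an orthonormal family, with `B u w = 1` -/
theorem card_T (F : Form B) {k : ℕ} (e : Fin k → V) (he : ∀ i j, B (e i) (e j) = if i = j then 1 else 0)
    {u : V} (hu : B u u = 0) (hu0 : u ≠ 0) (heu : ∀ i, B (e i) u = 0) :
    Nat.card {w : V // (∀ i, B (e i) w = 0) ∧ B u w = 1 ∧ B w w = 1} * 3 ^ (k + 2) =
      Nat.card V := by
  classical
  obtain ⟨t0, ht0⟩ := F.exists_one hu0
  -- the dual vector
  set t : V := t0 - ∑ j, B (e j) t0 • e j with ht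
  have het : ∀ i, B (e i) t = 0 := by
    intro i
    rw [ht, map_sub, map_sum]
    simp only [map_smul, he, smul_eq_mul, mul_ite, mul_one, mul_zero, Finset.sum_ite_eq,
      Finset.mem_univ, if_true, sub_self]
  have hut : B u t = 1 := by
    rw [ht, map_sub, map_sum, ht0]
    simp only [map_smul, smul_eq_mul]
    have : ∀ j, B u (e j) = 0 := fun j => by rw [F.symm]; exact heu j
    simp [this]
  let Φ : {w : V // (∀ i, B (e i) w = 0) ∧ B u w = 1 ∧ B w w = 1} ×
      ZMod 3 × ZMod 3 × (Fin k → ZMod 3) → V :=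
    fun p => p.1.1 + p.2.1 • u + p.2.2.1 • t + ∑ j, p.2.2.2 j • e j
  have hsum : ∀ (a : Fin k → ZMod 3) i, B (e i) (∑ j, a j • e j) = a i := by
    intro a i
    rw [map_sum]
    simp only [map_smul, he, smul_eq_mul, mul_ite, mul_one, mul_zero, Finset.sum_ite_eq,
      Finset.mem_univ, if_true]
  have husum : ∀ (a : Fin k → ZMod 3), B u (∑ j, a j • e j) = 0 := by
    intro a
    rw [map_sum]
    have : ∀ j, B u (e j) = 0 := fun j => by rw [F.symm]; exact heu j
    simp [this]
  have hbij : Function.Bijective Φ := by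
    constructor
    · rintro ⟨⟨w, hw1, hw2, hw3⟩, c, i, a⟩ ⟨⟨w', hw1', hw2', hw3'⟩, c', i', a'⟩ h
      change w + c • u + i • t + ∑ j, a j • e j = w' + c' • u + i' • t + ∑ j, a' j • e j at h
      have ha : a = a' := by
        funext j
        have := congrArg (B (e j)) h
        simp only [map_add, map_smul, hw1, hw1', heu, het, smul_zero, add_zero, zero_add,
          hsum] at this
        exact this
      subst ha
      have hi : i = i' := by
        have := congrArg (B u) h
        simp only [map_add, map_smul, hw2, hw2', hu, hut, husum, add_zero,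
          smul_eq_mul, mul_zero, mul_one] at this
        exact add_left_cancel this
      subst hi
      have h1 : w + c • u = w' + c' • u := by
        have := add_right_cancel (add_right_cancel h)
        exact this
      have hc : c = c' := by
        have h2 := congrArg (fun z => B z z) h1
        simp only [F.norm_add, map_smul, LinearMap.smul_apply, smul_eq_mul, hu, hw3, hw3',
          mul_zero, add_zero] at h2
        rw [F.symm w u, F.symm w' u, hw2, hw2'] at h2
        have h3 : (3 : ZMod 3) = 0 := rfl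
        linear_combination 2 * h2 - (c - c') * h3
      subst hc
      have h2 : w = w' := add_right_cancel h1
      subst h2
      rfl
    · intro v
      set a : Fin k → ZMod 3 := fun j => B (e j) v with ha
      set i : ZMod 3 := B u v - 1 with hi
      set v' : V := v - i • t - ∑ j, a j • e j with hv'
      have h1 : ∀ j, B (e j) v' = 0 := by
        intro j
        rw [hv', map_sub, map_sub, map_smul, het, hsum, smul_zero, sub_zero, sub_self]
      have h2 : B u v' = 1 := by
        rw [hv', map_sub, map_sub, map_smul, hut, husum, smul_eq_mul, hi]; ring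
      set c : ZMod 3 := 1 - B v' v' with hc
      refine ⟨⟨⟨v' - c • u, ?_, ?_, ?_⟩, c, i, a⟩, ?_⟩
      · intro j
        rw [map_sub, map_smul, h1, heu, smul_zero, sub_zero]
      · rw [map_sub, map_smul, h2, hu, smul_zero, sub_zero]
      · rw [F.norm_sub, map_smul, map_smul, map_smul, LinearMap.smul_apply, hu, F.symm v' u, h2]
        simp only [smul_eq_mul, mul_zero, add_zero]
        have h3 : (3 : ZMod 3) = 0 := rfl
        rw [hc]
        linear_combination (-1 + B v' v') * h3
      · change v' - c • u + c • u + i • t + ∑ j, a j • e j = v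
        rw [hv']; abel
  have := Nat.card_congr (Equiv.ofBijective Φ hbij)
  rw [← this, Nat.card_prod, Nat.card_prod, Nat.card_prod, Nat.card_fun, Nat.card_zmod,
    Nat.card_eq_fintype_card (α := Fin k), Fintype.card_fin]
  ring

theorem card_S {G : Type*} {E : Set G} {g : G → V} (hg1 : ∀ x ∈ E, B (g x) (g x) = 1)
    (hinj : ∀ x ∈ E, ∀ y ∈ E, (g x = g y ∨ g x = - g y) → x = y)
    (hsurj : ∀ v, B v v = 1 → ∃ x ∈ E, v = g x ∨ v = - g x) {k : ℕ} (e : Fin k → V) (u : V) :
    Nat.card {d : G // d ∈ E ∧ (∀ i, B (e i) (g d) = 0) ∧ B u (g d) ≠ 0} =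
    Nat.card {w : V // (∀ i, B (e i) w = 0) ∧ B u w = 1 ∧ B w w = 1} := by
  let Φ : {d : G // d ∈ E ∧ (∀ i, B (e i) (g d) = 0) ∧ B u (g d) ≠ 0} →
      {w : V // (∀ i, B (e i) w = 0) ∧ B u w = 1 ∧ B w w = 1} := fun d =>
    ⟨B u (g d.1) • g d.1, fun i => by rw [map_smul, d.2.2.1 i, smul_zero], by
      rw [map_smul, smul_eq_mul, mul_self_of_ne d.2.2.2], by
      rw [map_smul, map_smul, LinearMap.smul_apply, hg1 _ d.2.1, smul_eq_mul, smul_eq_mul,
        mul_one, mul_self_of_ne d.2.2.2]⟩
  refine Nat.card_congr (Equiv.ofBijective Φ ⟨?_, ?_⟩)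
  · rintro ⟨d, hd1, hd2, hd3⟩ ⟨d', hd1', hd2', hd3'⟩ h
    have h1 : B u (g d) • g d = B u (g d') • g d' := congrArg Subtype.val h
    apply Subtype.ext
    apply hinj d hd1 d' hd1'
    rcases pm_of_ne hd3 with h2 | h2 <;> rcases pm_of_ne hd3' with h3 | h3 <;>
      rw [h2, h3] at h1
    · left; simpa using h1
    · right; simpa using h1
    · right; simp only [neg_smul, one_smul] at h1; rw [← h1, neg_neg]
    · left; simpa using h1
  · rintro ⟨w, hw1, hw2, hw3⟩
    obtain ⟨x, hx, h1⟩ := hsurj w hw3
    rcases h1 with h1 | h1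
    · refine ⟨⟨x, hx, fun i => by rw [← h1]; exact hw1 i, by rw [← h1, hw2]; decide⟩, ?_⟩
      apply Subtype.ext
      change B u (g x) • g x = w
      rw [← h1, hw2, one_smul]
    · have h2 : g x = - w := by rw [h1, neg_neg]
      refine ⟨⟨x, hx, fun i => by rw [h2, map_neg, hw1 i, neg_zero], by
        rw [h2, map_neg, hw2]; decide⟩, ?_⟩
      apply Subtype.ext
      change B u (g x) • g x = w
      rw [h2, map_neg, hw2, neg_smul, one_smul, neg_neg]

end Count

variable {G : Type u} [Group G] [Finite G] {D : Set G}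

/-- the number of members of `E` commuting with `y` and not with `z`, for `E` of type `R n` -/
theorem card_of_isR {E : Set G} {n : ℕ} (hR : IsR n E) {y z : G} (hy : y ∈ E) (hz : z ∈ E)
    (hyz : ¬ Commute y z) :
    Nat.card {d : G // d ∈ E ∧ d ≠ y ∧ Commute y d ∧ ¬ Commute z d} * 3 ^ 3 = 3 ^ n := by
  obtain ⟨B, f, hs, hnd, h1, hc, hi, hsu⟩ := hR
  have F := form_of hs hnd
  have hyz0 : B (f y) (f z) ≠ 0 := fun h => hyz ((hc y hy z hz).2 (Or.inr h))
  have hyzne : ¬ (f y = f z ∨ f y = - f z) := fun h => hyz (by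
    rw [hi y hy z hz h])
  set u := f z - B (f y) (f z) • f y with hu
  have hyu : B (f y) u = 0 := by
    rw [hu, map_sub, map_smul, h1 y hy, smul_eq_mul, mul_one, sub_self]
  have huu : B u u = 0 := by
    have e : B u = B (f z) - B (f y) (f z) • B (f y) := by rw [hu, map_sub, map_smul]
    have h2 : B u u = B (f z) u := by
      calc B u u = (B (f z) - B (f y) (f z) • B (f y)) u := by rw [← e]
        _ = B (f z) u := by
          rw [LinearMap.sub_apply, LinearMap.smul_apply, hyu, smul_zero, sub_zero]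
    rw [h2, hu, map_sub, map_smul, h1 z hz, F.symm (f z) (f y), smul_eq_mul,
      mul_self_of_ne hyz0, sub_self]
  have hu0 : u ≠ 0 := by
    intro h
    apply hyzne
    rw [hu, sub_eq_zero] at h
    rcases pm_of_ne hyz0 with h2 | h2
    · left; rw [h, h2, one_smul]
    · right; rw [h, h2, neg_smul, one_smul, neg_neg]
  have hT := card_T F (k := 1) (fun _ => f y) (by
    intro i j
    rw [if_pos (Subsingleton.elim i j)]; exact h1 y hy) huu hu0 (fun _ => hyu)
  rw [Nat.card_fun, Nat.card_zmod, Nat.card_eq_fintype_card (α := Fin n), Fintype.card_fin] at hT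
  rw [← hT, ← card_S h1 hi hsu (fun _ : Fin 1 => f y) u]
  congr 1
  apply Nat.card_congr
  apply Equiv.subtypeEquivRight
  intro d
  have key : ∀ d, d ∈ E → B (f y) (f d) = 0 → (B u (f d) ≠ 0 ↔ ¬ Commute z d) := by
    intro d hd hyd
    have h2 : B u (f d) = B (f z) (f d) := by
      rw [hu, map_sub, LinearMap.sub_apply, map_smul, LinearMap.smul_apply, hyd, smul_zero,
        sub_zero]
    rw [h2, hc z hz d hd]
    constructor
    · rintro h3 (h4 | h4)
      · rw [← h4] at hyd; exact hyz0 hyd
      · exact h3 h4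
    · intro h3 h4
      exact h3 (Or.inr h4)
  constructor
  · rintro ⟨hd, hne, hyd, hzd⟩
    have h2 : B (f y) (f d) = 0 := by
      rcases (hc y hy d hd).1 hyd with h3 | h3
      · exact absurd h3.symm hne
      · exact h3
    exact ⟨hd, fun _ => h2, (key d hd h2).2 hzd⟩
  · rintro ⟨hd, h2, h3⟩
    have h2 := h2 0
    refine ⟨hd, ?_, (hc y hy d hd).2 (Or.inr h2), (key d hd h2).1 h3⟩
    rintro rfl
    rw [h1 d hd] at h2
    exact absurd h2 (by decide)

/-- the same count inside a local space -/
theorem card_loc_of_isR {m : ℕ} (hR : IsR m D) {x y z : G} (hx : x ∈ D) (hy : y ∈ Loc D x)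
    (hz : z ∈ Loc D x) (hyz : ¬ Commute y z) :
    Nat.card {d : G // d ∈ Loc D x ∧ d ≠ y ∧ Commute y d ∧ ¬ Commute z d} * 3 ^ 4 = 3 ^ m := by
  obtain ⟨B, f, hs, hnd, h1, hc, hi, hsu⟩ := hR
  have F := form_of hs hnd
  obtain ⟨hy, hyx, hxy⟩ := hy
  obtain ⟨hz, hzx, hxz⟩ := hz
  have hyz0 : B (f y) (f z) ≠ 0 := fun h => hyz ((hc y hy z hz).2 (Or.inr h))
  have hyzne : ¬ (f y = f z ∨ f y = - f z) := fun h => hyz (by
    rw [hi y hy z hz h])
  have hxy0 : B (f x) (f y) = 0 := by
    rcases (hc x hx y hy).1 hxy with h3 | h3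
    · exact absurd h3.symm hyx
    · exact h3
  have hxz0 : B (f x) (f z) = 0 := by
    rcases (hc x hx z hz).1 hxz with h3 | h3
    · exact absurd h3.symm hzx
    · exact h3
  set u := f z - B (f y) (f z) • f y with hu
  have hyu : B (f y) u = 0 := by
    rw [hu, map_sub, map_smul, h1 y hy, smul_eq_mul, mul_one, sub_self]
  have hxu : B (f x) u = 0 := by
    rw [hu, map_sub, map_smul, hxz0, hxy0, smul_zero, sub_self]
  have huu : B u u = 0 := by
    have e : B u = B (f z) - B (f y) (f z) • B (f y) := by rw [hu, map_sub, map_smul]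
    have h2 : B u u = B (f z) u := by
      calc B u u = (B (f z) - B (f y) (f z) • B (f y)) u := by rw [← e]
        _ = B (f z) u := by
          rw [LinearMap.sub_apply, LinearMap.smul_apply, hyu, smul_zero, sub_zero]
    rw [h2, hu, map_sub, map_smul, h1 z hz, F.symm (f z) (f y), smul_eq_mul,
      mul_self_of_ne hyz0, sub_self]
  have hu0 : u ≠ 0 := by
    intro h
    apply hyzne
    rw [hu, sub_eq_zero] at h
    rcases pm_of_ne hyz0 with h2 | h2
    · left; rw [h, h2, one_smul]
    · right; rw [h, h2, neg_smul, one_smul, neg_neg]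
  have hT := card_T F (k := 2) ![f x, f y] (by
    intro i j
    fin_cases i <;> fin_cases j
    · simpa using h1 x hx
    · simpa using hxy0
    · simpa [F.symm (f y) (f x)] using hxy0
    · simpa using h1 y hy) huu hu0 (by
    intro i
    fin_cases i
    · exact hxu
    · exact hyu)
  rw [Nat.card_fun, Nat.card_zmod, Nat.card_eq_fintype_card (α := Fin m), Fintype.card_fin] at hT
  rw [← hT, ← card_S h1 hi hsu ![f x, f y] u]
  congr 1
  apply Nat.card_congr
  apply Equiv.subtypeEquivRight
  intro d
  have key : ∀ d, d ∈ D → B (f y) (f d) = 0 → (B u (f d) ≠ 0 ↔ ¬ Commute z d) := by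
    intro d hd hyd
    have h2 : B u (f d) = B (f z) (f d) := by
      rw [hu, map_sub, LinearMap.sub_apply, map_smul, LinearMap.smul_apply, hyd, smul_zero,
        sub_zero]
    rw [h2, hc z hz d hd]
    constructor
    · rintro h3 (h4 | h4)
      · rw [← h4] at hyd; exact hyz0 hyd
      · exact h3 h4
    · intro h3 h4
      exact h3 (Or.inr h4)
  constructor
  · rintro ⟨⟨hd, hdx, hxd⟩, hne, hyd, hzd⟩
    have h2 : B (f y) (f d) = 0 := by
      rcases (hc y hy d hd).1 hyd with h3 | h3
      · exact absurd h3.symm hne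
      · exact h3
    have h2' : B (f x) (f d) = 0 := by
      rcases (hc x hx d hd).1 hxd with h3 | h3
      · exact absurd h3.symm hdx
      · exact h3
    refine ⟨hd, ?_, (key d hd h2).2 hzd⟩
    intro i
    fin_cases i
    · exact h2'
    · exact h2
  · rintro ⟨hd, h2, h3⟩
    have h2x : B (f x) (f d) = 0 := h2 0
    have h2 : B (f y) (f d) = 0 := h2 1
    refine ⟨⟨hd, ?_, (hc x hx d hd).2 (Or.inr h2x)⟩, ?_, (hc y hy d hd).2 (Or.inr h2),
      (key d hd h2).1 h3⟩
    · rintro rfl
      rw [h1 d hd] at h2x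
      exact absurd h2x (by decide)
    · rintro rfl
      rw [h1 d hd] at h2
      exact absurd h2 (by decide)

/-- the dimensions -/
theorem dim_eq (hD : FGroup D) {n m : ℕ} (hn : 5 ≤ n) (hloc : ∀ x ∈ D, IsR n (Loc D x))
    (hR : IsR m D) : m = n + 1 := by
  have h := fd hD
  obtain ⟨x, hx⟩ := h.nonempty
  obtain ⟨a, ha, hxa⟩ := SporadicStructure.FischerPrimitive.exists_col h hD.sol x hx
  obtain ⟨B, f, hG, P⟩ := exists_par h hn (hloc x hx)
  have F := hG.toForm
  obtain ⟨w, hw0, hw, hdir⟩ := Orth3Five.exists_dir hD F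
    (by rw [Module.finrank_fin_fun]; exact hn) hx P ha hxa
  obtain ⟨y, hy, hxy, hay, hyx, hya⟩ := exists_common_perp hD hx ha hxa
  obtain ⟨v, hv, rfl⟩ := P.surj y ⟨hy, hyx, hxy⟩
  have hwv := (hdir v hv).1 hay
  have hn1 : B (v + w) (v + w) = 1 := by
    rw [F.norm_add, hv, hw, F.symm v w, hwv]; decide
  have hnc : ¬ Commute (f v) (f (v + w)) := by
    rw [P.comm v (v + w) hv hn1]
    rw [map_add, hv, F.symm v w, hwv]
    rintro (h1 | h1 | h1)
    · exact absurd h1 (by decide)
    · apply hw0
      exact left_eq_add.1 h1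
    · have h2 : B v v = 0 := by
        have h3 : w = v := by
          have : (3 : ZMod 3) • v = 0 := three_smul' v
          have h4 : v + (v + w) = 0 := by
            nth_rewrite 1 [h1]; abel
          have h5 : (3 : ZMod 3) = 1 + 1 + 1 := by decide
          rw [h5, add_smul, add_smul, one_smul] at this
          have h6 : v + v + v = v + (v + w) := by rw [this, h4]
          have h7 : v + v + v = v + v + w := by rw [h6]; abel
          exact (add_left_cancel h7).symm
        rw [h3] at hwv
        exact hwv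
      rw [hv] at h2
      exact absurd h2 (by decide)
  have c1 := card_of_isR (hloc x hx) (P.mem v hv) (P.mem _ hn1) hnc
  have c2 := card_loc_of_isR hR hx (P.mem v hv) (P.mem _ hn1) hnc
  have c3 : 3 ^ (n + 1) = 3 ^ m := by
    rw [← c2, pow_succ, ← c1]; ring
  exact (Nat.pow_right_injective (le_refl 2 |>.trans (by norm_num)) c3).symm

/-- **case (E)**, from the geometric input -/
theorem caseE_of_geoO (hD : FGroup D) {n : ℕ} (hn : 5 ≤ n) (hloc : ∀ x ∈ D, IsR n (Loc D x))
    (hg : OrthO9.GeoO D) : IsR (n + 1) D := by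
  obtain ⟨m, hm⟩ := OrthO9.exists_isR hD hg
  rw [dim_eq hD hn hloc hm] at hm
  exact hm

end Cfsg.Agent.Fischer3.OrthO10
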