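import Cfsg.Agent.Fischer3.OrthO1

set_option autoImplicit false

/-!
# Fischer spaces of orthogonal type over the field with three elements: classes of lines
-/

namespace Cfsg.Agent.Fischer3.OrthO2

open OrthO1

local infixr:70 " ▷ " => TK.op

variable {Ω : Type*} [TK Ω]

/-- commuting and distinct -/
def pp (a b : Ω) : Prop := cm a b ∧ a ≠ b

theorem pp_symm {a b : Ω} (h : pp a b) : pp b a := ⟨cm_symm h.1, h.2.symm⟩

theorem pp_comm {a b : Ω} : pp a b ↔ pp b a := ⟨pp_symm, pp_symm⟩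

theorem pp_conj {g a b : Ω} : pp (g ▷ a) (g ▷ b) ↔ pp a b := by
  unfold pp
  rw [cm_conj, Ne, Ne, op_inj]

theorem not_pp_self (a : Ω) : ¬ pp a a := fun h => h.2 rfl

theorem not_pp_of_nc {a b : Ω} (h : ¬ cm a b) : ¬ pp a b := fun h' => h h'.1

theorem pp_aut {g : Equiv.Perm Ω} (hg : IsAut g) {a b : Ω} : pp (g a) (g b) ↔ pp a b := by
  unfold pp
  rw [hg.cm_iff, Ne, Ne, g.injective.eq_iff]

/-- closure of `D_d` -/
theorem pp_third {d u v : Ω} (hn : ¬ cm u v) (h1 : pp d u) (h2 : pp d v) : pp d (u ▷ v) := by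
  refine ⟨cm_op h1.1 h2.1, ?_⟩
  rintro rfl
  exact nc_third_l hn (cm_symm h1.1)

/-- `d` commutes with exactly one point of the line through `x` and `a` -/
def X (x a d : Ω) : Prop :=
  (pp d x ∧ ¬ pp d a ∧ ¬ pp d (x ▷ a)) ∨ (¬ pp d x ∧ pp d a ∧ ¬ pp d (x ▷ a)) ∨
    (¬ pp d x ∧ ¬ pp d a ∧ pp d (x ▷ a))

theorem X_swap {x a d : Ω} (h : ¬ cm x a) : X x a d ↔ X a x d := by
  unfold X
  rw [← op_comm h]
  tauto

theorem X_rot {x a d : Ω} (h : ¬ cm x a) : X x a d ↔ X a (x ▷ a) d := by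
  unfold X
  rw [op_third_r h]
  tauto

theorem X_conj {g x a d : Ω} : X (g ▷ x) (g ▷ a) (g ▷ d) ↔ X x a d := by
  unfold X
  simp only [← odist, pp_conj]

theorem X_aut {g : Equiv.Perm Ω} (hg : IsAut g) {x a d : Ω} :
    X (g x) (g a) (g d) ↔ X x a d := by
  unfold X
  simp only [← hg x a, pp_aut hg]

/-- hypotheses of type (O) -/
structure TypeO (Ω : Type*) [TK Ω] : Prop where
  never_one : ∀ x a b d : Ω, Aff x a b → cm d x → d ≠ x →
    cm d a ∨ cm d b ∨ cm d (a ▷ b) ∨ cm d (a ▷ (x ▷ b))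
  tr : ∀ x a y b : Ω, ¬ cm x a → ¬ cm y b → ∃ g : Equiv.Perm Ω, IsAut g ∧ g x = y ∧ g a = b
  ex : ∃ x a b : Ω, Aff x a b
  notwin : ∀ a b : Ω, (∀ d, d ≠ a → d ≠ b → (cm d a ↔ cm d b)) → a = b
  conn : ∀ S : Set Ω, S.Nonempty → (∀ s ∈ S, ∀ t, t ∉ S → cm s t) → S = Set.univ

theorem aff_swap {x a b : Ω} (h : Aff x a b) : Aff a x b :=
  ⟨fun h1 => h.xa (cm_symm h1), h.ab, h.xb, by rw [← op_comm h.xa]; exact h.xab⟩

/-- rebasing an affine triple -/
theorem aff_shift {x a b : Ω} (h : Aff x a b) (i j : ZMod 3) :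
    Aff (pt x a b i j) (pt x a b (i + 1) j) (pt x a b i (j + 1)) := by
  have h1 : ∀ i : ZMod 3, ¬ (i = i + 1) := by decide
  have h2 : ∀ i : ZMod 3, ¬ (i + 1 = i) := by decide
  have e1 : ∀ i : ZMod 3, -i - (i + 1) = i + 2 := by decide
  have e2 : ∀ j : ZMod 3, -j - j = j := by decide
  have e3 : ∀ i : ZMod 3, ¬ (i + 2 = i) := by decide
  refine ⟨(pt_ln h (fun e => h1 _ e.1)).1, (pt_ln h (fun e => h1 _ e.2)).1,
    (pt_ln h (fun e => h2 _ e.1)).1, ?_⟩
  have l := (pt_ln h (i := i) (j := j) (k := i + 1) (l := j) (fun e => h1 _ e.1)).2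
  rw [l, e1, e2]
  exact (pt_ln h (fun e => e3 _ e.1)).1

/-- closed -/
def clo (f : Fin 3 → Fin 3 → Bool) : Prop :=
  ∀ i j k l : Fin 3, ¬ (i = k ∧ j = l) → f i j = true → f k l = true →
      f (-i - k) (-j - l) = true

instance (f : Fin 3 → Fin 3 → Bool) : Decidable (clo f) := by
  unfold clo; infer_instance

/-- no isolated point -/
def nev (f : Fin 3 → Fin 3 → Bool) : Prop :=
  ∀ i j : Fin 3, f i j = true → f (i + 1) j = true ∨ f i (j + 1) = true ∨
      f (i + 2) (j + 2) = true ∨ f (i + 2) (j + 1) = true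

instance (f : Fin 3 → Fin 3 → Bool) : Decidable (nev f) := by
  unfold nev; infer_instance

/-- exactly one -/
def exo (a b c : Bool) : Prop :=
  (a = true ∧ ¬ b = true ∧ ¬ c = true) ∨ (¬ a = true ∧ b = true ∧ ¬ c = true) ∨
    (¬ a = true ∧ ¬ b = true ∧ c = true)

instance (a b c : Bool) : Decidable (exo a b c) := by
  unfold exo; infer_instance

theorem comb : ∀ f : Fin 3 → Fin 3 → Bool, clo f → nev f →
    (exo (f 0 0) (f 1 0) (f 2 0) ↔ exo (f 0 1) (f 1 1) (f 2 1)) := by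
  decide +kernel

theorem never_one' (O : TypeO Ω) {x a b d : Ω} (h : Aff x a b) (i j : ZMod 3)
    (hd : pp d (pt x a b i j)) :
    pp d (pt x a b (i + 1) j) ∨ pp d (pt x a b i (j + 1)) ∨ pp d (pt x a b (i + 2) (j + 2)) ∨
      pp d (pt x a b (i + 2) (j + 1)) := by
  have hs := aff_shift h i j
  have h0 := O.never_one _ _ _ d hs hd.1 hd.2
  have e1 : ∀ i : ZMod 3, -(i + 1) - i = i + 2 := by decide
  have e2 : ∀ i : ZMod 3, -i - (i + 1) = i + 2 := by decide
  have e3 : ∀ i : ZMod 3, -i - i = i := by decide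
  have e4 : ∀ i : ZMod 3, -(i+1) - i = i + 2 := by decide
  have e5 : ∀ i : ZMod 3, -i - (i + 2) = i + 1 := by decide
  have n1 : ∀ i : ZMod 3, ¬ (i + 1 = i) := by decide
  have n2 : ∀ i : ZMod 3, ¬ (i = i + 1) := by decide
  have l1 := (pt_ln h (i := i + 1) (j := j) (k := i) (l := j + 1) (fun e => n1 _ e.1)).2
  have l2 := (pt_ln h (i := i) (j := j) (k := i) (l := j + 1) (fun e => n2 _ e.2)).2
  have l3 := (pt_ln h (i := i + 1) (j := j) (k := i) (l := j + 2) (fun e => n1 _ e.1)).2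
  rw [l1, l2, e1, e2, e3, l3, e1, e5] at h0
  -- none of these points is `d` because `d` commutes with `pt i j`
  have key : ∀ k l : ZMod 3, ¬ (k = i ∧ l = j) → cm d (pt x a b k l) → pp d (pt x a b k l) := by
    intro k l hkl hc
    refine ⟨hc, ?_⟩
    intro e
    apply (pt_ln h hkl).1
    rw [← e]; exact hd.1
  have n3 : ∀ i : ZMod 3, ¬ (i + 2 = i) := by decide
  rcases h0 with h0 | h0 | h0 | h0
  · exact Or.inl (key _ _ (fun e => n1 _ e.1) h0)
  · exact Or.inr (Or.inl (key _ _ (fun e => n1 _ e.2) h0))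
  · exact Or.inr (Or.inr (Or.inl (key _ _ (fun e => n3 _ e.1) h0)))
  · exact Or.inr (Or.inr (Or.inr (key _ _ (fun e => n3 _ e.1) h0)))

/-- parallel lines have the same `X` -/
theorem X_par (O : TypeO Ω) {x a b : Ω} (h : Aff x a b) (d : Ω) :
    X x a d ↔ X b (x ▷ (a ▷ b)) d := by
  classical
  have e := pt_ln h (i := 0) (j := 1) (k := 1) (l := 1) (by decide)
  have e2 : b ▷ (x ▷ (a ▷ b)) = pt x a b 2 1 := e.2
  unfold X
  rw [e2]
  have := comb (fun i j => decide (pp d (pt x a b i j))) ?_ ?_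
  · unfold exo at this
    simp only [decide_eq_true_eq] at this
    exact this
  · intro i j k l hne h1 h2
    simp only [decide_eq_true_eq] at *
    have hl := pt_ln h (i := i) (j := j) (k := k) (l := l) hne
    have := pp_third hl.1 h1 h2
    rwa [hl.2] at this
  · intro i j h1
    simp only [decide_eq_true_eq] at *
    exact never_one' O h i j h1

theorem X_self {x a : Ω} (h : ¬ cm x a) : ¬ X x a x := by
  rintro (⟨h1, _⟩ | ⟨_, h1, _⟩ | ⟨_, _, h1⟩)
  · exact not_pp_self _ h1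
  · exact h h1.1
  · exact nc_third_l h h1.1

section Fin

variable [Finite Ω]

theorem ncard_eq (O : TypeO Ω) {x a y b : Ω} (h : ¬ cm x a) (h' : ¬ cm y b) :
    {d : Ω | cm d x ∧ cm d a}.ncard = {d : Ω | cm d y ∧ cm d b}.ncard := by
  obtain ⟨g, hg, rfl, rfl⟩ := O.tr x a y b h h'
  have : {d : Ω | cm d (g x) ∧ cm d (g a)} = g '' {d : Ω | cm d x ∧ cm d a} := by
    ext d
    constructor
    · rintro ⟨h1, h2⟩
      have e : g (g⁻¹ d) = d := by simp
      refine ⟨g⁻¹ d, ⟨?_, ?_⟩, e⟩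
      · rw [← hg.cm_iff, e]; exact h1
      · rw [← hg.cm_iff, e]; exact h2
    · rintro ⟨e, ⟨h1, h2⟩, rfl⟩
      exact ⟨hg.cm_iff.2 h1, hg.cm_iff.2 h2⟩
  rw [this, Set.ncard_image_of_injective _ g.injective]

theorem two_of_sub (O : TypeO Ω) {x a v : Ω} (h : ¬ cm x a) (h' : ¬ cm x v)
    (hs : ∀ d, cm d x → cm d a → cm d v) {d : Ω} (h1 : cm d x) (h2 : cm d v) : cm d a := by
  have e : {d : Ω | cm d x ∧ cm d a} = {d : Ω | cm d x ∧ cm d v} :=
    Set.eq_of_subset_of_ncard_le (fun d hd => ⟨hd.1, hs d hd.1 hd.2⟩) (ncard_eq O h' h).le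
      (Set.toFinite _)
  have : d ∈ {d : Ω | cm d x ∧ cm d v} := ⟨h1, h2⟩
  rw [← e] at this
  exact this.2

theorem exists_sep_aux (O : TypeO Ω) {x a b : Ω} (h : Aff x a b)
    (hs : ∀ d, cm d x → cm d a → cm d b) {d : Ω} (hdx : d ≠ x) (hd : cm d x) : cm d a := by
  have n1 := (pt_ln h (i := 0) (j := 0) (k := 2) (l := 2) (by decide)).1
  have n2 := (pt_ln h (i := 0) (j := 0) (k := 2) (l := 1) (by decide)).1
  rcases O.never_one x a b d h hd hdx with h1 | h1 | h1 | h1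
  · exact h1
  · exact two_of_sub O h.xa h.xb hs hd h1
  · exact two_of_sub O h.xa n1 (fun d h1 h2 => cm_op h2 (hs d h1 h2)) hd h1
  · exact two_of_sub O h.xa n2 (fun d h1 h2 => cm_op h2 (cm_op h1 (hs d h1 h2))) hd h1

/-- every line of an affine plane is the intersection of the plane with some `D_d` -/
theorem exists_sep (O : TypeO Ω) {x a b : Ω} (h : Aff x a b) :
    ∃ d, cm d x ∧ cm d a ∧ ¬ cm d b := by
  by_contra hcon
  push Not at hcon
  apply ne_of_nc h.xa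
  apply O.notwin
  intro d hdx hda
  exact ⟨exists_sep_aux O h hcon hdx,
    exists_sep_aux O (aff_swap h) (fun d h1 h2 => hcon d h2 h1) hda⟩

/-- the class of lines given by the function `χ` -/
def Lc (χ : Ω → Prop) (x a : Ω) : Prop := ¬ cm x a ∧ ∀ d, X x a d ↔ χ d

variable {χ : Ω → Prop}

omit [Finite Ω] in
theorem Lc.swap {x a : Ω} (h : Lc χ x a) : Lc χ a x :=
  ⟨fun h1 => h.1 (cm_symm h1), fun d => by rw [← X_swap h.1]; exact h.2 d⟩

omit [Finite Ω] in
theorem Lc.rot {x a : Ω} (h : Lc χ x a) : Lc χ a (x ▷ a) :=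
  ⟨nc_third_r h.1, fun d => by rw [← X_rot h.1]; exact h.2 d⟩

omit [Finite Ω] in
theorem Lc.not_left {x a : Ω} (h : Lc χ x a) : ¬ χ x := fun h1 => X_self h.1 ((h.2 x).2 h1)

omit [Finite Ω] in
theorem Lc.par (O : TypeO Ω) {x a b : Ω} (h : Lc χ x a) (hA : Aff x a b) : Lc χ b (τ x a b) := by
  refine ⟨(pt_ln hA (i := 0) (j := 1) (k := 1) (l := 1) (by decide)).1, fun d => ?_⟩
  rw [τ_apply, ← X_par O hA]
  exact h.2 d

omit [Finite Ω] in
/-- no member of the class -/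
theorem dich {x a z : Ω} (h : Lc χ x a) (hz : ¬ χ z) :
    (pp z x ∧ pp z a ∧ pp z (x ▷ a)) ∨ (z = x ∨ z = a ∨ z = x ▷ a) ∨ Aff x a z := by
  have h1 : ¬ X x a z := fun h1 => hz ((h.2 z).1 h1)
  have hxa := h.1
  by_cases hp : pp z x ∨ pp z a ∨ pp z (x ▷ a)
  · left
    have a1 : pp z x → pp z a → pp z (x ▷ a) := fun h1 h2 => pp_third hxa h1 h2
    have a2 : pp z a → pp z (x ▷ a) → pp z x := fun h1 h2 => by
      have := pp_third (nc_third_r hxa) h1 h2
      rwa [op_third_r hxa] at this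
    have a3 : pp z x → pp z (x ▷ a) → pp z a := fun h1 h2 => by
      have := pp_third (nc_third_l hxa) h1 h2
      rwa [invol] at this
    unfold X at h1
    tauto
  · right
    push Not at hp
    obtain ⟨p1, p2, p3⟩ := hp
    by_cases e1 : z = x
    · exact Or.inl (Or.inl e1)
    by_cases e2 : z = a
    · exact Or.inl (Or.inr (Or.inl e2))
    by_cases e3 : z = x ▷ a
    · exact Or.inl (Or.inr (Or.inr e3))
    right
    exact ⟨hxa, fun h => p1 ⟨cm_symm h, e1⟩, fun h => p2 ⟨cm_symm h, e2⟩,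
      fun h => p3 ⟨cm_symm h, e3⟩⟩

/-- at most one line of the class through a point -/
theorem Lc.unique (O : TypeO Ω) {x a b : Ω} (h : Lc χ x a) (h' : Lc χ x b) :
    b = a ∨ b = x ▷ a := by
  have hb : ¬ χ b := h'.swap.not_left
  rcases dich h hb with h1 | h1 | h1
  · exact absurd (cm_symm h1.1.1) h'.1
  · rcases h1 with h1 | h1 | h1
    · exact absurd h1.symm (ne_of_nc h'.1)
    · exact Or.inl h1
    · exact Or.inr h1
  · exfalso
    obtain ⟨d, h2, h3, h4⟩ := exists_sep O h1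
    have hdx : d ≠ x := by
      rintro rfl; exact h.1 h3
    have hda : d ≠ a := by
      rintro rfl; exact h.1 (cm_symm h2)
    have c1 : ¬ X x a d := by
      have p1 : pp d x := ⟨h2, hdx⟩
      have p2 : pp d a := ⟨h3, hda⟩
      unfold X
      tauto
    have c2 : X x b d := by
      left
      refine ⟨⟨h2, hdx⟩, not_pp_of_nc h4, not_pp_of_nc (nc_third h2 h4)⟩
    exact c1 ((h.2 d).2 ((h'.2 d).1 c2))

end Fin

end Cfsg.Agent.Fischer3.OrthO2
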