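import Cfsg.Agent.Fischer3.OrthO2

set_option autoImplicit false
set_option linter.unusedSectionVars false

/-!
# Fischer spaces of orthogonal type over the field with three elements: the translation group
-/

namespace Cfsg.Agent.Fischer3.OrthO3

open OrthO1 OrthO2

local infixr:70 " ▷ " => TK.op

variable {Ω : Type*} [TK Ω] [Finite Ω] {χ : Ω → Prop}

theorem Lc.third {x a : Ω} (h : Lc χ x a) : Lc χ x (x ▷ a) := h.rot.rot.rot.swap |> fun h' => by
  have := h.rot.rot
  rw [op_third_r h.1] at this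
  exact this.swap

/-- values of the plane of parallel lines -/
theorem Lc.par_two (O : TypeO Ω) {x a b : Ω} (h : Lc χ x a) (hA : Aff x a b) :
    Lc χ (b ▷ x) (b ▷ a) := by
  have p1 := pt_ln hA (i := 0) (j := 1) (k := 0) (l := 0) (by decide)
  have p2 := pt_ln hA (i := 0) (j := 1) (k := 1) (l := 0) (by decide)
  have e1 : b ▷ x = pt x a b 0 2 := p1.2
  have e2 : b ▷ a = pt x a b 2 2 := p2.2
  rw [e1, e2]
  have hA' : Aff x a (pt x a b 0 2) := by
    refine ⟨hA.xa, ?_, ?_, ?_⟩
    · exact (pt_ln hA (i := 0) (j := 0) (k := 0) (l := 2) (by decide)).1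
    · exact (pt_ln hA (i := 1) (j := 0) (k := 0) (l := 2) (by decide)).1
    · exact (pt_ln hA (i := 2) (j := 0) (k := 0) (l := 2) (by decide)).1
  have h1 := Lc.par O h hA'
  have e3 : τ x a (pt x a b 0 2) = pt x a b 1 2 := by
    rw [τ_apply]
    have q1 := (pt_ln hA (i := 1) (j := 0) (k := 0) (l := 2) (by decide)).2
    have q2 := (pt_ln hA (i := 0) (j := 0) (k := 2) (l := 1) (by decide)).2
    calc x ▷ (a ▷ pt x a b 0 2) = x ▷ (pt x a b 2 1) := by
          exact congrArg (fun z => x ▷ z) q1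
      _ = pt x a b 1 2 := q2
  rw [e3] at h1
  have h2 := Lc.third h1
  have q := (pt_ln hA (i := 0) (j := 2) (k := 1) (l := 2) (by decide)).2
  have q' : pt x a b 0 2 ▷ pt x a b 1 2 = pt x a b 2 2 := q
  rwa [q'] at h2

/-- points on lines of the class preserve the class -/
theorem Lc.conj (O : TypeO Ω) {x a y : Ω} (h : Lc χ x a) (hy : ¬ χ y) :
    Lc χ (y ▷ x) (y ▷ a) := by
  rcases dich h hy with h1 | h1 | h1
  · have e1 : y ▷ x = x := h1.1.1
    have e2 : y ▷ a = a := h1.2.1.1
    rw [e1, e2]; exact h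
  · rcases h1 with rfl | rfl | rfl
    · rw [idem]; exact Lc.third h
    · rw [idem, ← op_comm h.1]
      exact h.rot.swap
    · rw [third_l h.1, third_r h.1]; exact h.swap
  · exact Lc.par_two O h h1

/-- the class is given by `χ` -/
def Cls (χ : Ω → Prop) : Prop := ∃ x a, Lc χ x a

theorem χ_conj (O : TypeO Ω) (hc : Cls χ) {y z : Ω} (hy : ¬ χ y) : χ (y ▷ z) ↔ χ z := by
  obtain ⟨x, a, h⟩ := hc
  rw [← h.2 z, ← X_conj (g := y)]
  exact ((Lc.conj O h hy).2 _).symm

/-- automorphisms preserving `χ` -/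
def Good (χ : Ω → Prop) (g : Equiv.Perm Ω) : Prop := IsAut g ∧ ∀ z, χ (g z) ↔ χ z

theorem Good.one : Good χ 1 := ⟨IsAut.one, fun _ => Iff.rfl⟩

theorem Good.mul {g h : Equiv.Perm Ω} (hg : Good χ g) (hh : Good χ h) : Good χ (g * h) :=
  ⟨hg.1.mul hh.1, fun z => by rw [Equiv.Perm.mul_apply, hg.2, hh.2]⟩

theorem Good.inv {g : Equiv.Perm Ω} (hg : Good χ g) : Good χ g⁻¹ :=
  ⟨hg.1.inv, fun z => by rw [← hg.2]; simp⟩

theorem Good.Lc_iff {g : Equiv.Perm Ω} (hg : Good χ g) {x a : Ω} :
    Lc χ (g x) (g a) ↔ Lc χ x a := by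
  have key : ∀ {g : Equiv.Perm Ω} (_ : Good χ g) {x a : Ω}, Lc χ x a → Lc χ (g x) (g a) := by
    intro g hg x a h
    refine ⟨fun h1 => h.1 (hg.1.cm_iff.1 h1), fun d => ?_⟩
    have e : g (g⁻¹ d) = d := by simp
    rw [← e, X_aut hg.1, h.2, hg.2]
  constructor
  · intro h
    have := key hg.inv h
    simpa using this
  · exact key hg

theorem good_σ (O : TypeO Ω) (hc : Cls χ) {y : Ω} (hy : ¬ χ y) : Good χ (σ y) :=
  ⟨isAut_σ y, fun _ => χ_conj O hc hy⟩

theorem good_τ (O : TypeO Ω) {x a : Ω} (h : Lc χ x a) : Good χ (τ x a) :=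
  (good_σ O ⟨x, a, h⟩ h.not_left).mul (good_σ O ⟨x, a, h⟩ h.swap.not_left)

theorem τ_pow_three {x a : Ω} (h : ¬ cm x a) (z : Ω) : τ x a (τ x a (τ x a z)) = z := by
  have := congrArg (fun f : Equiv.Perm Ω => f z) (τ_cube h)
  simpa using this

/-- a translation acts on the lines of its class as a translation -/
theorem act (O : TypeO Ω) {x a y b : Ω} (h : Lc χ x a) (h' : Lc χ y b) :
    (τ x a y = y ∧ τ x a b = b) ∨ (τ x a y = b ∧ τ x a b = y ▷ b) ∨
      (τ x a y = y ▷ b ∧ τ x a b = y) := by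
  set t := τ x a with ht
  have hg : Good χ t := good_τ O h
  have h3 : ∀ z, t (t (t z)) = z := fun z => τ_pow_three h.1 z
  rcases dich h h'.not_left with h1 | h1 | h1
  · -- `y` commutes with the line
    have e : t y = y := by
      have e1 : x ▷ y = y := cm_symm h1.1.1
      have e2 : a ▷ y = y := cm_symm h1.2.1.1
      rw [ht, τ_apply, e2, e1]
    have h2 : Lc χ y (t b) := by
      have := hg.Lc_iff.2 h'
      rwa [e] at this
    rcases Lc.unique O h' h2 with h4 | h4
    · exact Or.inl ⟨e, h4⟩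
    · exfalso
      have h5 : t (t b) = b := by
        rw [h4, hg.1, e, h4, invol]
      have h6 := h3 b
      rw [h5] at h6
      rw [h6] at h4
      exact h'.1 h4.symm
  · have k1 : t x = a := τ_self h.1
    have k2 : t a = x ▷ a := τ_second
    have k3 : t (x ▷ a) = x := τ_third h.1
    right
    rcases h1 with rfl | rfl | rfl
    · rcases Lc.unique O h h' with rfl | rfl
      · exact Or.inl ⟨k1, k2⟩
      · right; exact ⟨by rw [k1, invol], k3⟩
    · rcases Lc.unique O h.rot h' with rfl | rfl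
      · left
        exact ⟨k2, by rw [k3, op_third_r h.1]⟩
      · right
        rw [op_third_r h.1]
        refine ⟨by rw [k2, ← op_comm h.1], k1⟩
    · have hr := h.rot.rot
      rw [op_third_r h.1] at hr
      rcases Lc.unique O hr h' with rfl | rfl
      · left
        exact ⟨k3, by rw [k1, third_l h.1]⟩
      · right
        rw [third_l h.1]
        exact ⟨by rw [k3, third_r h.1], k2⟩
  · right
    have hp := Lc.par O h h1
    have e2 : t (t y) = y ▷ t y := by
      have q1 := (pt_ln h1 (i := 1) (j := 0) (k := 1) (l := 1) (by decide)).2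
      have q2 := (pt_ln h1 (i := 0) (j := 0) (k := 1) (l := 2) (by decide)).2
      have q3 := (pt_ln h1 (i := 0) (j := 1) (k := 1) (l := 1) (by decide)).2
      have c1 : t y = pt x a y 1 1 := rfl
      have c2 : t (t y) = x ▷ (a ▷ pt x a y 1 1) := rfl
      rw [c2]
      calc x ▷ (a ▷ pt x a y 1 1) = x ▷ pt x a y 1 2 := congrArg (fun z => x ▷ z) q1
        _ = pt x a y 2 1 := q2
        _ = y ▷ t y := q3.symm
    rcases Lc.unique O h' hp with h4 | h4
    · left
      refine ⟨h4, ?_⟩
      rw [← h4, e2]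
    · right
      refine ⟨h4, ?_⟩
      have : b = t (t y) := by
        rw [e2]
        change b = y ▷ τ x a y
        rw [h4, invol]
      rw [this, h3]

/-- translations of the class commute -/
theorem τ_comm (O : TypeO Ω) {x a y b : Ω} (h : Lc χ x a) (h' : Lc χ y b) :
    τ x a * τ y b = τ y b * τ x a := by
  have hg : Good χ (τ x a) := good_τ O h
  have e : τ (τ x a y) (τ x a b) = τ y b := by
    rcases act O h h' with ⟨h1, h2⟩ | ⟨h1, h2⟩ | ⟨h1, h2⟩
    · rw [h1, h2]
    · rw [h1, h2, τ_rot h'.1]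
    · rw [h1, h2, τ_rot' h'.1]
  rw [hg.1.τ_conj] at e
  exact mul_inv_eq_iff_eq_mul.1 e

/-- the translations of the class -/
def Lam (χ : Ω → Prop) : Set (Equiv.Perm Ω) := {g | ∃ x a, Lc χ x a ∧ τ x a = g}

/-- the translation group of the class -/
def R (χ : Ω → Prop) : Subgroup (Equiv.Perm Ω) := Subgroup.closure (Lam χ)

theorem mem_R {x a : Ω} (h : Lc χ x a) : τ x a ∈ R χ := Subgroup.subset_closure ⟨x, a, h, rfl⟩

theorem Lam_inv {g : Equiv.Perm Ω} (h : g ∈ Lam χ) : g⁻¹ ∈ Lam χ := by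
  obtain ⟨x, a, h, rfl⟩ := h
  exact ⟨a, x, h.swap, by rw [τ_inv]⟩

theorem R_comm (O : TypeO Ω) {g h : Equiv.Perm Ω} (hg : g ∈ R χ) (hh : h ∈ R χ) :
    g * h = h * g := by
  have key : ∀ k ∈ Lam χ, ∀ g ∈ R χ, g * k = k * g := by
    intro k hk g hg
    have : R χ ≤ Subgroup.centralizer {k} := by
      unfold R
      rw [Subgroup.closure_le]
      intro l hl
      rw [SetLike.mem_coe, Subgroup.mem_centralizer_singleton_iff]
      obtain ⟨x, a, hx, rfl⟩ := hl
      obtain ⟨y, b, hy, rfl⟩ := hk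
      exact τ_comm O hx hy
    exact Subgroup.mem_centralizer_singleton_iff.1 (this hg)
  have : R χ ≤ Subgroup.centralizer {h} := by
    unfold R
    rw [Subgroup.closure_le]
    intro l hl
    rw [SetLike.mem_coe, Subgroup.mem_centralizer_singleton_iff]
    exact (key l hl h hh).symm
  exact Subgroup.mem_centralizer_singleton_iff.1 (this hg)

theorem R_good (O : TypeO Ω) {g : Equiv.Perm Ω} (hg : g ∈ R χ) : Good χ g := by
  unfold R at hg
  induction hg using Subgroup.closure_induction with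
  | mem g hg => obtain ⟨x, a, hx, rfl⟩ := hg; exact good_τ O hx
  | one => exact Good.one
  | mul g h _ _ h1 h2 => exact h1.mul h2
  | inv g _ h1 => exact h1.inv

theorem R_cube (O : TypeO Ω) {g : Equiv.Perm Ω} (hg : g ∈ R χ) : g * g * g = 1 := by
  unfold R at hg
  induction hg using Subgroup.closure_induction with
  | mem g hg => obtain ⟨x, a, hx, rfl⟩ := hg; exact τ_cube hx.1
  | one => simp
  | mul g h hg hh h1 h2 =>
    have hc : g * h = h * g := R_comm O hg hh
    calc g * h * (g * h) * (g * h) = g * (h * g) * (h * g) * h := by group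
      _ = g * (g * h) * (g * h) * h := by rw [hc]
      _ = (g * g) * (h * g) * h * h := by group
      _ = (g * g) * (g * h) * h * h := by rw [hc]
      _ = (g * g * g) * (h * h * h) := by group
      _ = 1 := by rw [h1, h2, one_mul]
  | inv g _ h1 =>
    have : (g * g * g)⁻¹ = 1 := by rw [h1, inv_one]
    rw [← this]; group

end Cfsg.Agent.Fischer3.OrthO3
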