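import Cfsg.Agent.Fischer3.OrthO3

set_option autoImplicit false
set_option linter.unusedSectionVars false

/-!
# Fischer spaces of orthogonal type over the field with three elements: regularity
-/

namespace Cfsg.Agent.Fischer3.OrthO4

open OrthO1 OrthO2 OrthO3

local infixr:70 " ▷ " => TK.op

variable {Ω : Type*} [TK Ω] [Finite Ω] {χ : Ω → Prop}

/-- a point commutes with one of the six points of an `S₄` -/
theorem s4_one (O : TypeO Ω) {a b c z : Ω} (hbc : cm b c) (hne : b ≠ c) (hab : ¬ cm a b)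
    (hac : ¬ cm a c) :
    cm z b ∨ cm z c ∨ cm z a ∨ cm z (b ▷ a) ∨ cm z (a ▷ c) ∨ cm z (b ▷ (a ▷ c)) := by
  by_contra hcon
  push Not at hcon
  obtain ⟨h1, h2, h3, h4, h5, h6⟩ := hcon
  have hA : Aff b a z := ⟨fun h => hab (cm_symm h), fun h => h1 (cm_symm h),
    fun h => h3 (cm_symm h), fun h => h4 (cm_symm h)⟩
  rcases O.never_one b a z c hA (cm_symm hbc) hne.symm with h | h | h | h
  · exact hac (cm_symm h)
  · exact h2 (cm_symm h)
  · rw [cm_right] at h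
    exact h5 (cm_symm h)
  · rw [cm_right, cm_right] at h
    exact h6 (cm_symm h)

/-- an affine triple on a given line of the class -/
theorem exists_aff (O : TypeO Ω) {x a : Ω} (h : ¬ cm x a) : ∃ b, Aff x a b := by
  obtain ⟨y, c, d, hA⟩ := O.ex
  obtain ⟨g, hg, rfl, rfl⟩ := O.tr y c x a hA.xa h
  refine ⟨g d, h, ?_, ?_, ?_⟩
  · rw [hg.cm_iff]; exact hA.xb
  · rw [hg.cm_iff]; exact hA.ab
  · rw [← hg, hg.cm_iff]; exact hA.xab

/-- points off the line, not commuting with one of its points: affine -/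
theorem aff_of_nc {x a z : Ω} (h : Lc χ x a) (hz : ¬ χ z) (h1 : ¬ cm x z) (h2 : z ≠ a)
    (h3 : z ≠ x ▷ a) : Aff x a z := by
  rcases dich h hz with h4 | h4 | h4
  · exact absurd (cm_symm h4.1.1) h1
  · rcases h4 with rfl | rfl | rfl
    · exact absurd (cm_refl _) h1
    · exact absurd rfl h2
    · exact absurd rfl h3
  · exact h4

/-- the translation group acts on the lines of the class -/
theorem R_act (O : TypeO Ω) {y b : Ω} (h : Lc χ y b) {g : Equiv.Perm Ω} (hg : g ∈ R χ) :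
    (g y = y ∧ g b = b) ∨ (g y = b ∧ g b = y ▷ b) ∨ (g y = y ▷ b ∧ g b = y) := by
  unfold R at hg
  induction hg using Subgroup.closure_induction with
  | mem g hg => obtain ⟨x, a, hx, rfl⟩ := hg; exact act O hx h
  | one => exact Or.inl ⟨rfl, rfl⟩
  | mul g k hg hk i1 i2 =>
    have hg' : g ∈ R χ := hg
    have ga := (R_good O hg').1
    simp only [Equiv.Perm.mul_apply]
    rcases i2 with ⟨j1, j2⟩ | ⟨j1, j2⟩ | ⟨j1, j2⟩
    · rw [j1, j2]; exact i1
    · rw [j1, j2, ga]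
      rcases i1 with ⟨k1, k2⟩ | ⟨k1, k2⟩ | ⟨k1, k2⟩
      · rw [k1, k2]; exact Or.inr (Or.inl ⟨rfl, rfl⟩)
      · rw [k1, k2, op_third_r h.1]; exact Or.inr (Or.inr ⟨rfl, rfl⟩)
      · rw [k1, k2, third_l h.1]; exact Or.inl ⟨rfl, rfl⟩
    · rw [j1, j2, ga]
      rcases i1 with ⟨k1, k2⟩ | ⟨k1, k2⟩ | ⟨k1, k2⟩
      · rw [k1, k2]; exact Or.inr (Or.inr ⟨rfl, rfl⟩)
      · rw [k1, k2, op_third_r h.1]; exact Or.inl ⟨rfl, rfl⟩
      · rw [k1, k2, third_l h.1]; exact Or.inr (Or.inl ⟨rfl, rfl⟩)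
  | inv g hg i1 =>
    have hg' : g ∈ R χ := hg
    have ga := (R_good O (Subgroup.inv_mem _ hg')).1
    rcases i1 with ⟨k1, k2⟩ | ⟨k1, k2⟩ | ⟨k1, k2⟩
    · exact Or.inl ⟨by rw [Equiv.Perm.inv_eq_iff_eq, k1], by rw [Equiv.Perm.inv_eq_iff_eq, k2]⟩
    · right; right
      have e2 : g⁻¹ b = y := by rw [Equiv.Perm.inv_eq_iff_eq, k1]
      have e3 : g⁻¹ (y ▷ b) = b := by rw [Equiv.Perm.inv_eq_iff_eq, k2]
      rw [ga, e2] at e3
      refine ⟨?_, e2⟩
      have : g⁻¹ y ▷ (g⁻¹ y ▷ y) = g⁻¹ y ▷ b := congrArg _ e3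
      rw [invol] at this
      -- g⁻¹ y is the third point
      have e4 : g (y ▷ b) = y := by
        rw [(R_good O hg').1, k1, k2, op_third_r h.1]
      rw [Equiv.Perm.inv_eq_iff_eq, e4]
    · right; left
      have e2 : g⁻¹ y = b := by rw [Equiv.Perm.inv_eq_iff_eq, k2]
      refine ⟨e2, ?_⟩
      have e4 : g (y ▷ b) = b := by
        rw [(R_good O hg').1, k1, k2, third_l h.1]
      rw [Equiv.Perm.inv_eq_iff_eq, e4]

/-- `l'' = (d, τ d)` commutes with `l' = (y, b)`, and `l = (v, τ v)` does not commute with both -/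
theorem exists_s4 (O : TypeO Ω) {y b : Ω} (h : Lc χ y b) :
    ∃ v v' d, Lc χ v v' ∧ Lc χ d (τ v v' d) ∧ Aff v v' d ∧ Aff v v' y ∧ Aff y b v ∧
      (∀ g ∈ R χ, ∀ g' ∈ R χ, cm (g d) (g' y)) := by
  obtain ⟨v, hv⟩ := exists_aff O h.1
  have hl := Lc.par O h hv
  obtain ⟨d, h1, h2, h3⟩ := exists_sep O hv
  have hdy : d ≠ y := by rintro rfl; exact h.1 h2
  have hdb : d ≠ b := by rintro rfl; exact h.1 (cm_symm h1)
  have hχd : ¬ χ d := by
    rw [← h.2]
    have p1 : pp d y := ⟨h1, hdy⟩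
    have p2 : pp d b := ⟨h2, hdb⟩
    unfold X
    tauto
  set v' := τ y b v with hv'
  -- y is not commuting with the line of v
  have hy : Aff v v' y := by
    refine aff_of_nc hl h.not_left (fun h => hv.xb (cm_symm h)) ?_ ?_
    · have q := (pt_ln hv (i := 0) (j := 0) (k := 1) (l := 1) (by decide)).1
      exact ne_of_nc q
    · have q := (pt_ln hv (i := 0) (j := 1) (k := 1) (l := 1) (by decide)).2
      have q' : v ▷ v' = pt y b v 2 1 := q
      rw [q']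
      exact ne_of_nc (pt_ln hv (i := 0) (j := 0) (k := 2) (l := 1) (by decide)).1
  have hdA : Aff v v' d := by
    refine aff_of_nc hl hχd (fun h => h3 (cm_symm h)) ?_ ?_
    · rintro rfl
      exact hy.ab h1
    · rintro rfl
      exact hy.xab h1
  refine ⟨v, v', d, hl, Lc.par O hl hdA, hdA, hy, hv, ?_⟩
  -- commuting with all images
  have key : ∀ g ∈ R χ, cm d (g y) ∧ cm d (g b) := by
    intro g hg
    have hgg : Lc χ (g y) (g b) := (R_good O hg).Lc_iff.2 h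
    have hyb : cm d (y ▷ b) := cm_op h1 h2
    rcases R_act O h hg with ⟨k1, k2⟩ | ⟨k1, k2⟩ | ⟨k1, k2⟩
    · rw [k1, k2]; exact ⟨h1, h2⟩
    · rw [k1, k2]; exact ⟨h2, hyb⟩
    · rw [k1, k2]; exact ⟨hyb, h1⟩
  intro g hg g' hg'
  have e : g (g⁻¹ (g' y)) = g' y := by simp
  rw [← e, (R_good O hg).1.cm_iff]
  exact (key _ (Subgroup.mul_mem _ (Subgroup.inv_mem _ hg) hg')).1

theorem R_nc (O : TypeO Ω) {v v' y : Ω} (h : Lc χ v v') (hA : Aff v v' y) {g g' : Equiv.Perm Ω}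
    (hg : g ∈ R χ) (hg' : g' ∈ R χ) : ¬ cm (g v) (g' y) := by
  have e : g' ((g'⁻¹ * g) v) = g v := by simp
  rw [← e, (R_good O hg').1.cm_iff]
  rcases R_act O h (Subgroup.mul_mem _ (Subgroup.inv_mem _ hg') hg) with
    ⟨h1, _⟩ | ⟨h1, _⟩ | ⟨h1, _⟩
  · rw [h1]; exact hA.xb
  · rw [h1]; exact hA.ab
  · rw [h1]; exact hA.xab

/-- the unique commuting point -/
theorem tri {x a z : Ω} (h : Lc χ x a) (hz : χ z) :
    ∃ e f, Lc χ e f ∧ τ e f = τ x a ∧ pp z e ∧ ¬ cm z f ∧ ¬ cm z (e ▷ f) ∧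
      ∃ g ∈ R χ, e = g x := by
  have hne : ∀ {e f : Ω}, Lc χ e f → z ≠ e := by
    rintro e f h1 rfl
    exact h1.not_left hz
  rcases (h.2 z).2 hz with ⟨h1, h2, h3⟩ | ⟨h1, h2, h3⟩ | ⟨h1, h2, h3⟩
  · refine ⟨x, a, h, rfl, h1, fun h4 => h2 ⟨h4, hne h.swap⟩, fun h4 => h3 ⟨h4, ?_⟩,
      1, Subgroup.one_mem _, rfl⟩
    exact hne (Lc.third h).swap
  · refine ⟨a, x ▷ a, h.rot, τ_rot h.1, h2, fun h4 => h3 ⟨h4, hne (Lc.third h).swap⟩,
      fun h4 => h1 ⟨?_, hne h⟩, τ x a, mem_R h, (τ_self h.1).symm⟩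
    rwa [op_third_r h.1] at h4
  · have hr := h.rot.rot
    rw [op_third_r h.1] at hr
    refine ⟨x ▷ a, x, hr, τ_rot' h.1, h3, fun h4 => h1 ⟨h4, hne h⟩,
      fun h4 => h2 ⟨?_, hne h.swap⟩, τ x a * τ x a, Subgroup.mul_mem _ (mem_R h) (mem_R h), ?_⟩
    · rwa [third_l h.1] at h4
    · rw [Equiv.Perm.mul_apply, τ_self h.1, τ_second]

/-- two members of `A` have a common commuting point in `N'` -/
theorem common (O : TypeO Ω) (hc : Cls χ) {z₁ z₂ : Ω} (h1 : χ z₁) (_h2 : χ z₂) :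
    ∃ x a, Lc χ x a ∧ cm z₁ x ∧ cm z₂ x := by
  obtain ⟨y, b, h⟩ := hc
  obtain ⟨v, v', d, hv, hd, hvd, hvy, -, hdy⟩ := exists_s4 O h
  obtain ⟨a', a'', ha, -, pa, -, -, ga, hga, rfl⟩ := tri hv h1
  obtain ⟨b', b'', hb, -, pb, -, -, gb, hgb, rfl⟩ := tri h h1
  obtain ⟨c', c'', hc, -, pc, -, -, gc, hgc, rfl⟩ := tri hd h1
  have n1 := R_nc O hv hvy hga hgb
  have n2 := R_nc O hv hvd hga hgc
  have n3 : cm (gb y) (gc d) := cm_symm (hdy gc hgc gb hgb)
  have n4 : gb y ≠ gc d := by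
    intro e
    have := hdy gc hgc (gb * τ y b) (Subgroup.mul_mem _ hgb (mem_R h))
    rw [← e, Equiv.Perm.mul_apply, τ_self h.1, (R_good O hgb).1.cm_iff] at this
    exact h.1 this
  have hcls : Cls χ := ⟨y, b, h⟩
  have mem : ∀ {p q p' : Ω}, Lc χ p p' → ¬ χ q → ∃ r, Lc χ (q ▷ p) r := fun hp hq =>
    ⟨_, Lc.conj O hp hq⟩
  rcases s4_one O (z := z₂) n3 n4 n1 n2 with h5 | h5 | h5 | h5 | h5 | h5
  · exact ⟨_, _, hb, pb.1, h5⟩
  · exact ⟨_, _, hc, pc.1, h5⟩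
  · exact ⟨_, _, ha, pa.1, h5⟩
  · exact ⟨_, _, Lc.conj O ha hb.not_left, cm_op pb.1 pa.1, h5⟩
  · exact ⟨_, _, Lc.conj O hc ha.not_left, cm_op pa.1 pc.1, h5⟩
  · exact ⟨_, _, Lc.conj O (Lc.conj O hc ha.not_left) hb.not_left,
      cm_op pb.1 (cm_op pa.1 pc.1), h5⟩

/-! ## local computations -/

theorem nc_x_u {x a z : Ω} (h : ¬ cm x a) (hz : cm z x) (hza : ¬ cm z a) : ¬ cm x (a ▷ z) := by
  rw [cm_right, ← op_comm h]
  exact fun h1 => nc_third hz hza (cm_symm h1)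

/-- (i) -/
theorem loc_one {x a y z : Ω} (h : Lc χ x a) (hy : cm y x) (hya : ¬ cm y a) (hz : cm z x)
    (hza : ¬ cm z a) (hyz : cm y z) (hne : y ≠ z) :
    ¬ cm y (a ▷ z) ∧ χ (y ▷ (a ▷ z)) := by
  have haz : ¬ cm a z := fun h => hza (cm_symm h)
  have e : a ▷ z = z ▷ a := op_comm haz
  have n1 : ¬ cm y (a ▷ z) := by
    rw [e]; exact nc_third hyz hya
  refine ⟨n1, ?_⟩
  rw [← h.2]
  -- commutes with `a`, not with `x`
  have c1 : cm (y ▷ (a ▷ z)) a := by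
    rw [op_comm n1, cm_left, third_l haz]
    exact hyz
  have c2 : ¬ cm (y ▷ (a ▷ z)) x := by
    rw [cm_left]
    have : y ▷ x = x := hy
    rw [this]
    exact fun h5 => nc_x_u h.1 hz hza (cm_symm h5)
  have c3 : y ▷ (a ▷ z) ≠ a := by
    intro h5
    apply hne
    have h6 : a ▷ z = y ▷ a := by rw [← h5, invol, h5]
    rw [op_comm hya] at h6
    exact (op_inj.1 h6).symm
  right; left
  refine ⟨not_pp_of_nc c2, ⟨c1, c3⟩, fun h6 => c2 ?_⟩
  have := cm_op c1 h6.1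
  rwa [op_third_r h.1] at this

/-- (ii) -/
theorem loc_two (O : TypeO Ω) {x a y z : Ω} (h : Lc χ x a) (hy : cm y x) (hya : ¬ cm y a)
    (hz : cm z x) (hza : ¬ cm z a) (hyz : ¬ cm y z) (hw : ¬ cm (y ▷ z) a) :
    ¬ cm y (a ▷ z) ∧ Lc χ (y ▷ (a ▷ z)) (τ x a (y ▷ (a ▷ z))) := by
  have haz : ¬ cm a z := fun h => hza (cm_symm h)
  have e : a ▷ z = z ▷ a := op_comm haz
  have n1 : ¬ cm y (a ▷ z) := by
    rw [e, cm_right, ← op_comm hyz]; exact hw
  refine ⟨n1, ?_⟩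
  have c2 : ¬ cm (y ▷ (a ▷ z)) x := by
    rw [cm_left]
    have : y ▷ x = x := hy
    rw [this]
    exact fun h5 => nc_x_u h.1 hz hza (cm_symm h5)
  have c3 : ¬ cm (y ▷ (a ▷ z)) a := by
    rw [op_comm n1, cm_left, third_l haz]
    exact hyz
  have c4 : ¬ cm (y ▷ (a ▷ z)) (x ▷ a) := by
    rw [op_comm n1, cm_left]
    have : cm (a ▷ z) (x ▷ a) := by
      rw [op_comm h.1, cm_conj]; exact hz
    have this' : (a ▷ z) ▷ (x ▷ a) = x ▷ a := this
    rw [this']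
    exact nc_third hy hya
  apply Lc.par O h
  exact ⟨h.1, fun h => c2 (cm_symm h), fun h => c3 (cm_symm h), fun h => c4 (cm_symm h)⟩

/-- (iii) -/
theorem loc_three {x a y z : Ω} (h : Lc χ x a) (hy : cm y x)
    (hz : cm z x) (hza : ¬ cm z a) (hyz : ¬ cm y z) (hw : cm (y ▷ z) a) :
    cm y (a ▷ z) ∧ y ≠ a ▷ z := by
  have haz : ¬ cm a z := fun h => hza (cm_symm h)
  have e : a ▷ z = z ▷ a := op_comm haz
  constructor
  · rw [e, cm_right, ← op_comm hyz]; exact hw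
  · intro h1
    apply nc_x_u h.1 hz hza
    rw [← h1]; exact cm_symm hy

/-- for `χ z` and a commuting point of a line of the class -/
theorem nc_of_cm {x a z : Ω} (h : Lc χ x a) (hz : χ z) (h1 : cm z x) : ¬ cm z a := by
  intro h2
  have n1 : z ≠ x := by rintro rfl; exact h.not_left hz
  have n2 : z ≠ a := by rintro rfl; exact h.swap.not_left hz
  have p1 : pp z x := ⟨h1, n1⟩
  have p2 : pp z a := ⟨h2, n2⟩
  have := (h.2 z).2 hz
  unfold X at this
  tauto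

theorem χ_R (O : TypeO Ω) {g : Equiv.Perm Ω} (hg : g ∈ R χ) {z : Ω} : χ (g z) ↔ χ z :=
  (R_good O hg).2 z

theorem χ_op (O : TypeO Ω) (hc : Cls χ) {x z : Ω} (hx : ¬ χ x) (hz : χ z) : χ (x ▷ z) :=
  (χ_conj O hc hx).2 hz

/-- third point in `N'` -/
theorem trans_one (O : TypeO Ω) {y z w : Ω} (hz : χ z)
    (hyz : ¬ cm y z) (hw : Lc χ (y ▷ z) w) : ∃ g ∈ R χ, g z = y := by
  obtain ⟨e, f, hl, -, hp, -, -, g, hg, he⟩ := tri hw hz
  set v := y ▷ z with hv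
  have hvz : ¬ cm v z := fun h => nc_third_r hyz (cm_symm h)
  have hve : Lc χ v e := by
    rcases R_act O hw hg with ⟨h1, _⟩ | ⟨h1, _⟩ | ⟨h1, _⟩
    · exfalso
      apply hvz
      rw [← h1, ← he]; exact cm_symm hp.1
    · rw [he, h1]; exact hw
    · rw [he, h1]; exact Lc.third hw
  refine ⟨τ v e, mem_R hve, ?_⟩
  rw [τ_apply]
  have : e ▷ z = z := cm_symm hp.1
  rw [this, hv, third_r hyz]

/-- (b) -/
theorem trans_two (O : TypeO Ω) (hc : Cls χ) {y z : Ω} (hy : χ y) (hz : χ z)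
    (hyz : ¬ cm y z) (hw : χ (y ▷ z)) : ∃ g ∈ R χ, g z = y := by
  obtain ⟨x, a, h, h1, h2⟩ := common O hc hy hz
  have hya := nc_of_cm h hy h1
  have hza := nc_of_cm h hz h2
  have hwx : cm (y ▷ z) x := by
    have := cm_op (cm_symm h1) (cm_symm h2)
    exact cm_symm this
  have hwa := nc_of_cm h hw hwx
  obtain ⟨n1, hl⟩ := loc_two O h h1 hya h2 hza hyz hwa
  have hu : χ (a ▷ z) := χ_op O hc h.swap.not_left hz
  obtain ⟨g, hg, hgu⟩ := trans_one O hu n1 hl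
  refine ⟨g * τ a x, Subgroup.mul_mem _ hg (mem_R h.swap), ?_⟩
  rw [Equiv.Perm.mul_apply, τ_apply]
  have : x ▷ z = z := cm_symm h2
  rw [this, hgu]

/-- (c) -/
theorem trans_three (O : TypeO Ω) (hc : Cls χ) {y z : Ω} (hy : χ y) (hz : χ z)
    (hyz : cm y z) : ∃ g ∈ R χ, g z = y := by
  by_cases hne : y = z
  · exact ⟨1, Subgroup.one_mem _, hne.symm⟩
  obtain ⟨x, a, h, h1, h2⟩ := common O hc hy hz
  have hya := nc_of_cm h hy h1
  have hza := nc_of_cm h hz h2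
  obtain ⟨n1, hl⟩ := loc_one h h1 hya h2 hza hyz hne
  have hu : χ (a ▷ z) := χ_op O hc h.swap.not_left hz
  obtain ⟨g, hg, hgu⟩ := trans_two O hc hy hu n1 hl
  refine ⟨g * τ a x, Subgroup.mul_mem _ hg (mem_R h.swap), ?_⟩
  rw [Equiv.Perm.mul_apply, τ_apply]
  have : x ▷ z = z := cm_symm h2
  rw [this, hgu]

/-- `R` is transitive on `A` -/
theorem trans (O : TypeO Ω) (hc : Cls χ) {y z : Ω} (hy : χ y) (hz : χ z) :
    ∃ g ∈ R χ, g z = y := by
  by_cases hyz : cm y z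
  · exact trans_three O hc hy hz hyz
  by_cases hw : χ (y ▷ z)
  · exact trans_two O hc hy hz hyz hw
  obtain ⟨x, a, h, h1, h2⟩ := common O hc hy hz
  have hya := nc_of_cm h hy h1
  have hza := nc_of_cm h hz h2
  have hwx : cm (y ▷ z) x := by
    have := cm_op (cm_symm h1) (cm_symm h2)
    exact cm_symm this
  by_cases hwa : cm (y ▷ z) a
  · obtain ⟨h3, -⟩ := loc_three h h1 h2 hza hyz hwa
    have hu : χ (a ▷ z) := χ_op O hc h.swap.not_left hz
    obtain ⟨g, hg, hgu⟩ := trans_three O hc hy hu h3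
    refine ⟨g * τ a x, Subgroup.mul_mem _ hg (mem_R h.swap), ?_⟩
    rw [Equiv.Perm.mul_apply, τ_apply]
    have : x ▷ z = z := cm_symm h2
    rw [this, hgu]
  · -- impossible : exactly one point
    exfalso
    apply hw
    rw [← h.2]
    have hne : y ▷ z ≠ x := by
      intro h5
      have := nc_third_l hyz
      rw [h5] at this
      exact this h1
    left
    exact ⟨⟨hwx, hne⟩, not_pp_of_nc hwa, not_pp_of_nc (nc_third hwx hwa)⟩

theorem cm_all (O : TypeO Ω) (hc : Cls χ) {y : Ω} (hy : ¬ χ y) (hno : ∀ b, ¬ Lc χ y b) :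
    (∀ {x a : Ω}, Lc χ x a → cm y x) ∧ ∀ z, χ z → cm y z := by
  -- `y` commutes with all the lines
  have key : ∀ {x a : Ω}, Lc χ x a → cm y x := by
    intro x a h
    rcases dich h hy with h1 | h1 | h1
    · exact h1.1.1
    · exfalso
      rcases h1 with rfl | rfl | rfl
      · exact hno _ h
      · exact hno _ h.swap
      · exact hno _ (Lc.third h).swap
    · exact absurd (Lc.par O h h1) (hno _)
  have hcm : ∀ g ∈ R χ, ∀ z, y ▷ (g z) = g (y ▷ z) := by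
    intro g hg
    unfold R at hg
    induction hg using Subgroup.closure_induction with
    | mem g hg =>
      obtain ⟨x, a, hx, rfl⟩ := hg
      intro z
      rw [τ_apply, τ_apply, op_op_comm (key hx), op_op_comm (key hx.swap)]
    | one => intro z; rfl
    | mul g k _ _ i1 i2 =>
      intro z
      rw [Equiv.Perm.mul_apply, i1, i2]; rfl
    | inv g _ i1 =>
      intro z
      apply g.injective
      rw [← i1]; simp
  refine ⟨key, ?_⟩
  intro z hz
  obtain ⟨g, hg, hgz⟩ := trans O hc (χ_op O hc hy hz) hz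
  have h1 : y ▷ (g z) = g (g z) := by rw [hcm g hg, hgz]
  have h2 : y ▷ (g z) = z := by rw [hgz, invol]
  have h3 : g (g z) = z := by rw [← h1, h2]
  have h4 : g (g (g z)) = z := by
    have := congrArg (fun f : Equiv.Perm Ω => f z) (R_cube O hg)
    simpa using this
  rw [h3] at h4
  show y ▷ z = z
  rw [← hgz, h4]

/-- every point is in `A` or on a line of the class -/
theorem exists_line (O : TypeO Ω) (hc : Cls χ) {y : Ω} (hy : ¬ χ y) : ∃ b, Lc χ y b := by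
  by_contra hno
  push Not at hno
  -- connectivity
  have hS := O.conn {y : Ω | ¬ χ y ∧ ∀ b, ¬ Lc χ y b} ⟨y, hy, hno⟩ ?_
  · obtain ⟨x, a, h⟩ := hc
    have : x ∈ {y : Ω | ¬ χ y ∧ ∀ b, ¬ Lc χ y b} := by rw [hS]; trivial
    exact this.2 _ h
  · intro s hs t ht
    obtain ⟨k1, k2⟩ := cm_all O hc hs.1 hs.2
    by_cases h : χ t
    · exact k2 t h
    · have : ∃ b, Lc χ t b := by
        by_contra h1
        push Not at h1
        exact ht ⟨h, h1⟩
      obtain ⟨b, hb⟩ := this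
      exact k1 hb

/-- there are members of `A` -/
theorem exists_A (O : TypeO Ω) (hc : Cls χ) : ∃ z, χ z := by
  obtain ⟨x, a, h⟩ := hc
  obtain ⟨b, hb⟩ := exists_aff O h.1
  have h1 : Aff x b a := ⟨hb.xb, hb.xa, fun h => hb.ab (cm_symm h), by
    rw [cm_left]
    exact fun h2 => hb.xab (cm_symm h2)⟩
  obtain ⟨d, h2, h3, h4⟩ := exists_sep O h1
  refine ⟨d, ?_⟩
  rw [← h.2]
  have hdx : d ≠ x := by rintro rfl; exact hb.xb h3
  exact Or.inl ⟨⟨h2, hdx⟩, not_pp_of_nc h4, not_pp_of_nc (nc_third h2 h4)⟩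

/-- `R` acts regularly -/
theorem R_faithful (O : TypeO Ω) (hc : Cls χ) {g : Equiv.Perm Ω} (hg : g ∈ R χ) {z : Ω}
    (hz : χ z) (h : g z = z) : g = 1 := by
  have h1 : ∀ y, χ y → g y = y := by
    intro y hy
    obtain ⟨k, hk, rfl⟩ := trans O hc hy hz
    have : g (k z) = (g * k) z := rfl
    rw [this, R_comm O hg hk, Equiv.Perm.mul_apply, h]
  ext y
  by_cases hy : χ y
  · exact h1 y hy
  obtain ⟨b, hb⟩ := exists_line O hc hy
  -- a member of `A` commuting with `y`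
  obtain ⟨e, f, hl, -, hp, -, -, k, hk, he⟩ := tri hb hz
  have h2 : g e = e := by
    rcases R_act O hl hg with ⟨h3, _⟩ | ⟨h3, _⟩ | ⟨h3, _⟩
    · exact h3
    · exfalso
      have h4 : cm (g z) (g e) := (R_good O hg).1.cm_iff.2 hp.1
      rw [h, h3] at h4
      exact nc_of_cm hl hz hp.1 h4
    · exfalso
      have h4 : cm (g z) (g e) := (R_good O hg).1.cm_iff.2 hp.1
      rw [h, h3] at h4
      exact nc_of_cm (Lc.third hl) hz hp.1 h4
  have h3 : y = k⁻¹ e := by rw [he]; simp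
  have h4 : g (k⁻¹ e) = k⁻¹ (g e) := by
    have := R_comm O hg (Subgroup.inv_mem _ hk)
    exact congrArg (fun f : Equiv.Perm Ω => f e) this
  rw [h3, h4, h2]; rfl

end Cfsg.Agent.Fischer3.OrthO4
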