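import Cfsg.Agent.Fischer3.OrthO4

set_option autoImplicit false
set_option linter.unusedSectionVars false

/-!
# Fischer spaces of orthogonal type over the field with three elements: the quadratic form
-/

namespace Cfsg.Agent.Fischer3.OrthO5

open OrthO1 OrthO2 OrthO3 OrthO4

local infixr:70 " ▷ " => TK.op

variable {Ω : Type*} [TK Ω] [Finite Ω] {χ : Ω → Prop}

theorem z3 : ∀ k : ZMod 3, k = 0 ∨ k = 1 ∨ k = 2 := by decide

/-- the relation of two points of `A` -/
noncomputable def qf (χ : Ω → Prop) (y z : Ω) : ZMod 3 :=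
  open Classical in
  if cm y z then (if y = z then 0 else -1) else (if χ (y ▷ z) then 0 else 1)

theorem qf_symm (y z : Ω) : qf χ y z = qf χ z y := by
  unfold qf
  by_cases h : cm y z
  · rw [if_pos h, if_pos (cm_symm h)]
    by_cases e : y = z
    · rw [if_pos e, if_pos e.symm]
    · rw [if_neg e, if_neg (fun h => e h.symm)]
  · rw [if_neg h, if_neg (fun h1 => h (cm_symm h1)), op_comm h]

theorem qf_good {g : Equiv.Perm Ω} (hg : Good χ g) (y z : Ω) : qf χ (g y) (g z) = qf χ y z := by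
  unfold qf
  rw [hg.1.cm_iff, g.injective.eq_iff, ← hg.1, hg.2]

theorem qf_eq_neg_one {y z : Ω} : qf χ y z = -1 ↔ cm y z ∧ y ≠ z := by
  unfold qf
  have e1 : (0 : ZMod 3) ≠ -1 := by decide
  have e2 : (1 : ZMod 3) ≠ -1 := by decide
  split_ifs <;> simp_all

theorem qf_eq_one {y z : Ω} : qf χ y z = 1 ↔ ¬ cm y z ∧ ¬ χ (y ▷ z) := by
  unfold qf
  have e1 : (-1 : ZMod 3) ≠ 1 := by decide
  split_ifs <;> simp_all

/-- the main local computation -/
theorem qf_step (O : TypeO Ω) {x a y z : Ω} (h : Lc χ x a) (hy : χ y) (hz : χ z)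
    (h1 : cm y x) (h2 : cm z x) : qf χ y (a ▷ z) = qf χ y z + 1 := by
  have hya := nc_of_cm h hy h1
  have hza := nc_of_cm h hz h2
  by_cases hyz : cm y z
  · by_cases hne : y = z
    · subst hne
      have n1 : ¬ cm y (a ▷ y) := by
        rw [← op_comm hya]; exact nc_third_l hya
      have n2 : ¬ χ (y ▷ (a ▷ y)) := by
        rw [← op_comm hya, invol]; exact h.swap.not_left
      have e0 : qf χ y y = 0 := by
        unfold qf; rw [if_pos hyz, if_pos rfl]
      rw [qf_eq_one.2 ⟨n1, n2⟩, e0, zero_add]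
    · obtain ⟨n1, n2⟩ := loc_one h h1 hya h2 hza hyz hne
      have e0 : qf χ y (a ▷ z) = 0 := by
        unfold qf; rw [if_neg n1, if_pos n2]
      rw [e0, qf_eq_neg_one.2 ⟨hyz, hne⟩, neg_add_cancel]
  · have hwx : cm (y ▷ z) x := cm_symm (cm_op (cm_symm h1) (cm_symm h2))
    by_cases hw : χ (y ▷ z)
    · have hwa := nc_of_cm h hw hwx
      obtain ⟨n1, hl⟩ := loc_two O h h1 hya h2 hza hyz hwa
      have e0 : qf χ y z = 0 := by
        unfold qf; rw [if_neg hyz, if_pos hw]
      rw [e0, qf_eq_one.2 ⟨n1, hl.not_left⟩, zero_add]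
    · have hwa : cm (y ▷ z) a := by
        by_contra hwa
        apply hw
        rw [← h.2]
        have hne : y ▷ z ≠ x := by
          intro h5
          have := nc_third_l hyz
          rw [h5] at this
          exact this h1
        left
        exact ⟨⟨hwx, hne⟩, not_pp_of_nc hwa, not_pp_of_nc (nc_third hwx hwa)⟩
      obtain ⟨n1, n2⟩ := loc_three h h1 h2 hza hyz hwa
      rw [qf_eq_neg_one.2 ⟨n1, n2⟩, qf_eq_one.2 ⟨hyz, hw⟩]
      decide

/-- an additive model of the translation group -/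
structure Rep (χ : Ω → Prop) (M : Type*) [AddCommGroup M] [Module (ZMod 3) M] where
  φ : M → Equiv.Perm Ω
  add : ∀ m n, φ (m + n) = φ m * φ n
  inj : Function.Injective φ
  mem : ∀ m, φ m ∈ R χ
  surj : ∀ g ∈ R χ, ∃ m, φ m = g
  z0 : Ω
  hz0 : χ z0

namespace Rep

variable {M : Type*} [AddCommGroup M] [Module (ZMod 3) M] (r : Rep χ M)

theorem zero : r.φ 0 = 1 := by
  have := r.add 0 0
  rw [add_zero] at this
  exact left_eq_mul.1 this

theorem neg (m : M) : r.φ (-m) = (r.φ m)⁻¹ := by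
  rw [eq_inv_iff_mul_eq_one, ← r.add, neg_add_cancel, r.zero]

theorem add_apply (m n : M) (z : Ω) : r.φ (m + n) z = r.φ m (r.φ n z) := by rw [r.add]; rfl

theorem two (u : M) : (2 : ZMod 3) • u = u + u := by
  have : (2 : ZMod 3) = 1 + 1 := by decide
  rw [this, add_smul, one_smul]

/-- the translations -/
def Lam (u : M) : Prop := r.φ u ∈ OrthO3.Lam χ

theorem Lam_neg {u : M} (h : r.Lam u) : r.Lam (-u) := by
  unfold Rep.Lam at *
  rw [r.neg]; exact Lam_inv h

theorem Lam_ne {u : M} (h : r.Lam u) : u ≠ 0 := by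
  rintro rfl
  obtain ⟨x, a, hx, e⟩ := h
  rw [r.zero] at e
  have : τ x a x = x := by rw [e]; rfl
  rw [τ_self hx.1] at this
  exact ne_of_nc hx.1 this.symm

theorem induction {p : M → Prop} (h0 : p 0) (h1 : ∀ u, r.Lam u → ∀ t, p t → p (t + u)) (t : M) :
    p t := by
  have key : ∀ g ∈ R χ, ∀ m, r.φ m = g → ∀ t, p t → p (t + m) := by
    intro g hg
    unfold R at hg
    induction hg using Subgroup.closure_induction with
    | mem g hg =>
      intro m hm t ht
      apply h1 m _ t ht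
      unfold Rep.Lam
      rw [hm]; exact hg
    | one =>
      intro m hm t ht
      have : m = 0 := r.inj (by rw [hm, r.zero])
      rw [this, add_zero]; exact ht
    | mul g k hg hk i1 i2 =>
      intro m hm t ht
      obtain ⟨m1, e1⟩ := r.surj g hg
      obtain ⟨m2, e2⟩ := r.surj k hk
      have : m = m1 + m2 := r.inj (by rw [hm, r.add, e1, e2])
      rw [this, ← add_assoc]
      exact i2 m2 e2 _ (i1 m1 e1 _ ht)
    | inv g hg i1 =>
      intro m hm t ht
      obtain ⟨m1, e1⟩ := r.surj g hg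
      have : m = m1 + m1 := by
        have e3 : m = - m1 := r.inj (by rw [hm, r.neg, e1])
        rw [e3, ← two]
        have : (2 : ZMod 3) = -1 := by decide
        rw [this, neg_smul, one_smul]
      rw [this, ← add_assoc]
      exact i1 m1 e1 _ (i1 m1 e1 _ ht)
  have := key _ (r.mem t) t rfl 0 h0
  rwa [zero_add] at this

/-- the point on the line of `u` commuting with `z0` -/
def x0 (u : M) : Ω := r.φ u (r.z0 ▷ r.φ u r.z0)

theorem x0_eq {u : M} {x a : Ω} (h : Lc χ x a) (ht : τ x a = r.φ u) (hx : cm r.z0 x) :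
    r.x0 u = x := by
  have hn2 := nc_of_cm (Lc.third h) r.hz0 hx
  unfold x0
  rw [← ht, τ_apply x a r.z0]
  have h1 : x ▷ r.z0 = r.z0 := cm_symm hx
  have h2 : x ▷ (a ▷ r.z0) = (x ▷ a) ▷ r.z0 := by rw [odist, h1]
  rw [h2, op_comm (fun h => hn2 (cm_symm h)), invol, τ_third h.1]

theorem x0_spec {u : M} (h : r.Lam u) :
    Lc χ (r.x0 u) (r.φ u (r.x0 u)) ∧ τ (r.x0 u) (r.φ u (r.x0 u)) = r.φ u ∧
      cm r.z0 (r.x0 u) := by
  obtain ⟨x, a, hx, e⟩ := h
  obtain ⟨e', f, hl, ht, hp, hn1, hn2, -⟩ := tri hx r.hz0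
  rw [e] at ht
  have h1 : r.φ u e' = f := by rw [← ht, τ_self hl.1]
  rw [r.x0_eq hl ht hp.1, h1]
  exact ⟨hl, ht, hp.1⟩

theorem fix_ne {u : M} {p : Ω} (hx : Lc χ p (r.φ u p)) : r.φ u p ≠ p :=
  fun h => ne_of_nc hx.1 h.symm

/-- action on the line -/
theorem exists_pos (O : TypeO Ω) {u : M} {p : Ω} (hx : Lc χ p (r.φ u p))
    (ht : τ p (r.φ u p) = r.φ u) (t : M) :
    ∃ i : ZMod 3, r.φ t p = r.φ (i • u) p := by
  rcases R_act O hx (r.mem t) with ⟨h1, _⟩ | ⟨h1, _⟩ | ⟨h1, _⟩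
  · exact ⟨0, by rw [h1, zero_smul, r.zero]; rfl⟩
  · exact ⟨1, by rw [h1, one_smul]⟩
  · refine ⟨2, ?_⟩
    rw [h1, two, r.add_apply]
    have : τ p (r.φ u p) (r.φ u p) = p ▷ r.φ u p := τ_second
    rw [← this, ht]

theorem pos_unique {u : M} {p : Ω} (hx : Lc χ p (r.φ u p))
    {i j : ZMod 3} (h : r.φ (i • u) p = r.φ (j • u) p) : i = j := by
  have h1 : r.φ ((j - i) • u) p = p := by
    have e : j • u = i • u + (j - i) • u := by rw [← add_smul]; congr 1; ring
    rw [e, r.add_apply] at h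
    exact ((r.φ (i • u)).injective h).symm
  have h2 : ∀ k : ZMod 3, r.φ (k • u) p = p → k = 0 := by
    intro k hk
    rcases z3 k with rfl | rfl | rfl
    · rfl
    · rw [one_smul] at hk
      exact absurd hk (r.fix_ne hx)
    · exfalso
      have e : r.φ u (r.φ ((2 : ZMod 3) • u) p) = p := by
        rw [← r.add_apply]
        have : u + (2 : ZMod 3) • u = 0 := by
          nth_rewrite 1 [← one_smul (ZMod 3) u]
          rw [← add_smul]
          have : (1 + 2 : ZMod 3) = 0 := by decide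
          rw [this, zero_smul]
        rw [this, r.zero]; rfl
      rw [hk] at e
      exact r.fix_ne hx e
  have := h2 _ h1
  rw [sub_eq_zero] at this
  exact this.symm

/-- the position on the line of `u` -/
noncomputable def P (t u : M) : ZMod 3 :=
  open Classical in
  if h : ∃ i : ZMod 3, r.φ t (r.x0 u) = r.φ (i • u) (r.x0 u) then h.choose else 0

theorem P_spec (O : TypeO Ω) {u : M} (hu : r.Lam u) (t : M) :
    r.φ t (r.x0 u) = r.φ (r.P t u • u) (r.x0 u) := by
  obtain ⟨h1, h2, -⟩ := r.x0_spec hu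
  have h := r.exists_pos O h1 h2 t
  unfold P
  rw [dif_pos h]
  exact h.choose_spec

theorem P_eq (O : TypeO Ω) {u : M} (hu : r.Lam u) {t : M} {i : ZMod 3}
    (h : r.φ t (r.x0 u) = r.φ (i • u) (r.x0 u)) : r.P t u = i := by
  obtain ⟨h1, h2, -⟩ := r.x0_spec hu
  apply r.pos_unique h1
  rw [← r.P_spec O hu, h]

theorem φ_comm (s t : M) (z : Ω) : r.φ s (r.φ t z) = r.φ t (r.φ s z) := by
  rw [← r.add_apply, ← r.add_apply, add_comm]

theorem P_add (O : TypeO Ω) {u : M} (hu : r.Lam u) (s t : M) :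
    r.P (s + t) u = r.P s u + r.P t u := by
  apply r.P_eq O hu
  rw [r.add_apply, r.P_spec O hu t, r.φ_comm, r.P_spec O hu s, ← r.add_apply, ← add_smul,
    add_comm]

theorem P_self (O : TypeO Ω) {u : M} (hu : r.Lam u) : r.P u u = 1 :=
  r.P_eq O hu (by rw [one_smul])

/-- the points of `A` -/
def y (t : M) : Ω := r.φ t r.z0

theorem y_χ (O : TypeO Ω) (t : M) : χ (r.y t) := (χ_R O (r.mem t)).2 r.hz0

theorem y_add (s t : M) : r.φ s (r.y t) = r.y (s + t) := (r.add_apply s t r.z0).symm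

theorem y_surj (O : TypeO Ω) (hc : Cls χ) {z : Ω} (hz : χ z) : ∃ t, r.y t = z := by
  obtain ⟨g, hg, rfl⟩ := trans O hc hz r.hz0
  obtain ⟨t, rfl⟩ := r.surj g hg
  exact ⟨t, rfl⟩

theorem y_inj (O : TypeO Ω) (hc : Cls χ) {s t : M} (h : r.y s = r.y t) : s = t := by
  have h1 : r.φ (s - t) r.z0 = r.z0 := by
    have : r.φ s r.z0 = r.φ t (r.φ (s - t) r.z0) := by
      rw [← r.add_apply]; congr 2; abel
    unfold y at h
    rw [this] at h
    exact (r.φ t).injective h
  have := R_faithful O hc (r.mem _) r.hz0 h1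
  rw [← r.zero] at this
  exact sub_eq_zero.1 (r.inj this)

theorem cm_y_x0 (O : TypeO Ω) {u : M} (hu : r.Lam u) (t : M) :
    cm (r.y t) (r.φ (r.P t u • u) (r.x0 u)) := by
  rw [← r.P_spec O hu]
  exact (R_good O (r.mem t)).1.cm_iff.2 (r.x0_spec hu).2.2

/-- the quadratic form -/
noncomputable def Q (t : M) : ZMod 3 := qf χ r.z0 (r.y t)

theorem Q_zero : r.Q 0 = 0 := by
  unfold Q y qf
  rw [r.zero]
  simp [cm_refl]

theorem Q_sub (O : TypeO Ω) (s t : M) : r.Q (t - s) = qf χ (r.y s) (r.y t) := by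
  unfold Q
  rw [← qf_good (R_good O (r.mem s)), r.y_add]
  congr 2
  abel

theorem Q_neg (O : TypeO Ω) (t : M) : r.Q (-t) = r.Q t := by
  have h1 := r.Q_sub O t 0
  have h2 := r.Q_sub O 0 t
  rw [zero_sub] at h1
  rw [sub_zero] at h2
  rw [h1, h2, qf_symm]

theorem Q_step_aux (O : TypeO Ω) {u : M} (hu : r.Lam u) {s : M} (hs : r.P s u = 0) :
    r.Q (s + u) = r.Q s + 1 ∧ r.Q (s - u) = r.Q s + 1 := by
  obtain ⟨h1, h2, h3⟩ := r.x0_spec hu
  have h4 := r.cm_y_x0 O hu s
  rw [hs, zero_smul, r.zero] at h4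
  have h4' : cm (r.y s) (r.x0 u) := h4
  have c : r.x0 u ▷ r.y s = r.y s := cm_symm h4'
  constructor
  · have e : r.y (s + u) = (r.x0 u ▷ r.φ u (r.x0 u)) ▷ r.y s := by
      rw [add_comm, ← r.y_add]
      calc r.φ u (r.y s) = τ (r.x0 u) (r.φ u (r.x0 u)) (r.y s) := by rw [h2]
        _ = r.x0 u ▷ (r.φ u (r.x0 u) ▷ r.y s) := rfl
        _ = (r.x0 u ▷ r.φ u (r.x0 u)) ▷ (r.x0 u ▷ r.y s) := odist _ _ _
        _ = _ := by rw [c]
    unfold Q
    rw [e]
    exact qf_step O (Lc.third h1) r.hz0 (r.y_χ O s) h3 h4'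
  · have e : r.y (s - u) = r.φ u (r.x0 u) ▷ r.y s := by
      rw [sub_eq_neg_add, ← r.y_add, r.neg]
      calc (r.φ u)⁻¹ (r.y s) = (τ (r.x0 u) (r.φ u (r.x0 u)))⁻¹ (r.y s) := by rw [h2]
        _ = r.φ u (r.x0 u) ▷ (r.x0 u ▷ r.y s) := by rw [τ_inv]; rfl
        _ = _ := by rw [c]
    unfold Q
    rw [e]
    exact qf_step O h1 r.hz0 (r.y_χ O s) h3 h4'

theorem Q_add (O : TypeO Ω) {u : M} (hu : r.Lam u) (t : M) :
    r.Q (t + u) = r.Q t + 1 - r.P t u := by
  have hself := r.P_self O hu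
  rcases z3 (r.P t u) with h | h | h
  · rw [(r.Q_step_aux O hu h).1, h, sub_zero]
  · have hs : r.P (t - u) u = 0 := by
      have := r.P_add O hu (t - u) u
      rw [sub_add_cancel, h, hself] at this
      exact (left_eq_add.1 (by rw [add_comm] at this; exact this))
    obtain ⟨q1, q2⟩ := r.Q_step_aux O hu hs
    rw [sub_add_cancel] at q1
    have e : t - u - u = t + u := by
      have : (3 : ZMod 3) • u = 0 := by
        have : (3 : ZMod 3) = 0 := by decide
        rw [this, zero_smul]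
      have h3 : (3 : ZMod 3) = 1 + 1 + 1 := by decide
      rw [h3, add_smul, add_smul, one_smul] at this
      have h4 : u = - u - u := by
        rw [eq_sub_iff_add_eq, eq_neg_iff_add_eq_zero]; exact this
      nth_rewrite 3 [h4]
      abel
    rw [e] at q2
    rw [q2, q1, h]; ring
  · have hs : r.P (t + u) u = 0 := by
      rw [r.P_add O hu, h, hself]; decide
    obtain ⟨q1, q2⟩ := r.Q_step_aux O hu hs
    rw [add_sub_cancel_right] at q2
    rw [q2, h]
    have : (2 : ZMod 3) = 1 + 1 := by decide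
    rw [this]; ring

theorem P_zero (O : TypeO Ω) {u : M} (hu : r.Lam u) : r.P 0 u = 0 := by
  have := r.P_add O hu 0 0
  rw [add_zero] at this
  exact left_eq_add.1 this

theorem Q_lam (O : TypeO Ω) {u : M} (hu : r.Lam u) : r.Q u = 1 := by
  have := r.Q_add O hu 0
  rw [zero_add, r.Q_zero, r.P_zero O hu] at this
  rw [this]; ring

/-- the symmetric bilinear form -/
noncomputable def b (s t : M) : ZMod 3 := r.Q s + r.Q t - r.Q (s + t)

theorem b_symm (s t : M) : r.b s t = r.b t s := by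
  unfold b; rw [add_comm s t]; ring

theorem b_lam (O : TypeO Ω) {u : M} (hu : r.Lam u) (t : M) : r.b t u = r.P t u := by
  unfold b
  rw [r.Q_lam O hu, r.Q_add O hu]; ring

theorem b_add_lam (O : TypeO Ω) {u : M} (hu : r.Lam u) (s t : M) :
    r.b s (t + u) = r.b s t + r.P s u := by
  unfold b
  rw [← add_assoc, r.Q_add O hu, r.Q_add O hu, r.P_add O hu]; ring

theorem b_zero (s : M) : r.b s 0 = 0 := by
  unfold b; rw [add_zero, r.Q_zero]; ring

theorem b_add_left (O : TypeO Ω) (s s' t : M) : r.b (s + s') t = r.b s t + r.b s' t := by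
  revert s s'
  refine r.induction (p := fun t => ∀ s s', r.b (s + s') t = r.b s t + r.b s' t) ?_ ?_ t
  · intro s s'; rw [b_zero, b_zero, b_zero, add_zero]
  · intro u hu t ht s s'
    rw [r.b_add_lam O hu, r.b_add_lam O hu, r.b_add_lam O hu, ht, r.P_add O hu]; ring

theorem b_smul_left (O : TypeO Ω) (c : ZMod 3) (s t : M) : r.b (c • s) t = c * r.b s t := by
  rcases z3 c with rfl | rfl | rfl
  · rw [zero_smul, r.b_symm, r.b_zero, zero_mul]
  · rw [one_smul, one_mul]
  · rw [two, r.b_add_left O, two_mul]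

theorem b_self (O : TypeO Ω) (t : M) : r.b t t = r.Q t := by
  unfold b
  have : t + t = - t := by
    have : (3 : ZMod 3) • t = 0 := by
      have : (3 : ZMod 3) = 0 := by decide
      rw [this, zero_smul]
    have h3 : (3 : ZMod 3) = 1 + 1 + 1 := by decide
    rw [h3, add_smul, add_smul, one_smul] at this
    rw [eq_neg_iff_add_eq_zero]; exact this
  rw [this, r.Q_neg O]; ring

/-- the bilinear form on `M` -/
noncomputable def B (O : TypeO Ω) : LinearMap.BilinForm (ZMod 3) M :=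
  LinearMap.mk₂ (ZMod 3) r.b (r.b_add_left O) (r.b_smul_left O)
    (fun s t t' => by rw [r.b_symm, r.b_add_left O, r.b_symm t, r.b_symm t'])
    (fun c s t => by rw [r.b_symm, r.b_smul_left O, r.b_symm]; rfl)

@[simp] theorem B_apply (O : TypeO Ω) (s t : M) : r.B O s t = r.b s t := rfl

/-- coordinates of the points outside of `A` -/
theorem exists_coord (O : TypeO Ω) (hc : Cls χ) {d : Ω} (hd : ¬ χ d) :
    ∃ (u : M) (i : ZMod 3), r.Lam u ∧ r.φ (i • u) (r.x0 u) = d := by
  obtain ⟨c, hl⟩ := exists_line O hc hd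
  obtain ⟨u, hu⟩ := r.surj _ (mem_R hl)
  have hLu : r.Lam u := ⟨d, c, hl, hu.symm⟩
  obtain ⟨e, f, hl', ht', hp, -, -, g, hg, he⟩ := tri hl r.hz0
  have hx : r.x0 u = e := r.x0_eq hl' (by rw [ht', hu]) hp.1
  obtain ⟨m, hm⟩ := r.surj _ (Subgroup.inv_mem _ hg)
  obtain ⟨i, hi⟩ := r.exists_pos O (r.x0_spec hLu).1 (r.x0_spec hLu).2.1 m
  refine ⟨u, i, hLu, ?_⟩
  rw [← hi, hx, hm, he]; simp

theorem cm_y_iff (O : TypeO Ω) {u : M} (hu : r.Lam u) (t : M) (i : ZMod 3) :
    cm (r.y t) (r.φ (i • u) (r.x0 u)) ↔ i = r.P t u := by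
  constructor
  · intro h
    obtain ⟨h1, h2, h3⟩ := r.x0_spec hu
    have h4 : cm (r.φ (-t) (r.y t)) (r.φ (-t) (r.φ (i • u) (r.x0 u))) :=
      (R_good O (r.mem _)).1.cm_iff.2 h
    rw [r.y_add, neg_add_cancel, r.φ_comm, r.P_spec O hu (-t), ← r.add_apply, ← add_smul] at h4
    have hz : r.y 0 = r.z0 := by unfold y; rw [r.zero]; rfl
    rw [hz] at h4
    have h5 : ∀ k : ZMod 3, cm r.z0 (r.φ (k • u) (r.x0 u)) → k = 0 := by
      intro k hk
      rcases z3 k with rfl | rfl | rfl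
      · rfl
      · rw [one_smul] at hk
        exact absurd hk (nc_of_cm h1 r.hz0 h3)
      · exfalso
        have e : r.φ ((2 : ZMod 3) • u) (r.x0 u) = r.x0 u ▷ r.φ u (r.x0 u) := by
          rw [two, r.add_apply]
          have : τ (r.x0 u) (r.φ u (r.x0 u)) (r.φ u (r.x0 u)) = r.x0 u ▷ r.φ u (r.x0 u) :=
            τ_second
          rw [← this, h2]
        rw [e] at hk
        exact absurd hk (nc_of_cm (Lc.third h1) r.hz0 h3)
    have h6 := h5 _ h4
    have h7 : r.P (-t) u = - r.P t u := by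
      have := r.P_add O hu t (-t)
      rw [add_neg_cancel, r.P_zero O hu] at this
      exact eq_neg_of_add_eq_zero_right this.symm
    rw [h7] at h6
    exact sub_eq_zero.1 (by rw [sub_eq_add_neg]; exact h6)
  · rintro rfl
    exact r.cm_y_x0 O hu t

/-- non degenerate -/
theorem b_nondeg (O : TypeO Ω) (hc : Cls χ) {t : M} (ht : ∀ s, r.b t s = 0) : t = 0 := by
  have hP : ∀ u, r.Lam u → r.P t u = 0 := fun u hu => by rw [← r.b_lam O hu]; exact ht u
  have hQ : ∀ s, r.Q (s - t) = r.Q s := by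
    intro s
    have h1 := ht (s - t)
    have h2 : r.Q t = 0 := by rw [← r.b_self O]; exact ht t
    unfold b at h1
    rw [h2, zero_add, add_sub_cancel] at h1
    exact sub_eq_zero.1 h1
  have hz : r.y 0 = r.z0 := by unfold y; rw [r.zero]; rfl
  have : r.z0 = r.y t := by
    apply O.notwin
    intro d hd0 hdt
    by_cases hd : χ d
    · obtain ⟨s, rfl⟩ := r.y_surj O hc hd
      have e1 : cm (r.y s) r.z0 ↔ r.Q s = -1 := by
        unfold Q
        rw [qf_eq_neg_one, cm_comm]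
        exact ⟨fun h => ⟨h, hd0.symm⟩, fun h => h.1⟩
      have e2 : cm (r.y s) (r.y t) ↔ r.Q (s - t) = -1 := by
        rw [r.Q_sub O, qf_eq_neg_one, cm_comm]
        exact ⟨fun h => ⟨h, hdt.symm⟩, fun h => h.1⟩
      rw [e1, e2, hQ]
    · obtain ⟨u, i, hu, rfl⟩ := r.exists_coord O hc hd
      rw [cm_comm, ← hz, r.cm_y_iff O hu, cm_comm (b := r.y t), r.cm_y_iff O hu, hP u hu,
        r.P_zero O hu]
  have h0 : r.y 0 = r.y t := by rw [hz, this]
  exact (r.y_inj O hc h0).symm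

end Rep

end Cfsg.Agent.Fischer3.OrthO5
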