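import Cfsg.Agent.Fischer3.OrthO5

set_option autoImplicit false
set_option linter.unusedSectionVars false

/-!
# Fischer spaces of orthogonal type over the field with three elements: the orthogonal space
-/

namespace Cfsg.Agent.Fischer3.OrthO6

open OrthO1 OrthO2 OrthO3 OrthO4 OrthO5

local infixr:70 " ▷ " => TK.op

variable {Ω : Type*} [TK Ω] [Finite Ω] {χ : Ω → Prop}

variable {M : Type*} [AddCommGroup M] [Module (ZMod 3) M] (r : Rep χ M)

/-- a line of the class through a point `w` meets `D_z` in another point -/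
theorem exists_cm_line (O : TypeO Ω) {z w c : Ω} (hz : χ z) (hw : Lc χ w c)
    (hvz : ¬ cm w z) : ∃ e, Lc χ w e ∧ cm z e := by
  obtain ⟨e, f, hl, -, hp, -, -, g, hg, he⟩ := tri hw hz
  refine ⟨e, ?_, hp.1⟩
  rcases R_act O hw hg with ⟨h1, _⟩ | ⟨h1, _⟩ | ⟨h1, _⟩
  · exfalso
    apply hvz
    rw [← h1, ← he]; exact cm_symm hp.1
  · rw [he, h1]; exact hw
  · rw [he, h1]; exact Lc.third hw

theorem lam_of_Q (O : TypeO Ω) (hc : Cls χ) {u : M} (h : r.Q u = 1) : r.Lam u := by
  obtain ⟨h1, h2⟩ := qf_eq_one.1 h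
  obtain ⟨c, hl⟩ := exists_line O hc h2
  have h3 : ¬ cm (r.z0 ▷ r.y u) r.z0 := fun h => nc_third_l h1 (cm_symm h)
  obtain ⟨e, he, hze⟩ := exists_cm_line O r.hz0 hl h3
  refine ⟨_, _, he, ?_⟩
  have h4 : τ (r.z0 ▷ r.y u) e r.z0 = r.y u := by
    rw [τ_apply]
    have : e ▷ r.z0 = r.z0 := cm_symm hze
    rw [this, third_l h1]
  obtain ⟨m, hm⟩ := r.surj _ (mem_R he)
  rw [← hm] at h4 ⊢
  rw [r.y_inj O hc h4]

theorem lam_iff (O : TypeO Ω) (hc : Cls χ) {u : M} : r.Lam u ↔ r.Q u = 1 :=
  ⟨r.Q_lam O, lam_of_Q r O hc⟩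

/-- the points of the model -/
noncomputable def Ψ (v : ZMod 3 × M × ZMod 3) : Ω :=
  if v.2.2 = 0 then r.φ ((-v.1) • v.2.1) (r.x0 v.2.1) else r.y (v.2.2 • v.2.1)

/-- the form -/
noncomputable def bV (v w : ZMod 3 × M × ZMod 3) : ZMod 3 :=
  v.1 * w.2.2 + w.1 * v.2.2 + r.b v.2.1 w.2.1

theorem bV_symm (v w : ZMod 3 × M × ZMod 3) : bV r v w = bV r w v := by
  unfold bV; rw [r.b_symm]; ring

/-- points on the line of `u` -/
theorem line_pt (O : TypeO Ω) {u : M} (hu : r.Lam u) (t : M) :
    Lc χ (r.φ t (r.x0 u)) (r.φ u (r.φ t (r.x0 u))) ∧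
      τ (r.φ t (r.x0 u)) (r.φ u (r.φ t (r.x0 u))) = r.φ u := by
  obtain ⟨h1, h2, -⟩ := r.x0_spec hu
  rw [r.φ_comm u t]
  refine ⟨(R_good O (r.mem t)).Lc_iff.2 h1, ?_⟩
  rw [(R_good O (r.mem t)).1.τ_conj, h2, R_comm O (r.mem t) (r.mem u), mul_assoc,
    mul_inv_cancel, mul_one]

theorem not_χ_line (O : TypeO Ω) {u : M} (hu : r.Lam u) (t : M) : ¬ χ (r.φ t (r.x0 u)) :=
  (line_pt r O hu t).1.not_left

/-- lines -/
theorem cm_line_iff (O : TypeO Ω) {u u' : M} (hu : r.Lam u) (hu' : r.Lam u') (t t' : M) :
    cm (r.φ t (r.x0 u)) (r.φ t' (r.x0 u')) ↔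
      r.φ t (r.x0 u) = r.φ t' (r.x0 u') ∨ r.b u u' = 0 := by
  obtain ⟨h1, h2⟩ := line_pt r O hu t
  set p := r.φ t (r.x0 u) with hp
  set p' := r.φ t' (r.x0 u') with hp'
  have hfix : r.b u u' = 0 ↔ r.φ u p' = p' := by
    rw [r.b_lam O hu']
    constructor
    · intro h
      have := r.P_spec O hu' u
      rw [h, zero_smul, r.zero] at this
      rw [hp', r.φ_comm, this]; rfl
    · intro h
      apply r.P_eq O hu'
      rw [hp', r.φ_comm] at h
      rw [zero_smul, r.zero]
      exact (r.φ t').injective h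
  rw [hfix]
  rcases dich h1 (not_χ_line r O hu' t') with h3 | h3 | h3
  · constructor
    · intro _
      right
      rw [← h2, τ_apply]
      have e1 : r.φ u p ▷ p' = p' := cm_symm h3.2.1.1
      have e2 : p ▷ p' = p' := cm_symm h3.1.1
      rw [e1, e2]
    · intro _
      exact cm_symm h3.1.1
  · have hmv : r.φ u p' ≠ p' := by
      intro h
      rw [← h2] at h
      rcases h3 with h3 | h3 | h3
      · change τ p (r.φ u p) p' = p' at h
        change p' = p at h3
        rw [h3, τ_self h1.1] at h
        exact ne_of_nc h1.1 h.symm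
      · change τ p (r.φ u p) p' = p' at h
        change p' = r.φ u p at h3
        rw [h3, τ_second] at h
        exact ne_of_nc (nc_third_r h1.1) h.symm
      · change τ p (r.φ u p) p' = p' at h
        change p' = p ▷ r.φ u p at h3
        rw [h3, τ_third h1.1] at h
        exact ne_of_nc (nc_third_l h1.1) h
    constructor
    · intro hc
      rcases h3 with h3 | h3 | h3
      · exact Or.inl h3.symm
      · change p' = r.φ u p at h3
        rw [h3] at hc
        exact absurd hc h1.1
      · change p' = p ▷ r.φ u p at h3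
        rw [h3] at hc
        exact absurd hc (nc_third_l h1.1)
    · rintro (h | h)
      · rw [h]; exact cm_refl _
      · exact absurd h hmv
  · constructor
    · intro hc
      exact absurd hc h3.xb
    · rintro (h | h)
      · rw [h]; exact cm_refl _
      · exfalso
        rw [← h2] at h
        exact ne_of_nc (pt_ln h3 (i := 0) (j := 1) (k := 1) (l := 1) (by decide)).1 h.symm

theorem sq_one {β : ZMod 3} (h : β ≠ 0) : β * β = 1 := by
  revert β; decide

theorem b_sub_left (O : TypeO Ω) (s s' t : M) : r.b (s - s') t = r.b s t - r.b s' t := by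
  have := r.b_add_left O (s - s') s' t
  rw [sub_add_cancel] at this
  rw [this]; ring

theorem Q_expand (O : TypeO Ω) (β β' : ZMod 3) (t t' : M) :
    r.Q (β' • t' - β • t) = β' * β' * r.Q t' - 2 * (β * β' * r.b t t') + β * β * r.Q t := by
  rw [← r.b_self O, b_sub_left r O, r.b_smul_left O, r.b_smul_left O, r.b_symm _ (β' • t' - β • t),
    r.b_symm _ (β' • t' - β • t), b_sub_left r O, b_sub_left r O, r.b_smul_left O, r.b_smul_left O,
    r.b_smul_left O, r.b_smul_left O, r.b_self O, r.b_self O, r.b_symm t' t]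
  ring

/-- commuting points are orthogonal -/
theorem cm_Ψ_iff (O : TypeO Ω) (hc : Cls χ) {v w : ZMod 3 × M × ZMod 3} (hv : bV r v v = 1)
    (hw : bV r w w = 1) : cm (Ψ r v) (Ψ r w) ↔ Ψ r v = Ψ r w ∨ bV r v w = 0 := by
  obtain ⟨α, t, β⟩ := v
  obtain ⟨α', t', β'⟩ := w
  have hv' : α * β + α * β + r.Q t = 1 := by
    have := hv; unfold bV at this; rw [r.b_self O] at this; exact this
  have hw' : α' * β' + α' * β' + r.Q t' = 1 := by
    have := hw; unfold bV at this; rw [r.b_self O] at this; exact this
  by_cases hβ : β = 0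
  · subst hβ
    have hu : r.Lam t := lam_of_Q r O hc (by rw [← hv']; ring)
    have e1 : Ψ r (α, t, 0) = r.φ ((-α) • t) (r.x0 t) := if_pos rfl
    by_cases hβ' : β' = 0
    · subst hβ'
      have hu' : r.Lam t' := lam_of_Q r O hc (by rw [← hw']; ring)
      have e2 : Ψ r (α', t', 0) = r.φ ((-α') • t') (r.x0 t') := if_pos rfl
      have e3 : bV r (α, t, 0) (α', t', 0) = r.b t t' := by
        unfold bV; simp
      rw [e1, e2, e3]
      exact cm_line_iff r O hu hu' _ _
    · have e2 : Ψ r (α', t', β') = r.y (β' • t') := if_neg hβ'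
      have e3 : bV r (α, t, 0) (α', t', β') = α * β' + r.b t t' := by
        unfold bV; simp
      rw [e1, e2, e3, cm_comm, r.cm_y_iff O hu, ← r.b_lam O hu, r.b_smul_left O, r.b_symm t' t]
      have hne : ¬ (r.φ ((-α) • t) (r.x0 t) = r.y (β' • t')) := by
        intro h
        apply not_χ_line r O hu ((-α) • t)
        rw [h]; exact r.y_χ O _
      have hb := sq_one hβ'
      constructor
      · intro h
        right
        have : α * β' + r.b t t' = β' * (α + β' * r.b t t') := by
          rw [mul_add, ← mul_assoc, hb]; ring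
        rw [this, ← h]; ring
      · rintro (h | h)
        · exact absurd h hne
        · have : β' * r.b t t' + α = β' * (α * β' + r.b t t') := by
            rw [mul_add, mul_comm β' (α * β'), mul_assoc, hb]; ring
          rw [h, mul_zero] at this
          rw [neg_eq_iff_add_eq_zero, add_comm]; exact this
  · have e1 : Ψ r (α, t, β) = r.y (β • t) := if_neg hβ
    have hb := sq_one hβ
    by_cases hβ' : β' = 0
    · subst hβ'
      have hu' : r.Lam t' := lam_of_Q r O hc (by rw [← hw']; ring)
      have e2 : Ψ r (α', t', 0) = r.φ ((-α') • t') (r.x0 t') := if_pos rfl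
      have e3 : bV r (α, t, β) (α', t', 0) = α' * β + r.b t t' := by
        unfold bV; simp
      rw [e1, e2, e3, r.cm_y_iff O hu', ← r.b_lam O hu', r.b_smul_left O]
      have hne : ¬ (r.y (β • t) = r.φ ((-α') • t') (r.x0 t')) := by
        intro h
        apply not_χ_line r O hu' ((-α') • t')
        rw [← h]; exact r.y_χ O _
      constructor
      · intro h
        right
        have : α' * β + r.b t t' = β * (α' + β * r.b t t') := by
          rw [mul_add, ← mul_assoc, hb]; ring
        rw [this, ← h]; ring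
      · rintro (h | h)
        · exact absurd h hne
        · have : β * r.b t t' + α' = β * (α' * β + r.b t t') := by
            rw [mul_add, mul_comm β (α' * β), mul_assoc, hb]; ring
          rw [h, mul_zero] at this
          rw [neg_eq_iff_add_eq_zero, add_comm]; exact this
    · have e2 : Ψ r (α', t', β') = r.y (β' • t') := if_neg hβ'
      have hb' := sq_one hβ'
      rw [e1, e2]
      have key : r.Q (β' • t' - β • t) + 1 = β * β' * bV r (α, t, β) (α', t', β') := by
        rw [Q_expand r O]
        have h3 : (3 : ZMod 3) = 0 := by decide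
        unfold bV
        simp only
        linear_combination (r.Q t' - α * β) * hb' + (r.Q t - α' * β') * hb + hv' + hw' +
          (1 - α * β - α' * β' - β * β' * r.b t t') * h3
      have hcm : (cm (r.y (β • t)) (r.y (β' • t')) ∧ r.y (β • t) ≠ r.y (β' • t')) ↔
          r.Q (β' • t' - β • t) = -1 := by
        rw [r.Q_sub O, qf_eq_neg_one]
      have hz : bV r (α, t, β) (α', t', β') = 0 ↔ r.Q (β' • t' - β • t) = -1 := by
        constructor
        · intro h
          rw [h, mul_zero] at key
          exact eq_neg_of_add_eq_zero_left key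
        · intro h
          rw [h, neg_add_cancel] at key
          rcases mul_eq_zero.1 key.symm with h1 | h1
          · rcases mul_eq_zero.1 h1 with h2 | h2
            · exact absurd h2 hβ
            · exact absurd h2 hβ'
          · exact h1
      rw [hz, ← hcm]
      constructor
      · intro h
        by_cases e : r.y (β • t) = r.y (β' • t')
        · exact Or.inl e
        · exact Or.inr ⟨h, e⟩
      · rintro (h | h)
        · rw [h]; exact cm_refl _
        · exact h.1

theorem Ψ_surj (O : TypeO Ω) (hc : Cls χ) (d : Ω) :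
    ∃ v, bV r v v = 1 ∧ Ψ r v = d := by
  by_cases hd : χ d
  · obtain ⟨t, rfl⟩ := r.y_surj O hc hd
    refine ⟨(r.Q t - 1, t, 1), ?_, ?_⟩
    · unfold bV
      simp only
      rw [r.b_self O]
      have h3 : (3 : ZMod 3) = 0 := by decide
      linear_combination (r.Q t - 1) * h3
    · unfold Ψ
      simp only
      rw [if_neg (by decide), one_smul]
  · obtain ⟨u, i, hu, rfl⟩ := r.exists_coord O hc hd
    refine ⟨(-i, u, 0), ?_, ?_⟩
    · unfold bV
      simp only
      rw [r.b_self O, r.Q_lam O hu]; ring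
    · unfold Ψ
      simp only
      rw [if_true, neg_neg]

theorem Q_smul (O : TypeO Ω) (β : ZMod 3) (t : M) : r.Q (β • t) = β * β * r.Q t := by
  rw [← r.b_self O, r.b_smul_left O, r.b_symm, r.b_smul_left O, r.b_self O, mul_assoc]

theorem third_τ {u : M} {p : Ω} (h1 : Lc χ p (r.φ u p)) (h2 : τ p (r.φ u p) = r.φ u) :
    τ p (p ▷ r.φ u p) = r.φ (-u) := by
  calc τ p (p ▷ r.φ u p) = (τ (p ▷ r.φ u p) p)⁻¹ := (τ_inv _ _).symm
    _ = (τ p (r.φ u p))⁻¹ := by rw [τ_rot' h1.1]
    _ = (r.φ u)⁻¹ := by rw [h2]
    _ = r.φ (-u) := (r.neg u).symm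

theorem x0_neg {u : M} (hu : r.Lam u) : r.x0 (-u) = r.x0 u := by
  obtain ⟨h1, h2, h3⟩ := r.x0_spec hu
  refine r.x0_eq (Lc.third h1) ?_ h3
  exact third_τ r h1 h2

theorem Ψ_inj (O : TypeO Ω) (hc : Cls χ) {v w : ZMod 3 × M × ZMod 3} (hv : bV r v v = 1)
    (hw : bV r w w = 1) (h : Ψ r v = Ψ r w) : v = w ∨ v = - w := by
  obtain ⟨α, t, β⟩ := v
  obtain ⟨α', t', β'⟩ := w
  have hv' : α * β + α * β + r.Q t = 1 := by
    have := hv; unfold bV at this; rw [r.b_self O] at this; exact this
  have hw' : α' * β' + α' * β' + r.Q t' = 1 := by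
    have := hw; unfold bV at this; rw [r.b_self O] at this; exact this
  by_cases hβ : β = 0
  · subst hβ
    have hu : r.Lam t := lam_of_Q r O hc (by rw [← hv']; ring)
    have e1 : Ψ r (α, t, 0) = r.φ ((-α) • t) (r.x0 t) := if_pos rfl
    by_cases hβ' : β' = 0
    · subst hβ'
      have hu' : r.Lam t' := lam_of_Q r O hc (by rw [← hw']; ring)
      have e2 : Ψ r (α', t', 0) = r.φ ((-α') • t') (r.x0 t') := if_pos rfl
      rw [e1, e2] at h
      obtain ⟨l1, l2⟩ := line_pt r O hu ((-α) • t)
      obtain ⟨l3, l4⟩ := line_pt r O hu' ((-α') • t')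
      rw [← h] at l3 l4
      rcases Lc.unique O l1 l3 with e3 | e3
      · have : t' = t := r.inj (by rw [← l4, e3, l2])
        subst this
        left
        have := r.pos_unique (r.x0_spec hu).1 h
        rw [neg_inj.1 this]
      · have : t' = -t := r.inj (by rw [← l4, e3, third_τ r l1 l2])
        subst this
        right
        have e4 : (-α') • (-t) = α' • t := by rw [smul_neg, neg_smul, neg_neg]
        rw [x0_neg r hu, e4] at h
        have := r.pos_unique (r.x0_spec hu).1 h
        rw [← this]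
        simp
    · exfalso
      have e2 : Ψ r (α', t', β') = r.y (β' • t') := if_neg hβ'
      rw [e1, e2] at h
      apply not_χ_line r O hu ((-α) • t)
      rw [h]; exact r.y_χ O _
  · have e1 : Ψ r (α, t, β) = r.y (β • t) := if_neg hβ
    have hb := sq_one hβ
    by_cases hβ' : β' = 0
    · subst hβ'
      exfalso
      have hu' : r.Lam t' := lam_of_Q r O hc (by rw [← hw']; ring)
      have e2 : Ψ r (α', t', 0) = r.φ ((-α') • t') (r.x0 t') := if_pos rfl
      rw [e1, e2] at h
      apply not_χ_line r O hu' ((-α') • t')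
      rw [← h]; exact r.y_χ O _
    · have e2 : Ψ r (α', t', β') = r.y (β' • t') := if_neg hβ'
      have hb' := sq_one hβ'
      rw [e1, e2] at h
      have h1 := r.y_inj O hc h
      have h2 : r.Q t = r.Q t' := by
        have := congrArg r.Q h1
        rw [Q_smul r O, Q_smul r O, hb, hb', one_mul, one_mul] at this
        exact this
      have h3 : (3 : ZMod 3) = 0 := by decide
      have h4 : α * β = α' * β' := by
        linear_combination h3 * (α * β - α' * β') - hv' + hw' + h2
      have hcase : ∀ β β' : ZMod 3, β ≠ 0 → β' ≠ 0 → β = β' ∨ β = - β' := by decide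
      have h5 : β • (β • t) = t := by rw [smul_smul, hb, one_smul]
      have h6 : β' • (β' • t') = t' := by rw [smul_smul, hb', one_smul]
      have h7 : α = α * β * β := by rw [mul_assoc, hb, mul_one]
      have h8 : α' = α' * β' * β' := by rw [mul_assoc, hb', mul_one]
      rcases hcase β β' hβ hβ' with e | e
      · left
        have e3 : t = t' := by rw [← h5, ← h6, h1, e]
        have e4 : α = α' := by rw [h7, h4, h8, e]; rw [← e, mul_assoc, hb, mul_one]
        rw [e, e3, e4]
      · right
        have e3 : t = - t' := by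
          rw [← h5, h1, e, neg_smul, h6]
        have e4 : α = - α' := by
          rw [h7, h4, e, mul_neg, mul_assoc, hb', mul_one]
        rw [e, e3, e4]
        rfl

/-- the form on `V` as a bilinear form -/
noncomputable def BV (O : TypeO Ω) : LinearMap.BilinForm (ZMod 3) (ZMod 3 × M × ZMod 3) :=
  LinearMap.mk₂ (ZMod 3) (bV r)
    (fun v v' w => by unfold bV; simp only [Prod.fst_add, Prod.snd_add, r.b_add_left O]; ring)
    (fun c v w => by
      unfold bV
      simp only [Prod.smul_fst, Prod.smul_snd, r.b_smul_left O, smul_eq_mul]; ring)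
    (fun v w w' => by
      rw [bV_symm r v, bV_symm r v w, bV_symm r v w']
      unfold bV; simp only [Prod.fst_add, Prod.snd_add, r.b_add_left O]; ring)
    (fun c v w => by
      rw [bV_symm r v, bV_symm r v w]
      unfold bV
      simp only [Prod.smul_fst, Prod.smul_snd, r.b_smul_left O, smul_eq_mul]; ring)

@[simp] theorem BV_apply (O : TypeO Ω) (v w : ZMod 3 × M × ZMod 3) : BV r O v w = bV r v w := rfl

theorem BV_nondeg (O : TypeO Ω) (hc : Cls χ) {v : ZMod 3 × M × ZMod 3}
    (h : ∀ w, bV r v w = 0) : v = 0 := by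
  obtain ⟨α, t, β⟩ := v
  have h1 : α = 0 := by
    have := h (0, 0, 1)
    unfold bV at this
    simpa [r.b_zero] using this
  have h2 : β = 0 := by
    have := h (1, 0, 0)
    unfold bV at this
    simpa [r.b_zero] using this
  have h3 : t = 0 := by
    apply r.b_nondeg O hc
    intro s
    have := h (0, s, 0)
    unfold bV at this
    simpa using this
  rw [h1, h2, h3]; rfl

end Cfsg.Agent.Fischer3.OrthO6
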