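import Cfsg.Agent.Fischer3.OrthO6

set_option autoImplicit false
set_option linter.unusedSectionVars false

/-!
# Fischer spaces of orthogonal type over the field with three elements: reflections
-/

namespace Cfsg.Agent.Fischer3.OrthO7

open OrthO1 OrthO2 OrthO3 OrthO4 OrthO5 OrthO6

local infixr:70 " ▷ " => TK.op

variable {Ω : Type*} [TK Ω] [Finite Ω] {χ : Ω → Prop}

variable {M : Type*} [AddCommGroup M] [Module (ZMod 3) M] (r : Rep χ M)

theorem Ψ_neg (v : ZMod 3 × M × ZMod 3) (hv : v.2.2 = 0 → r.Lam v.2.1) : Ψ r (-v) = Ψ r v := by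
  obtain ⟨α, t, β⟩ := v
  by_cases hβ : β = 0
  · subst hβ
    have hu : r.Lam t := hv rfl
    have e1 : Ψ r (α, t, 0) = r.φ ((-α) • t) (r.x0 t) := if_pos rfl
    have e2 : Ψ r (-(α, t, 0)) = r.φ ((-(-α)) • (-t)) (r.x0 (-t)) := if_pos (by simp)
    rw [e1, e2, x0_neg r hu, smul_neg, neg_smul (-α) t, neg_neg]
  · have e1 : Ψ r (α, t, β) = r.y (β • t) := if_neg hβ
    have e2 : Ψ r (-(α, t, β)) = r.y ((-β) • (-t)) := if_neg (by simpa using hβ)
    rw [e1, e2, smul_neg, neg_smul, neg_neg]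

theorem lam_of_norm (O : TypeO Ω) (hc : Cls χ) {v : ZMod 3 × M × ZMod 3} (hv : bV r v v = 1)
    (h : v.2.2 = 0) : r.Lam v.2.1 := by
  apply lam_of_Q r O hc
  unfold bV at hv
  rw [r.b_self O, h, mul_zero, zero_add, zero_add] at hv
  exact hv

theorem Ψ_neg' (O : TypeO Ω) (hc : Cls χ) {v : ZMod 3 × M × ZMod 3} (hv : bV r v v = 1) :
    Ψ r (-v) = Ψ r v := Ψ_neg r v (fun h => lam_of_norm r O hc hv h)

theorem pp_Ψ_iff (O : TypeO Ω) (hc : Cls χ) {v w : ZMod 3 × M × ZMod 3} (hv : bV r v v = 1)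
    (hw : bV r w w = 1) : pp (Ψ r v) (Ψ r w) ↔ bV r v w = 0 := by
  have hne : Ψ r v = Ψ r w → bV r v w ≠ 0 := by
    intro h
    rcases Ψ_inj r O hc hv hw h with e | e
    · rw [e, hw]; decide
    · have : bV r v w = - bV r w w := by
        rw [e]; exact (BV r O).map_neg₂ w w
      rw [this, hw]; decide
  unfold pp
  rw [cm_Ψ_iff r O hc hv hw]
  tauto

/-- reflection -/
noncomputable def ref (v w : ZMod 3 × M × ZMod 3) : ZMod 3 × M × ZMod 3 := w + bV r v w • v

theorem bV_add_left (O : TypeO Ω) (v v' w : ZMod 3 × M × ZMod 3) :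
    bV r (v + v') w = bV r v w + bV r v' w := (BV r O).map_add₂ v v' w

theorem bV_smul_left (O : TypeO Ω) (c : ZMod 3) (v w : ZMod 3 × M × ZMod 3) :
    bV r (c • v) w = c * bV r v w := (BV r O).map_smul₂ c v w

theorem bV_ref (O : TypeO Ω) (v w w' : ZMod 3 × M × ZMod 3) :
    bV r (ref r v w) w' = bV r w w' + bV r v w * bV r v w' := by
  unfold ref
  rw [bV_add_left r O, bV_smul_left r O]

theorem bV_ref_symm (O : TypeO Ω) (v w w' : ZMod 3 × M × ZMod 3) :
    bV r (ref r v w) w' = bV r w (ref r v w') := by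
  rw [bV_ref r O, bV_symm r w (ref r v w'), bV_ref r O, bV_symm r w' w]; ring

theorem norm_ref (O : TypeO Ω) {v w : ZMod 3 × M × ZMod 3} (hv : bV r v v = 1)
    (hw : bV r w w = 1) : bV r (ref r v w) (ref r v w) = 1 := by
  rw [bV_ref r O, bV_symm r w, bV_ref r O, bV_symm r v (ref r v w), bV_ref r O, hv, hw,
    bV_symm r w v]
  have h3 : (3 : ZMod 3) = 0 := by decide
  linear_combination (bV r v w * bV r v w) * h3

theorem ref_ref (O : TypeO Ω) {v : ZMod 3 × M × ZMod 3} (hv : bV r v v = 1)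
    (w : ZMod 3 × M × ZMod 3) : ref r v (ref r v w) = w := by
  have h1 : bV r v (ref r v w) = - bV r v w := by
    rw [bV_symm, bV_ref r O, hv, bV_symm r w v]
    have h3 : (3 : ZMod 3) = 0 := by decide
    linear_combination (bV r v w) * h3
  unfold ref at *
  rw [h1, neg_smul, add_neg_cancel_right]

theorem eq_one_or_neg {β : ZMod 3} (h : β ≠ 0) : β = 1 ∨ β = -1 := by
  revert β; decide

theorem ref_neg (O : TypeO Ω) (v w : ZMod 3 × M × ZMod 3) : ref r v (-w) = - ref r v w := by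
  unfold ref
  have : bV r v (-w) = - bV r v w := (BV r O v).map_neg w
  rw [this, neg_smul, neg_add]

/-- the vector of `y t` -/
noncomputable def E (t : M) : ZMod 3 × M × ZMod 3 := (r.Q t - 1, t, 1)

theorem Ψ_E (t : M) : Ψ r (E r t) = r.y t := by
  have : Ψ r (E r t) = r.y ((1 : ZMod 3) • t) := if_neg (by simp [E])
  rw [this, one_smul]

theorem norm_E (O : TypeO Ω) (t : M) : bV r (E r t) (E r t) = 1 := by
  unfold bV E
  simp only
  rw [r.b_self O]
  have h3 : (3 : ZMod 3) = 0 := by decide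
  linear_combination (r.Q t - 1) * h3

/-- Step A -/
theorem op_A (O : TypeO Ω) (hc : Cls χ) {v : ZMod 3 × M × ZMod 3} (hv : bV r v v = 1)
    (hv0 : v.2.2 = 0) (t : M) : Ψ r v ▷ Ψ r (E r t) = Ψ r (ref r v (E r t)) := by
  obtain ⟨α, u, β⟩ := v
  change β = 0 at hv0
  subst hv0
  have hu : r.Lam u := lam_of_norm r O hc hv rfl
  have e1 : Ψ r (α, u, 0) = r.φ ((-α) • u) (r.x0 u) := if_pos rfl
  have hk : bV r (α, u, 0) (E r t) = α + r.P t u := by
    rw [← r.b_lam O hu]
    unfold bV E; simp [r.b_symm t u]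
  have e2 : Ψ r (ref r (α, u, 0) (E r t)) = r.y (t + (α + r.P t u) • u) := by
    unfold ref
    rw [hk]
    have : Ψ r (E r t + (α + r.P t u) • (α, u, 0)) =
        r.y ((1 : ZMod 3) • (t + (α + r.P t u) • u)) := by
      unfold Ψ E
      simp
    rw [this, one_smul]
  rw [e2, e1, Ψ_E]
  set p := r.φ ((-α) • u) (r.x0 u) with hp
  obtain ⟨l1, l2⟩ := line_pt r O hu ((-α) • u)
  rw [← hp] at l1 l2
  have hcm : cm (r.y t) (r.φ ((α + r.P t u) • u) p) := by
    rw [hp, ← r.add_apply, ← add_smul]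
    have : α + r.P t u + -α = r.P t u := by ring
    rw [this]
    exact r.cm_y_x0 O hu t
  have hcm' : (r.φ ((α + r.P t u) • u) p) ▷ r.y t = r.y t := cm_symm hcm
  have hstep : p ▷ r.y t = τ p (r.φ ((α + r.P t u) • u) p) (r.y t) := by
    rw [τ_apply, hcm']
  rw [hstep]
  rcases z3 (α + r.P t u) with h | h | h
  · rw [h, zero_smul, r.zero]
    have : τ p ((1 : Equiv.Perm Ω) p) = 1 := σ_mul_self p
    rw [this, add_zero]; rfl
  · rw [h, one_smul, l2, r.y_add, add_comm]
  · have e3 : r.φ ((2 : ZMod 3) • u) p = p ▷ r.φ u p := by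
      rw [OrthO5.Rep.two, r.add_apply]
      have : τ p (r.φ u p) (r.φ u p) = p ▷ r.φ u p := τ_second
      rw [← this, l2]
    rw [h, e3, third_τ r l1 l2, r.y_add]
    have : (2 : ZMod 3) = -1 := by decide
    rw [this, neg_smul, one_smul, add_comm]

theorem Ψ_χ (O : TypeO Ω) (hc : Cls χ) {v : ZMod 3 × M × ZMod 3} (hv : bV r v v = 1) :
    χ (Ψ r v) ↔ v.2.2 ≠ 0 := by
  constructor
  · intro h h0
    have hu := lam_of_norm r O hc hv h0
    have : Ψ r v = r.φ ((-v.1) • v.2.1) (r.x0 v.2.1) := if_pos h0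
    rw [this] at h
    exact not_χ_line r O hu _ h
  · intro h
    have : Ψ r v = r.y (v.2.2 • v.2.1) := if_neg h
    rw [this]; exact r.y_χ O _

theorem pp_aut_op {a b c : Ω} : pp (a ▷ b) c ↔ pp b (a ▷ c) := by
  conv_lhs => rw [← invol a c]
  exact pp_conj

/-- points outside of `A` are determined by their neighbours in `A` -/
theorem det1 (r : OrthO5.Rep χ M) (O : TypeO Ω) (hc : Cls χ) {c d : Ω} (hcc : ¬ χ c) (hd : ¬ χ d)
    (h : ∀ z, χ z → (cm z c ↔ cm z d)) : c = d := by
  obtain ⟨u, i, hu, rfl⟩ := r.exists_coord O hc hcc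
  obtain ⟨u', j, hu', rfl⟩ := r.exists_coord O hc hd
  have h1 : ∀ t, r.b t u = i ↔ r.b t u' = j := by
    intro t
    have := h _ (r.y_χ O t)
    rw [r.cm_y_iff O hu, r.cm_y_iff O hu', ← r.b_lam O hu, ← r.b_lam O hu'] at this
    constructor
    · intro e; exact (this.1 e.symm).symm
    · intro e; exact (this.2 e.symm).symm
  have huu : r.b u u = 1 := by rw [r.b_self O, r.Q_lam O hu]
  have huu' : r.b u' u' = 1 := by rw [r.b_self O, r.Q_lam O hu']
  -- kernel
  have h2 : ∀ s, r.b s u = 0 → r.b s u' = 0 := by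
    intro s hs
    have a1 : r.b (i • u) u = i := by rw [r.b_smul_left O, huu, mul_one]
    have a2 : r.b (i • u + s) u = i := by rw [r.b_add_left O, a1, hs, add_zero]
    have a3 := (h1 _).1 a1
    have a4 := (h1 _).1 a2
    rw [r.b_add_left O, a3] at a4
    exact add_eq_left.1 a4
  have h3 : ∀ t, r.b t u' = r.b t u * r.b u u' := by
    intro t
    have := h2 (t - r.b t u • u) (by
      rw [b_sub_left r O, r.b_smul_left O, huu, mul_one, sub_self])
    rw [b_sub_left r O, r.b_smul_left O] at this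
    exact sub_eq_zero.1 this
  have h4 : u' = r.b u u' • u := by
    have : u' - r.b u u' • u = 0 := by
      apply r.b_nondeg O hc
      intro t
      rw [b_sub_left r O, r.b_smul_left O, r.b_symm u' t, h3, r.b_symm t u]; ring
    exact sub_eq_zero.1 this
  rcases z3 (r.b u u') with e | e | e
  · rw [e, zero_smul] at h4
    exact absurd h4 (r.Lam_ne hu')
  · rw [e, one_smul] at h4
    subst h4
    have a1 : r.b (i • u') u' = i := by rw [r.b_smul_left O, huu, mul_one]
    have := (h1 _).1 a1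
    rw [a1] at this
    rw [this]
  · have h2' : (2 : ZMod 3) = -1 := by decide
    rw [e, h2', neg_smul, one_smul] at h4
    subst h4
    have a1 : r.b (i • u) u = i := by rw [r.b_smul_left O, huu, mul_one]
    have a2 := (h1 _).1 a1
    have a3 : r.b u (-u) = - 1 := by
      rw [e, h2']
    rw [r.b_smul_left O, a3, mul_neg, mul_one] at a2
    rw [x0_neg r hu, ← a2, smul_neg, neg_smul, neg_neg]

theorem two' {N : Type*} [AddCommGroup N] [Module (ZMod 3) N] (u : N) :
    (2 : ZMod 3) • u = u + u := by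
  have : (2 : ZMod 3) = 1 + 1 := by decide
  rw [this, add_smul, one_smul]

/-- Steps A and B -/
theorem op_N (O : TypeO Ω) (hc : Cls χ) {v w : ZMod 3 × M × ZMod 3} (hv : bV r v v = 1)
    (hv0 : v.2.2 = 0) (hw : bV r w w = 1) : Ψ r v ▷ Ψ r w = Ψ r (ref r v w) := by
  have hvχ : ¬ χ (Ψ r v) := fun h => (Ψ_χ r O hc hv).1 h hv0
  by_cases hw0 : w.2.2 = 0
  · have hwχ : ¬ χ (Ψ r w) := fun h => (Ψ_χ r O hc hw).1 h hw0
    have hn := norm_ref r O hv hw
    apply det1 r O hc
    · rw [χ_conj O hc hvχ]; exact hwχ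
    · rw [Ψ_χ r O hc hn]
      push Not
      unfold ref
      simp [hv0, hw0]
    · intro z hz
      obtain ⟨t, rfl⟩ := r.y_surj O hc hz
      have e1 : cm (r.y t) (Ψ r v ▷ Ψ r w) ↔ pp (Ψ r v ▷ Ψ r w) (r.y t) := by
        constructor
        · intro h
          refine ⟨cm_symm h, ?_⟩
          intro e
          apply hwχ
          rw [← χ_conj O hc hvχ, e]; exact r.y_χ O t
        · intro h; exact cm_symm h.1
      have e2 : cm (r.y t) (Ψ r (ref r v w)) ↔ pp (Ψ r (ref r v w)) (r.y t) := by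
        constructor
        · intro h
          refine ⟨cm_symm h, ?_⟩
          intro e
          have : χ (Ψ r (ref r v w)) := by rw [e]; exact r.y_χ O t
          rw [Ψ_χ r O hc hn] at this
          apply this
          unfold ref
          simp [hv0, hw0]
        · intro h; exact cm_symm h.1
      rw [e1, e2, pp_aut_op, ← Ψ_E, op_A r O hc hv hv0,
        pp_Ψ_iff r O hc hw (norm_ref r O hv (norm_E r O t)),
        pp_Ψ_iff r O hc hn (norm_E r O t), bV_ref_symm r O]
  · -- `w = ± E t`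
    have hb := sq_one hw0
    obtain ⟨α, t, β⟩ := w
    change β ≠ 0 at hw0
    change β * β = 1 at hb
    have hw' : α * β + α * β + r.Q t = 1 := by
      have := hw; unfold bV at this; rw [r.b_self O] at this; exact this
    have hE : E r (β • t) = β • (α, t, β) := by
      have h3 : (3 : ZMod 3) = 0 := by decide
      have e1 : r.Q (β • t) - 1 = β * α := by
        rw [Q_smul r O, hb, one_mul]
        linear_combination hw' - (α * β) * h3
      unfold E
      rw [e1]
      simp [hb]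
    have key : Ψ r v ▷ Ψ r (E r (β • t)) = Ψ r (ref r v (E r (β • t))) :=
      op_A r O hc hv hv0 _
    rcases eq_one_or_neg hw0 with hβ | hβ
    · rw [hE, hβ, one_smul, ← hβ] at key
      exact key
    · rw [hE, hβ, neg_smul, one_smul, ← hβ, ref_neg r O, Ψ_neg' r O hc hw,
        Ψ_neg' r O hc (norm_ref r O hv hw)] at key
      exact key

theorem ref_swap {v w : ZMod 3 × M × ZMod 3} (h : bV r v w ≠ 0) :
    ref r w v = bV r v w • ref r v w := by
  unfold ref
  rw [bV_symm r w v, smul_add, smul_smul, sq_one h, one_smul, add_comm]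

/-- Step D: points are determined by their neighbours on the lines of the class -/
theorem det2 (r : OrthO5.Rep χ M) (O : TypeO Ω) (hc : Cls χ) {c d : Ω} (hcc : χ c)
    (h : ∀ p, ¬ χ p → (pp c p ↔ pp d p)) : c = d := by
  have hd : χ d := by
    obtain ⟨x, a, hl⟩ := hc
    rw [← hl.2] at hcc ⊢
    unfold X at *
    rw [h _ hl.not_left, h _ hl.swap.not_left, h _ (Lc.third hl).swap.not_left] at hcc
    exact hcc
  obtain ⟨s, rfl⟩ := r.y_surj O hc hcc
  obtain ⟨t, rfl⟩ := r.y_surj O hc hd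
  have h1 : ∀ u, r.Lam u → r.P s u = r.P t u := by
    intro u hu
    have hne : ∀ t, r.y t ≠ r.φ (r.P s u • u) (r.x0 u) := by
      intro t e
      apply not_χ_line r O hu (r.P s u • u)
      rw [← e]; exact r.y_χ O t
    have := (h _ (not_χ_line r O hu (r.P s u • u))).1 ⟨r.cm_y_x0 O hu s, hne s⟩
    exact (r.cm_y_iff O hu t _).1 this.1
  have h2 : s - t = 0 := by
    apply r.b_nondeg O hc
    intro m
    refine r.induction (p := fun m => r.b (s - t) m = 0) (r.b_zero _) ?_ m
    intro u hu m hm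
    rw [r.b_add_lam O hu, hm, zero_add, ← r.b_lam O hu, b_sub_left r O, r.b_lam O hu,
      r.b_lam O hu, h1 u hu, sub_self]
  rw [sub_eq_zero.1 h2]

theorem op_half (O : TypeO Ω) (hc : Cls χ) {v w : ZMod 3 × M × ZMod 3} (hv : bV r v v = 1)
    (hw : bV r w w = 1) (hw0 : w.2.2 = 0) : Ψ r v ▷ Ψ r w = Ψ r (ref r v w) := by
  have hn := norm_ref r O hv hw
  by_cases hv0 : v.2.2 = 0
  · exact op_N r O hc hv hv0 hw
  by_cases h0 : bV r v w = 0
  · have : cm (Ψ r v) (Ψ r w) := ((pp_Ψ_iff r O hc hv hw).2 h0).1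
    have h1 : Ψ r v ▷ Ψ r w = Ψ r w := this
    rw [h1]
    unfold ref
    rw [h0, zero_smul, add_zero]
  have he : Ψ r v ≠ Ψ r w := by
    intro e
    have h1 := (Ψ_χ r O hc hv).2 hv0
    rw [e] at h1
    exact (Ψ_χ r O hc hw).1 h1 hw0
  have hnc : ¬ cm (Ψ r v) (Ψ r w) := fun h => h0 ((pp_Ψ_iff r O hc hv hw).1 ⟨h, he⟩)
  rw [op_comm hnc, op_N r O hc hw hw0 hv, ref_swap r h0]
  rcases eq_one_or_neg h0 with e | e
  · rw [e, one_smul]
  · rw [e, neg_smul, one_smul, Ψ_neg' r O hc hn]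

/-- the reflections -/
theorem op_Ψ (O : TypeO Ω) (hc : Cls χ) {v w : ZMod 3 × M × ZMod 3} (hv : bV r v v = 1)
    (hw : bV r w w = 1) : Ψ r v ▷ Ψ r w = Ψ r (ref r v w) := by
  have hn := norm_ref r O hv hw
  by_cases h0 : bV r v w = 0
  · have : cm (Ψ r v) (Ψ r w) := ((pp_Ψ_iff r O hc hv hw).2 h0).1
    have h1 : Ψ r v ▷ Ψ r w = Ψ r w := this
    rw [h1]
    unfold ref
    rw [h0, zero_smul, add_zero]
  by_cases he : Ψ r v = Ψ r w
  · rw [he, idem]
    rcases Ψ_inj r O hc hv hw he with e | e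
    · subst e
      have : ref r v v = - v := by
        unfold ref
        have h2 : v + (1 : ZMod 3) • v = (2 : ZMod 3) • v := by
          rw [two', one_smul]
        have h3 : (2 : ZMod 3) = -1 := by decide
        rw [hv, h2, h3, neg_smul, one_smul]
      rw [this, Ψ_neg' r O hc hv]
    · subst e
      have h4 : bV r (-w) w = -1 := by
        have : bV r (-w) w = - bV r w w := (BV r O).map_neg₂ w w
        rw [this, hw]
      have : ref r (-w) w = - w := by
        unfold ref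
        rw [h4, neg_smul, one_smul, neg_neg]
        have h2 : w + w = (2 : ZMod 3) • w := by
          rw [two']
        have h3 : (2 : ZMod 3) = -1 := by decide
        rw [h2, h3, neg_smul, one_smul]
      rw [this, Ψ_neg' r O hc hw]
  have hnc : ¬ cm (Ψ r v) (Ψ r w) := fun h => h0 ((pp_Ψ_iff r O hc hv hw).1 ⟨h, he⟩)
  by_cases hv0 : v.2.2 = 0
  · exact op_N r O hc hv hv0 hw
  by_cases hw0 : w.2.2 = 0
  · exact op_half r O hc hv hw hw0
  by_cases hχ : χ (Ψ r v ▷ Ψ r w)
  · apply det2 r O hc hχ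
    intro p hp
    obtain ⟨z, hz, rfl⟩ := Ψ_surj r O hc p
    have hz0 : z.2.2 = 0 := by
      by_contra h
      exact hp ((Ψ_χ r O hc hz).2 h)
    rw [pp_aut_op, op_half r O hc hv hz hz0, pp_Ψ_iff r O hc hw (norm_ref r O hv hz),
      pp_Ψ_iff r O hc hn hz, bV_ref_symm r O]
  · obtain ⟨z, hz, hcz⟩ := Ψ_surj r O hc (Ψ r v ▷ Ψ r w)
    have hz0 : z.2.2 = 0 := by
      by_contra h
      apply hχ
      rw [← hcz]
      exact (Ψ_χ r O hc hz).2 h
    have h1 : Ψ r w = Ψ r (ref r v z) := by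
      rw [← op_half r O hc hv hz hz0, hcz, invol]
    rw [← hcz]
    rcases Ψ_inj r O hc hw (norm_ref r O hv hz) h1 with e | e
    · rw [e, ref_ref r O hv]
    · rw [e, ref_neg r O, ref_ref r O hv, Ψ_neg' r O hc hz]

end Cfsg.Agent.Fischer3.OrthO7
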