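import Cfsg.Agent.Fischer3.OrthO7

set_option autoImplicit false
set_option linter.unusedSectionVars false

/-!
# Fischer spaces of orthogonal type over the field with three elements: the theorem
-/

namespace Cfsg.Agent.Fischer3.OrthO8

open OrthO1 OrthO2 OrthO3 OrthO4 OrthO5 OrthO6 OrthO7

local infixr:70 " ▷ " => TK.op

universe u

/-- the group `R` is commutative -/
@[reducible] def commGroupR {Ω : Type u} [TK Ω] [Finite Ω] (χ : Ω → Prop) (O : TypeO Ω) :
    CommGroup (R χ) :=
  { (inferInstance : Group (R χ)) with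
    mul_comm := fun g h => Subtype.ext (R_comm O g.2 h.2) }

/-- the module structure -/
@[reducible] def moduleR {Ω : Type u} [TK Ω] [Finite Ω] (χ : Ω → Prop) (O : TypeO Ω) :
    letI := commGroupR χ O
    Module (ZMod 3) (Additive (R χ)) :=
  letI := commGroupR χ O
  AddCommGroup.zmodModule (n := 3) (fun x => by
    have h : (x.toMul : R χ) * x.toMul * x.toMul = 1 := Subtype.ext (R_cube O x.toMul.2)
    have h2 : (x + x + x) = 0 := by
      apply Additive.toMul.injective
      exact h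
    have h3 : 3 • x = x + x + x := by
      rw [succ_nsmul, two_nsmul]
    rw [h3, h2])

/-- a model of the class -/
structure Model (Ω : Type u) [TK Ω] (V : Type u) [AddCommGroup V] [Module (ZMod 3) V]
    (B : LinearMap.BilinForm (ZMod 3) V) (Ψ : V → Ω) : Prop where
  symm : ∀ v w, B v w = B w v
  nondeg : ∀ v, (∀ w, B v w = 0) → v = 0
  surj : ∀ d, ∃ v, B v v = 1 ∧ Ψ v = d
  neg : ∀ v, B v v = 1 → Ψ (-v) = Ψ v
  inj : ∀ v w, B v v = 1 → B w w = 1 → Ψ v = Ψ w → v = w ∨ v = -w
  pp_iff : ∀ v w, B v v = 1 → B w w = 1 → (pp (Ψ v) (Ψ w) ↔ B v w = 0)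
  op : ∀ v w, B v v = 1 → B w w = 1 → Ψ v ▷ Ψ w = Ψ (w + B v w • v)

theorem exists_model {Ω : Type u} [TK Ω] [Finite Ω] (O : TypeO Ω) :
    ∃ (V : Type u) (_ : AddCommGroup V) (_ : Module (ZMod 3) V) (_ : Finite V)
      (B : LinearMap.BilinForm (ZMod 3) V) (Ψ : V → Ω), Model Ω V B Ψ := by
  obtain ⟨x, a, b, hA⟩ := O.ex
  set χ : Ω → Prop := fun d => X x a d with hχ
  have hc : Cls χ := ⟨x, a, hA.xa, fun d => Iff.rfl⟩
  obtain ⟨z0, hz0⟩ := exists_A O hc
  let i1 := commGroupR χ O
  let i2 := moduleR χ O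
  let r : Rep χ (Additive (R χ)) :=
    { φ := fun m => ((m.toMul : R χ) : Equiv.Perm Ω)
      add := fun m n => rfl
      inj := fun m n h => Additive.toMul.injective (Subtype.ext h)
      mem := fun m => m.toMul.2
      surj := fun g hg => ⟨Additive.ofMul ⟨g, hg⟩, rfl⟩
      z0 := z0
      hz0 := hz0 }
  have : Finite (Equiv.Perm Ω) := inferInstance
  have : Finite (Additive (R χ)) := inferInstanceAs (Finite (R χ))
  refine ⟨ZMod 3 × Additive (R χ) × ZMod 3, inferInstance, inferInstance, inferInstance,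
    BV r O, OrthO6.Ψ r, ?_, ?_, ?_, ?_, ?_, ?_, ?_⟩
  · intro v w; exact bV_symm r v w
  · intro v h; exact BV_nondeg r O hc h
  · intro d; exact Ψ_surj r O hc d
  · intro v hv; exact Ψ_neg' r O hc hv
  · intro v w hv hw h; exact Ψ_inj r O hc hv hw h
  · intro v w hv hw; exact pp_Ψ_iff r O hc hv hw
  · intro v w hv hw; exact op_Ψ r O hc hv hw

end Cfsg.Agent.Fischer3.OrthO8
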