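import Cfsg.Agent.Fischer3.OrthO8
import Cfsg.Agent.Fischer480.Defs
import Cfsg.Agent.ThreeTransPolar.Basic
import Cfsg.Agent.SporadicStructure.FischerPrimitive
import Cfsg.Agent.SporadicStructure.FischerRank3

set_option autoImplicit false
set_option linter.unusedSectionVars false

/-!
# Fischer spaces of orthogonal type over the field with three elements: the group version
-/

namespace Cfsg.Agent.Fischer3.OrthO9

open OrthO1 OrthO2 OrthO8 Cfsg.Agent.SporadicStructure.FischerSpace Cfsg.Agent.Fischer480.Defs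

universe u

variable {G : Type u} [Group G] {D : Set G}

/-- the kei of a class of 3-transpositions -/
@[reducible] def tk (h : FData D) : TK ↥D where
  op a b := ⟨a.1 * b.1 * a.1⁻¹, h.conj a.1 b.1 b.2⟩
  idem a := by apply Subtype.ext; simp
  invol a b := by
    apply Subtype.ext
    have : a.1⁻¹ = a.1 := h.inv_eq a.2
    change a.1 * (a.1 * b.1 * a.1⁻¹) * a.1⁻¹ = b.1
    rw [this]
    exact h.conj_conj a.2 b.1
  dist a b c := by
    apply Subtype.ext
    change a.1 * (b.1 * c.1 * b.1⁻¹) * a.1⁻¹ =
      (a.1 * b.1 * a.1⁻¹) * (a.1 * c.1 * a.1⁻¹) * (a.1 * b.1 * a.1⁻¹)⁻¹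
    group
  three a b := by
    by_cases hc : Commute a.1 b.1
    · left
      apply Subtype.ext
      change a.1 * b.1 * a.1⁻¹ = b.1
      rw [hc.eq, mul_inv_cancel_right]
    · right
      apply Subtype.ext
      change a.1 * b.1 * a.1⁻¹ = b.1 * a.1 * b.1⁻¹
      rw [h.inv_eq a.2, h.inv_eq b.2]
      exact h.braid _ a.2 _ b.2 hc

theorem cm_iff (h : FData D) (a b : ↥D) : letI := tk h; (cm a b ↔ Commute a.1 b.1) := by
  constructor
  · intro hc
    have := congrArg Subtype.val hc
    change a.1 * b.1 * a.1⁻¹ = b.1 at this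
    exact mul_inv_eq_iff_eq_mul.1 this
  · intro hc
    apply Subtype.ext
    change a.1 * b.1 * a.1⁻¹ = b.1
    rw [hc.eq, mul_inv_cancel_right]

/-- conjugation -/
def cj (h : FData D) (g : G) : Equiv.Perm ↥D where
  toFun a := ⟨g * a.1 * g⁻¹, h.conj g a.1 a.2⟩
  invFun a := ⟨g⁻¹ * a.1 * g, by simpa using h.conj g⁻¹ a.1 a.2⟩
  left_inv a := by apply Subtype.ext; simp [mul_assoc]
  right_inv a := by apply Subtype.ext; simp [mul_assoc]

theorem cj_aut (h : FData D) (g : G) : letI := tk h; IsAut (cj h g) := by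
  intro a b
  apply Subtype.ext
  change g * (a.1 * b.1 * a.1⁻¹) * g⁻¹ =
    (g * a.1 * g⁻¹) * (g * b.1 * g⁻¹) * (g * a.1 * g⁻¹)⁻¹
  group

/-- the geometric input -/
structure GeoO (D : Set G) : Prop where
  never_one : ∀ x ∈ D, ∀ a ∈ D, ∀ b ∈ D, ∀ d ∈ D, ¬ Commute x a → ¬ Commute x b →
    ¬ Commute a b → ¬ Commute (x * a * x⁻¹) b → Commute d x → d ≠ x →
    Commute d a ∨ Commute d b ∨ Commute d (a * b * a⁻¹) ∨
      Commute d (a * (x * b * x⁻¹) * a⁻¹)
  ex : ∃ x ∈ D, ∃ a ∈ D, ∃ b ∈ D, ¬ Commute x a ∧ ¬ Commute x b ∧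
    ¬ Commute a b ∧ ¬ Commute (x * a * x⁻¹) b

theorem typeO [Finite G] (h : FData D)
    (hsol : ∀ N : Subgroup G, N.Normal → Group.IsSolvable ↥N → N = ⊥)
    (hperf : ⁅commutator G, commutator G⁆ = commutator G) (hg : GeoO D) :
    letI := tk h; TypeO ↥D := by
  let _ := tk h
  refine ⟨?_, ?_, ?_, ?_, ?_⟩
  · intro x a b d hA hd hne
    simp only [cm_iff h] at hd ⊢
    obtain ⟨h1, h2, h3, h4⟩ := hA
    rw [cm_iff h] at h1 h2 h3 h4
    exact hg.never_one x.1 x.2 a.1 a.2 b.1 b.2 d.1 d.2 h1 h2 h3 h4 hd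
      (fun e => hne (Subtype.ext e))
  · intro x a y b h1 h2
    rw [cm_iff h] at h1 h2
    obtain ⟨g, hgx⟩ := h.single x.1 x.2 y.1 y.2
    have h3 : ¬ Commute y.1 (g * a.1 * g⁻¹) := by
      rw [← hgx, FData.commute_conj_gen]; exact h1
    obtain ⟨k, hk1, hk2⟩ := SporadicStructure.FischerRank3.col_trans h hsol hperf y.2
      (h.conj g a.1 a.2) b.2 h3 h2
    refine ⟨cj h (k * g), cj_aut h _, ?_, ?_⟩
    · apply Subtype.ext
      change (k * g) * x.1 * (k * g)⁻¹ = y.1
      rw [← hk1]
      rw [← hgx]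
      group
    · apply Subtype.ext
      change (k * g) * a.1 * (k * g)⁻¹ = b.1
      rw [← hk2]
      group
  · obtain ⟨x, hx, a, ha, b, hb, h1, h2, h3, h4⟩ := hg.ex
    refine ⟨⟨x, hx⟩, ⟨a, ha⟩, ⟨b, hb⟩, ?_, ?_, ?_, ?_⟩
    · rw [cm_iff h]; exact h1
    · rw [cm_iff h]; exact h2
    · rw [cm_iff h]; exact h3
    · rw [cm_iff h]; exact h4
  · intro a b hab
    apply Subtype.ext
    by_cases hc : Commute a.1 b.1
    · apply SporadicStructure.FischerPrimitive.eq_of_commute_iff h hsol hperf a.2 b.2
      intro w hw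
      by_cases e1 : w = a.1
      · rw [e1]; exact ⟨fun _ => hc, fun _ => Commute.refl _⟩
      by_cases e2 : w = b.1
      · rw [e2]; exact ⟨fun _ => Commute.refl _, fun _ => hc.symm⟩
      have := hab ⟨w, hw⟩ (fun e => e1 (congrArg Subtype.val e))
        (fun e => e2 (congrArg Subtype.val e))
      rw [cm_iff h, cm_iff h] at this
      exact this
    · apply SporadicStructure.FischerPrimitive.eq_of_perp_iff h hsol hperf a.2 b.2
      intro w hw
      by_cases e1 : w = a.1
      · rw [e1]
        constructor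
        · intro h'; exact absurd rfl h'.1
        · intro h'; exact absurd h'.2 hc
      by_cases e2 : w = b.1
      · rw [e2]
        constructor
        · intro h'; exact absurd h'.2.symm hc
        · intro h'; exact absurd rfl h'.1
      have := hab ⟨w, hw⟩ (fun e => e1 (congrArg Subtype.val e))
        (fun e => e2 (congrArg Subtype.val e))
      rw [cm_iff h, cm_iff h] at this
      constructor
      · intro h'; exact ⟨e2, this.1 h'.2⟩
      · intro h'; exact ⟨e1, this.2 h'.2⟩
  · intro S hS hcl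
    have hstab : ∀ g ∈ Subgroup.closure D, ∀ s ∈ S, cj h g s ∈ S := by
      intro g hg
      have h0 : ∀ d ∈ D, ∀ s ∈ S, cj h d s ∈ S := by
        intro d hd s hs
        by_contra hcon
        by_cases hdS : (⟨d, hd⟩ : ↥D) ∈ S
        · have h1 := hcl _ hdS _ hcon
          rw [cm_iff h] at h1
          -- `d` commutes with `d s d⁻¹`
          have h2 : Commute d (d * s.1 * d⁻¹) := h1
          have h3 : d * s.1 * d⁻¹ = s.1 := by
            have h4 : d * (d * s.1 * d⁻¹) = d * s.1 * d⁻¹ * d := h2.eq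
            have h5 : d * s.1 * d⁻¹ * d = d * s.1 := by group
            rw [h5] at h4
            exact mul_left_cancel h4
          apply hcon
          have : cj h d s = s := Subtype.ext h3
          rw [this]; exact hs
        · have h1 := hcl s hs _ hdS
          rw [cm_iff h] at h1
          apply hcon
          have : cj h d s = s := by
            apply Subtype.ext
            change d * s.1 * d⁻¹ = s.1
            rw [← (show Commute s.1 d from h1).eq, mul_inv_cancel_right]
          rw [this]; exact hs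
      induction hg using Subgroup.closure_induction with
      | mem g hg => exact h0 g hg
      | one =>
        intro s hs
        have : cj h 1 s = s := by apply Subtype.ext; simp [cj]
        rw [this]; exact hs
      | mul g k _ _ i1 i2 =>
        intro s hs
        have : cj h (g * k) s = cj h g (cj h k s) := by
          apply Subtype.ext
          change g * k * s.1 * (g * k)⁻¹ = g * (k * s.1 * k⁻¹) * g⁻¹
          group
        rw [this]; exact i1 _ (i2 s hs)
      | inv g hg i1 =>
        intro s hs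
        -- finite order
        have hfin : Function.Injective (fun s : S => (⟨cj h g s.1, i1 s.1 s.2⟩ : S)) := by
          intro a b hab
          have := congrArg Subtype.val hab
          exact Subtype.ext ((cj h g).injective this)
        have hsurj := Finite.surjective_of_injective hfin
        obtain ⟨t, ht⟩ := hsurj ⟨s, hs⟩
        have h1 : cj h g t.1 = s := congrArg Subtype.val ht
        have : cj h g⁻¹ s = t.1 := by
          rw [← h1]
          apply Subtype.ext
          change g⁻¹ * (g * t.1.1 * g⁻¹) * g⁻¹⁻¹ = t.1.1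
          group
        rw [this]; exact t.2
    obtain ⟨s, hs⟩ := hS
    ext t
    simp only [Set.mem_univ, iff_true]
    obtain ⟨g, hgs⟩ := h.single s.1 s.2 t.1 t.2
    have : cj h g s = t := Subtype.ext hgs
    rw [← this]
    exact hstab g (by rw [h.gen]; trivial) s hs

/-- the model inside the group -/
structure GModel (D : Set G) (V : Type u) [AddCommGroup V] [Module (ZMod 3) V]
    (B : LinearMap.BilinForm (ZMod 3) V) (Ψ : V → G) : Prop where
  mem : ∀ v, Ψ v ∈ D
  symm : ∀ v w, B v w = B w v
  nondeg : ∀ v, (∀ w, B v w = 0) → v = 0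
  surj : ∀ d ∈ D, ∃ v, B v v = 1 ∧ Ψ v = d
  neg : ∀ v, B v v = 1 → Ψ (-v) = Ψ v
  inj : ∀ v w, B v v = 1 → B w w = 1 → Ψ v = Ψ w → v = w ∨ v = -w
  comm_iff : ∀ v w, B v v = 1 → B w w = 1 → (Commute (Ψ v) (Ψ w) ↔ Ψ v = Ψ w ∨ B v w = 0)
  op : ∀ v w, B v v = 1 → B w w = 1 → Ψ v * Ψ w * (Ψ v)⁻¹ = Ψ (w + B v w • v)

theorem exists_gmodel [Finite G] (h : FData D)
    (hsol : ∀ N : Subgroup G, N.Normal → Group.IsSolvable ↥N → N = ⊥)
    (hperf : ⁅commutator G, commutator G⁆ = commutator G) (hg : GeoO D) :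
    ∃ (V : Type u) (_ : AddCommGroup V) (_ : Module (ZMod 3) V) (_ : Finite V)
      (B : LinearMap.BilinForm (ZMod 3) V) (Ψ : V → G), GModel D V B Ψ := by
  let _ := tk h
  obtain ⟨V, i1, i2, i3, B, Ψ, hM⟩ := exists_model (typeO h hsol hperf hg)
  refine ⟨V, i1, i2, i3, B, fun v => (Ψ v).1, fun v => (Ψ v).2, hM.symm, hM.nondeg, ?_, ?_, ?_,
    ?_, ?_⟩
  · intro d hd
    obtain ⟨v, hv, hvd⟩ := hM.surj ⟨d, hd⟩
    exact ⟨v, hv, congrArg Subtype.val hvd⟩
  · intro v hv
    exact congrArg Subtype.val (hM.neg v hv)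
  · intro v w hv hw e
    exact hM.inj v w hv hw (Subtype.ext e)
  · intro v w hv hw
    have h1 := hM.pp_iff v w hv hw
    unfold pp at h1
    rw [cm_iff h] at h1
    rw [← h1]
    constructor
    · intro hc
      by_cases e : (Ψ v).1 = (Ψ w).1
      · exact Or.inl e
      · exact Or.inr ⟨hc, fun e' => e (congrArg Subtype.val e')⟩
    · rintro (e | e)
      · rw [e]
      · exact e.1
  · intro v w hv hw
    exact congrArg Subtype.val (hM.op v w hv hw)

/-- transport to coordinates -/
theorem isR_of_gmodel {V : Type u} [AddCommGroup V] [Module (ZMod 3) V] [Finite V]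
    {B : LinearMap.BilinForm (ZMod 3) V} {Ψ : V → G} (hM : GModel D V B Ψ) :
    IsR (Module.finrank (ZMod 3) V) D := by
  classical
  have : Module.Finite (ZMod 3) V := Module.Finite.of_finite
  let e : V ≃ₗ[ZMod 3] (Fin (Module.finrank (ZMod 3) V) → ZMod 3) :=
    (Module.finBasis (ZMod 3) V).equivFun
  let B' : LinearMap.BilinForm (ZMod 3) (Fin (Module.finrank (ZMod 3) V) → ZMod 3) :=
    B.compl₁₂ e.symm.toLinearMap e.symm.toLinearMap
  have hB' : ∀ v w, B' v w = B (e.symm v) (e.symm w) := fun v w => rfl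
  choose! f hf using hM.surj
  refine ⟨B', fun g => e (f g), ?_, ?_, ?_, ?_, ?_, ?_⟩
  · refine ⟨fun v w => ?_⟩
    rw [hB', hB', hM.symm]
    try rfl
  · constructor
    · intro v hv
      have h1 : e.symm v = 0 := by
        apply hM.nondeg
        intro w
        have := hv (e w)
        rw [hB'] at this
        simpa using this
      simpa using h1
    · intro v hv
      have h1 : e.symm v = 0 := by
        apply hM.nondeg
        intro w
        rw [hM.symm]
        have := hv (e w)
        rw [hB'] at this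
        simpa using this
      simpa using h1
  · intro x hx
    rw [hB']
    simpa using (hf x hx).1
  · intro x hx y hy
    rw [hB']
    simp only [LinearEquiv.symm_apply_apply]
    have := hM.comm_iff (f x) (f y) (hf x hx).1 (hf y hy).1
    rw [(hf x hx).2, (hf y hy).2] at this
    exact this
  · intro x hx y hy hxy
    have h1 : f x = f y ∨ f x = - f y := by
      rcases hxy with h1 | h1
      · exact Or.inl (e.injective h1)
      · right
        apply e.injective
        rw [map_neg]; exact h1
    rw [← (hf x hx).2, ← (hf y hy).2]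
    rcases h1 with h1 | h1
    · rw [h1]
    · rw [h1, hM.neg _ (hf y hy).1]
  · intro v hv
    rw [hB'] at hv
    refine ⟨Ψ (e.symm v), hM.mem _, ?_⟩
    have h1 := hf _ (hM.mem (e.symm v))
    rcases hM.inj _ _ h1.1 hv h1.2 with h2 | h2
    · left
      change v = e (f (Ψ (e.symm v)))
      rw [h2]; simp
    · right
      change v = - e (f (Ψ (e.symm v)))
      rw [h2]; simp

/-- **Theorem (O)** -/
theorem exists_isR [Finite G] (F : FGroup D) (hg : GeoO D) : ∃ m, IsR m D := by
  obtain ⟨V, _, _, _, B, Ψ, hM⟩ := exists_gmodel (fdata_of_class F.cls) F.sol F.perf hg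
  exact ⟨_, isR_of_gmodel hM⟩

end Cfsg.Agent.Fischer3.OrthO9
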